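import Cfsg.Agent.Lib.FixityFour.ThreeCore
import Cfsg.Agent.Lib.Transfer.Thompson
import Cfsg.Agent.Lib.Transfer.Focal
import Cfsg.Agent.Lib.Critical.Basic

/-!
Abelian branch of S4369, the prime three: if the centralizer `A` of a Sylow `2`-subgroup is abelian of
index three in its normalizer `N` and the fixed `3`-elements of `A` have centralizer `N`, then a perfect
group has no element of order three in `A`.
-/

set_option autoImplicit false
set_option linter.style.haveILetI false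
set_option linter.unusedSectionVars false

namespace CfsgLib.MinNonCA

open scoped commutatorElement

/-- The data of the lemma. -/
structure ThreeCtx (Q : Type*) [Group Q] [Finite Q] where
  /-- A Sylow `2`-subgroup. -/
  V : Sylow 2 Q
  /-- Its centralizer. -/
  A : Subgroup Q
  /-- An element of the normalizer outside `A`. -/
  n : Q
  eA : A = Subgroup.centralizer ((V : Subgroup Q) : Set Q)
  comm : ∀ a ∈ A, ∀ b ∈ A, a * b = b * a
  idx : A.relIndex (Subgroup.normalizer ((V : Subgroup Q) : Set Q)) = 3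
  mem_n : n ∈ Subgroup.normalizer ((V : Subgroup Q) : Set Q)
  n_notMem : n ∉ A
  n_three : ∃ k : ℕ, n ^ 3 ^ k = 1
  fix : ∀ e ∈ A, e ≠ 1 → (∃ k : ℕ, e ^ 3 ^ k = 1) → Commute e n →
    Subgroup.centralizer ({e} : Set Q) = Subgroup.normalizer ((V : Subgroup Q) : Set Q) ∧
      ∀ g : Q, g * e * g⁻¹ ∈ Subgroup.zpowers e → g ∈ Subgroup.normalizer ((V : Subgroup Q) : Set Q)

namespace ThreeCtx

variable {Q : Type*} [Group Q] [Finite Q] (C : ThreeCtx Q)

/-- The normalizer. -/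
abbrev N : Subgroup Q := Subgroup.normalizer ((C.V : Subgroup Q) : Set Q)

theorem A_le_N : C.A ≤ C.N := C.eA.le.trans fun a ha =>
  Subgroup.mem_normalizer_fintype fun v hv => by
    have h := Subgroup.mem_centralizer_iff.mp ha v hv
    rw [show a * v * a⁻¹ = v by rw [← h, mul_inv_cancel_right]]
    exact hv

theorem A_conj {g : Q} (hg : g ∈ C.N) {a : Q} (ha : a ∈ C.A) : g * a * g⁻¹ ∈ C.A := by
  rw [C.eA] at ha ⊢
  refine Subgroup.mem_centralizer_iff.mpr fun v hv => ?_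
  have h := Subgroup.mem_centralizer_iff.mp ha (g⁻¹ * v * g)
    (by
      have h' := (Subgroup.mem_normalizer_iff.mp (inv_mem hg) v).mp hv
      rw [inv_inv] at h'
      exact h')
  calc v * (g * a * g⁻¹) = g * ((g⁻¹ * v * g) * a) * g⁻¹ := by group
    _ = g * (a * (g⁻¹ * v * g)) * g⁻¹ := by rw [h]
    _ = g * a * g⁻¹ * v := by group

instance An_normal : (C.A.subgroupOf C.N).Normal :=
  ⟨fun a ha g => C.A_conj g.2 ha⟩

/-- The map onto the group of order three. -/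
noncomputable def phi : C.N →* Multiplicative (ZMod 3) :=
  haveI : Fact (Nat.Prime 3) := ⟨Nat.prime_three⟩
  (mulEquivOfPrimeCardEq (p := 3) (G := C.N ⧸ C.A.subgroupOf C.N) (G' := Multiplicative (ZMod 3))
    C.idx (by simp [Nat.card_eq_fintype_card])).toMonoidHom.comp (QuotientGroup.mk' _)

theorem phi_eq_one {y : C.N} : C.phi y = 1 ↔ (y : Q) ∈ C.A := by
  haveI : Fact (Nat.Prime 3) := ⟨Nat.prime_three⟩
  simp only [phi, MonoidHom.comp_apply, MulEquiv.coe_toMonoidHom, EmbeddingLike.map_eq_one_iff,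
    QuotientGroup.mk'_apply, QuotientGroup.eq_one_iff, Subgroup.mem_subgroupOf]

theorem gen_all : ∀ a b : Multiplicative (ZMod 3), a ≠ 1 → b = 1 ∨ b = a ∨ b = a * a := by decide

theorem mult_three : ∀ a : Multiplicative (ZMod 3), a ^ 3 = 1 := by decide

theorem cube_mem {y : Q} (hy : y ∈ C.N) : y ^ 3 ∈ C.A :=
  (C.phi_eq_one (y := ⟨y, hy⟩ ^ 3)).mp (by rw [map_pow, mult_three])

/-- Modulo `A` an element of `N` is a power of any element outside. -/
theorem exists_pow {x : Q} (hx : x ∈ C.N) (hxA : x ∉ C.A) {y : Q} (hy : y ∈ C.N) :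
    ∃ i : ℕ, (x ^ i)⁻¹ * y ∈ C.A := by
  have h := gen_all (C.phi ⟨x, hx⟩) (C.phi ⟨y, hy⟩) fun e => hxA (C.phi_eq_one.mp e)
  obtain ⟨i, hi⟩ : ∃ i : ℕ, C.phi ⟨y, hy⟩ = C.phi ⟨x, hx⟩ ^ i := by
    rcases h with h | h | h
    · exact ⟨0, by rw [pow_zero]; exact h⟩
    · exact ⟨1, by rw [pow_one]; exact h⟩
    · exact ⟨2, by rw [pow_two]; exact h⟩
  exact ⟨i, (C.phi_eq_one (y := (⟨x, hx⟩ ^ i)⁻¹ * ⟨y, hy⟩)).mp
    (by rw [map_mul, map_inv, map_pow, ← hi, inv_mul_cancel])⟩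

theorem comm_of_outside {e x : Q} (he : e ∈ C.A) (hx : x ∈ C.N) (hxA : x ∉ C.A) (hc : Commute e x)
    {y : Q} (hy : y ∈ C.N) : Commute e y := by
  obtain ⟨i, hi⟩ := C.exists_pow hx hxA hy
  have h := (hc.pow_right i).mul_right (show Commute e _ from C.comm e he _ hi)
  rwa [mul_inv_cancel_left] at h

theorem mem_N_of_le {g : Q} (h : ∀ v ∈ (C.V : Subgroup Q), g * v * g⁻¹ ∈ C.N) : g ∈ C.N := by
  refine Subgroup.mem_normalizer_fintype fun v hv => ?_
  have hle : (C.V : Subgroup Q).map (MulAut.conj g).toMonoidHom ≤ C.N := by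
    rintro _ ⟨w, hw, rfl⟩
    exact h w hw
  have hp : IsPGroup 2 ((C.V : Subgroup Q).map (MulAut.conj g).toMonoidHom) := C.V.isPGroup'.map _
  have hsup := C.V.is_maximal' (hp.to_sup_of_normal_right' C.V.isPGroup' hle) le_sup_right
  exact hsup.le (Subgroup.mem_sup_left ⟨v, hv, rfl⟩)

theorem mem_N_of_conj {e g : Q} (he : Subgroup.centralizer ({e} : Set Q) = C.N)
    (hg : g⁻¹ * e * g ∈ C.A) : g ∈ C.N := by
  refine C.mem_N_of_le fun v hv => ?_
  rw [← he, Subgroup.mem_centralizer_singleton_iff]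
  rw [C.eA] at hg
  have h := Subgroup.mem_centralizer_iff.mp hg v hv
  calc g * v * g⁻¹ * e = g * (v * (g⁻¹ * e * g)) * g⁻¹ := by group
    _ = g * ((g⁻¹ * e * g) * v) * g⁻¹ := by rw [h]
    _ = e * (g * v * g⁻¹) := by group

theorem cube_comm {K : Type*} [CommGroup K] (a b c : K) :
    a * b⁻¹ * (b * c⁻¹)⁻¹ * (b * c⁻¹ * (c * a⁻¹)⁻¹)⁻¹ = c ^ 3 * (b ^ 3)⁻¹ := by
  apply Additive.ofMul.injective
  simp only [ofMul_mul, ofMul_inv, ofMul_pow]
  abel

/-- An element of order three of `A` gives one fixed by an element of `N`. -/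
theorem exists_fix_step {x : Q} (hx : x ∈ C.N) {s : Q} (hs : s ∈ C.A) (hs1 : s ≠ 1) (hs3 : s ^ 3 = 1) :
    ∃ t ∈ C.A, t ≠ 1 ∧ t ^ 3 = 1 ∧ Commute t x ∧ (t = s ∨ ∃ a ∈ C.A, a * x * a⁻¹ * x⁻¹ = t) := by
  have hD : ∀ a ∈ C.A, a * x * a⁻¹ * x⁻¹ ∈ C.A := fun a ha => by
    rw [show a * x * a⁻¹ * x⁻¹ = a * (x * a⁻¹ * x⁻¹) by group]
    exact mul_mem ha (C.A_conj hx (inv_mem ha))
  have hD3 : ∀ a ∈ C.A, a ^ 3 = 1 → (a * x * a⁻¹ * x⁻¹) ^ 3 = 1 := fun a ha h3 => by
    rw [show a * x * a⁻¹ * x⁻¹ = a * (x * a⁻¹ * x⁻¹) by group,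
      Commute.mul_pow (C.comm a ha _ (C.A_conj hx (inv_mem ha))), conj_pow, inv_pow, h3]
    group
  have hfix : ∀ a, a * x * a⁻¹ * x⁻¹ = 1 → Commute a x := fun a h => by
    have h' := mul_inv_eq_one.mp h
    exact mul_inv_eq_iff_eq_mul.mp h'
  obtain ⟨s1, hs1d⟩ : ∃ r, r = s * x * s⁻¹ * x⁻¹ := ⟨_, rfl⟩
  obtain ⟨s2, hs2d⟩ : ∃ r, r = s1 * x * s1⁻¹ * x⁻¹ := ⟨_, rfl⟩
  have h1A : s1 ∈ C.A := hs1d ▸ hD s hs
  have h2A : s2 ∈ C.A := hs2d ▸ hD s1 h1A
  have h13 : s1 ^ 3 = 1 := hs1d ▸ hD3 s hs hs3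
  have h23 : s2 ^ 3 = 1 := hs2d ▸ hD3 s1 h1A h13
  by_cases h1 : s1 = 1
  · exact ⟨s, hs, hs1, hs3, hfix s (hs1d.symm.trans h1), Or.inl rfl⟩
  by_cases h2 : s2 = 1
  · exact ⟨s1, h1A, h1, h13, hfix s1 (hs2d.symm.trans h2), Or.inr ⟨s, hs, hs1d.symm⟩⟩
  refine ⟨s2, h2A, h2, h23, hfix s2 ?_, Or.inr ⟨s1, h1A, hs2d.symm⟩⟩
  -- the third step is trivial
  letI : CommGroup C.A := { (inferInstance : Group C.A) with
    mul_comm := fun a b => Subtype.ext (C.comm a a.2 b b.2) }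
  set a0 : C.A := ⟨s, hs⟩ with ha0
  set a1 : C.A := ⟨x * s * x⁻¹, C.A_conj hx hs⟩ with ha1
  set a2 : C.A := ⟨x * (x * s * x⁻¹) * x⁻¹, C.A_conj hx (C.A_conj hx hs)⟩ with ha2
  have h3 : x * (x * (x * s * x⁻¹) * x⁻¹) * x⁻¹ = s := by
    calc x * (x * (x * s * x⁻¹) * x⁻¹) * x⁻¹ = x ^ 3 * s * (x ^ 3)⁻¹ := by
          simp [pow_succ, mul_assoc]
      _ = s := by rw [C.comm _ (C.cube_mem hx) s hs, mul_inv_cancel_right]
  have hc3 : ∀ g : Q, (g * s * g⁻¹) ^ 3 = 1 := fun g => by rw [conj_pow, hs3]; group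
  have hb : a1 ^ 3 = 1 := Subtype.ext (hc3 x)
  have hc : a2 ^ 3 = 1 := Subtype.ext (show (x * (x * s * x⁻¹) * x⁻¹) ^ 3 = 1 by
    rw [conj_pow, hc3 x]; group)
  have h := congrArg Subtype.val (cube_comm a0 a1 a2)
  rw [hb, hc] at h
  simp only [Subgroup.coe_mul, InvMemClass.coe_inv, OneMemClass.coe_one, inv_one, mul_one] at h
  refine Eq.trans ?_ h
  simp only [ha0, ha1, ha2, hs2d, hs1d]
  conv_rhs => enter [2, 1, 2, 1, 2, 1]; rw [← h3]
  group

theorem exists_fixed (hR : ∃ e ∈ C.A, orderOf e = 3) :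
    ∃ d ∈ C.A, d ≠ 1 ∧ d ^ 3 = 1 ∧ Commute d C.n := by
  obtain ⟨e, he, ho⟩ := hR
  obtain ⟨t, ht, ht1, ht3, htn, -⟩ := C.exists_fix_step C.mem_n he
    (fun h => by rw [h, orderOf_one] at ho; omega) (ho ▸ pow_orderOf_eq_one e)
  exact ⟨t, ht, ht1, ht3, htn⟩

/-- A maximal `3`-subgroup of `N` through `n`. -/
theorem exists_P0 : ∃ P0 : Subgroup Q, P0 ≤ C.N ∧ IsPGroup 3 P0 ∧ C.n ∈ P0 ∧
    (∀ e ∈ C.A, (∃ k : ℕ, e ^ 3 ^ k = 1) → e ∈ P0) ∧
    (∀ M : Subgroup Q, M ≤ C.N → IsPGroup 3 M → P0 ≤ M → M = P0) ∧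
    ∀ x ∈ C.N, (∃ k : ℕ, x ^ 3 ^ k = 1) → ∃ c ∈ C.N, c * x * c⁻¹ ∈ P0 := by
  haveI : Fact (Nat.Prime 3) := ⟨Nat.prime_three⟩
  have hz : ∀ x : C.N, (∃ k : ℕ, (x : Q) ^ 3 ^ k = 1) → IsPGroup 3 (Subgroup.zpowers x) := by
    rintro x ⟨k, hk⟩ ⟨y, hy⟩
    obtain ⟨i, rfl⟩ := Subgroup.mem_zpowers_iff.mp hy
    refine ⟨k, Subtype.ext ?_⟩
    show (x ^ i) ^ 3 ^ k = 1
    rw [← zpow_natCast, ← zpow_mul, mul_comm, zpow_mul, zpow_natCast,
      show x ^ 3 ^ k = 1 from Subtype.ext (by simpa using hk), one_zpow]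
  obtain ⟨S, hS⟩ := (hz ⟨C.n, C.mem_n⟩ C.n_three).exists_le_sylow
  refine ⟨(S : Subgroup C.N).map C.N.subtype, Subgroup.map_subtype_le _, S.isPGroup'.map _,
    ⟨_, hS (Subgroup.mem_zpowers _), rfl⟩, fun e he hk => ?_, fun M hMN hM hle => ?_, fun x hx hk => ?_⟩
  · -- the three part of `A` is normal
    obtain ⟨k, hk⟩ := hk
    let R : Subgroup C.N :=
      { carrier := {y | (y : Q) ∈ C.A ∧ ∃ j : ℕ, (y : Q) ^ 3 ^ j = 1}
        one_mem' := ⟨one_mem _, 0, by simp⟩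
        mul_mem' := by
          rintro a b ⟨ha, i, hi⟩ ⟨hb, j, hj⟩
          refine ⟨mul_mem ha hb, i + j, ?_⟩
          rw [Subgroup.coe_mul, Commute.mul_pow (C.comm _ ha _ hb), pow_add, pow_mul, hi, one_pow,
            one_mul, mul_comm (3 ^ i), pow_mul, hj, one_pow]
        inv_mem' := by
          rintro a ⟨ha, i, hi⟩
          exact ⟨inv_mem ha, i, by rw [Subgroup.coe_inv, inv_pow, hi, inv_one]⟩ }
    haveI : R.Normal := ⟨fun a ⟨ha, i, hi⟩ g => ⟨C.A_conj g.2 ha, i, by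
      simp [conj_pow, hi]⟩⟩
    have hRp : IsPGroup 3 R := fun ⟨y, _, i, hi⟩ => ⟨i, Subtype.ext (Subtype.ext (by simpa using hi))⟩
    have hRS : R ≤ (S : Subgroup C.N) :=
      sup_eq_right.mp (S.is_maximal' (hRp.to_sup_of_normal_left S.isPGroup') le_sup_right)
    exact ⟨⟨e, C.A_le_N he⟩, hRS ⟨he, k, hk⟩, rfl⟩
  · have h1 : M.subgroupOf C.N = (S : Subgroup C.N) :=
      S.is_maximal' (hM.comap_of_injective C.N.subtype C.N.subtype_injective)
        fun y hy => hle ⟨y, hy, rfl⟩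
    rw [← h1, Subgroup.subgroupOf_map_subtype, inf_eq_left.mpr hMN]
  · obtain ⟨S', hS'⟩ := (hz ⟨x, hx⟩ hk).exists_le_sylow
    obtain ⟨c, hc⟩ := MulAction.exists_smul_eq C.N S' S
    refine ⟨c, c.2, c * ⟨x, hx⟩ * c⁻¹, ?_, rfl⟩
    rw [← hc]
    exact Subgroup.smul_mem_pointwise_smul (⟨x, hx⟩ : C.N) (MulAut.conj c) _
      (hS' (Subgroup.mem_zpowers _))

variable {d : Q} (hd : d ∈ C.A) (hd1 : d ≠ 1) (hd3 : d ^ 3 = 1) (hdn : Commute d C.n)
include hd hd1 hd3 hdn

theorem d_fix : Subgroup.centralizer ({d} : Set Q) = C.N ∧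
    ∀ g : Q, g * d * g⁻¹ ∈ Subgroup.zpowers d → g ∈ C.N :=
  C.fix d hd hd1 ⟨1, by rwa [pow_one]⟩ hdn

theorem mem_N_iff {g : Q} : g ∈ C.N ↔ Commute g d := by
  rw [← (C.d_fix hd hd1 hd3 hdn).1, Subgroup.mem_centralizer_singleton_iff]
  exact Iff.rfl

theorem comm_d {g : Q} (hg : g ∈ C.N) : Commute g d := (C.mem_N_iff hd hd1 hd3 hdn).mp hg

theorem not_inverted (g : Q) : g * d * g⁻¹ ≠ d⁻¹ := by
  intro h
  have hg := (C.d_fix hd hd1 hd3 hdn).2 g (h ▸ inv_mem (Subgroup.mem_zpowers d))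
  rw [(C.comm_d hd hd1 hd3 hdn hg).eq, mul_inv_cancel_right] at h
  refine hd1 ?_
  calc d = d ^ 3 * (d * d)⁻¹ := by simp [pow_succ, mul_assoc]
    _ = 1 := by
      rw [hd3]
      nth_rw 1 [h]
      simp

/-- A conjugate of `d` commuting with `d` is `d`, if the three part of `A` is not `⟨d⟩`. -/
theorem conj_eq (hbig : ∃ r ∈ C.A, (∃ k : ℕ, r ^ 3 ^ k = 1) ∧ r ∉ Subgroup.zpowers d) (g : Q)
    (hc : Commute (g * d * g⁻¹) d) : g * d * g⁻¹ = d := by
  have hdC := (C.d_fix hd hd1 hd3 hdn).1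
  by_cases hgN : g ∈ C.N
  · rw [(C.comm_d hd hd1 hd3 hdn hgN).eq, mul_inv_cancel_right]
  exfalso
  obtain ⟨x, hxd⟩ : ∃ x, x = g * d * g⁻¹ := ⟨_, rfl⟩
  obtain ⟨y, hyd⟩ : ∃ y, y = g⁻¹ * d * g := ⟨_, rfl⟩
  have hxN : x ∈ C.N := (C.mem_N_iff hd hd1 hd3 hdn).mpr (hxd ▸ hc)
  have hyc : Commute y d := by
    have h : g * d * g⁻¹ * d = d * (g * d * g⁻¹) := hc
    show y * d = d * y
    calc y * d = g⁻¹ * (d * (g * d * g⁻¹)) * g := by rw [hyd]; group
      _ = g⁻¹ * (g * d * g⁻¹ * d) * g := by rw [h]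
      _ = d * y := by rw [hyd]; group
  have hyN : y ∈ C.N := (C.mem_N_iff hd hd1 hd3 hdn).mpr hyc
  have hxA : x ∉ C.A := fun h => hgN (inv_inv g ▸ inv_mem
    (C.mem_N_of_conj (g := g⁻¹) hdC (by rw [inv_inv]; exact hxd ▸ h)))
  have hyA : y ∉ C.A := fun h => hgN (C.mem_N_of_conj hdC (hyd ▸ h))
  -- the fixed three elements of `A`
  have hE : ∀ e ∈ C.A, (∃ k : ℕ, e ^ 3 ^ k = 1) → Commute e C.n → e ∈ Subgroup.zpowers d := by
    intro e he hk hen
    have hex : Commute e x := C.comm_of_outside he C.mem_n C.n_notMem hen hxN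
    have hyeN : g⁻¹ * e * g ∈ C.N := by
      refine (C.mem_N_iff hd hd1 hd3 hdn).mpr ?_
      have h : e * (g * d * g⁻¹) = g * d * g⁻¹ * e := hxd ▸ hex.eq
      show g⁻¹ * e * g * d = d * (g⁻¹ * e * g)
      calc g⁻¹ * e * g * d = g⁻¹ * (e * (g * d * g⁻¹)) * g := by group
        _ = g⁻¹ * (g * d * g⁻¹ * e) * g := by rw [h]
        _ = d * (g⁻¹ * e * g) := by group
    obtain ⟨i, hi⟩ := C.exists_pow hyN hyA hyeN
    rw [show (y ^ i)⁻¹ * (g⁻¹ * e * g) = g⁻¹ * ((d ^ i)⁻¹ * e) * g by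
      rw [hyd, show g⁻¹ * d * g = g⁻¹ * d * g⁻¹⁻¹ by rw [inv_inv], conj_pow]; group] at hi
    have hdi : (d ^ i)⁻¹ ∈ C.A := inv_mem (pow_mem hd i)
    by_contra hne
    obtain ⟨k, hk⟩ := hk
    have h := C.fix ((d ^ i)⁻¹ * e) (mul_mem hdi he) (fun h => hne (by
        rw [inv_mul_eq_one] at h; exact h ▸ Subgroup.pow_mem _ (Subgroup.mem_zpowers d) i))
      ⟨k + 1, by
        rw [Commute.mul_pow (C.comm _ hdi e he), pow_succ 3 k, pow_mul e, hk, one_pow, mul_one,
          inv_pow, ← pow_mul, mul_comm i, mul_comm (3 ^ k), pow_mul, pow_mul, hd3, one_pow, one_pow,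
          inv_one]⟩
      (((hdn.pow_left i).inv_left).mul_left hen)
    exact hgN (C.mem_N_of_conj h.1 hi)
  -- the shears
  have hshear : ∀ z ∈ C.N, z ∉ C.A → ∃ r ∈ C.A, r * z * r⁻¹ = z * d := by
    intro z hz hzA
    obtain ⟨r, hrA, ⟨k, hk⟩, hrd⟩ := hbig
    obtain ⟨w, hw⟩ : ∃ w, w = r * z * r⁻¹ * z⁻¹ := ⟨_, rfl⟩
    have hwA : w ∈ C.A := by
      rw [hw, show r * z * r⁻¹ * z⁻¹ = r * (z * r⁻¹ * z⁻¹) by group]
      exact mul_mem hrA (C.A_conj hz (inv_mem hrA))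
    have hw1 : w ≠ 1 := fun h => hrd (hE r hrA ⟨k, hk⟩ (C.comm_of_outside hrA hz hzA
      (mul_inv_eq_iff_eq_mul.mp (mul_inv_eq_one.mp (hw.symm.trans h))) C.mem_n))
    have hwk : w ^ 3 ^ k = 1 := by
      rw [hw, show r * z * r⁻¹ * z⁻¹ = r * (z * r⁻¹ * z⁻¹) by group,
        Commute.mul_pow (C.comm r hrA _ (C.A_conj hz (inv_mem hrA))), conj_pow, inv_pow, hk]
      group
    -- an element of order three among the powers
    obtain ⟨j, hj, hj3⟩ : ∃ j : ℕ, w ^ j ≠ 1 ∧ (w ^ j) ^ 3 = 1 := by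
      obtain ⟨i, hi, hi'⟩ := (Nat.dvd_prime_pow Nat.prime_three).mp (orderOf_dvd_of_pow_eq_one hwk)
      have hi0 : i ≠ 0 := fun h => hw1 (orderOf_eq_one_iff.mp (by rw [hi', h, pow_zero]))
      have hlt : 3 ^ (i - 1) < 3 ^ i := Nat.pow_lt_pow_right (by norm_num) (by omega)
      refine ⟨3 ^ (i - 1), pow_ne_one_of_lt_orderOf (by positivity) (hi'.symm ▸ hlt), ?_⟩
      rw [← pow_mul, ← pow_succ, Nat.sub_add_cancel (by omega), ← hi', pow_orderOf_eq_one]
    have hwj : w ^ j = r ^ j * z * (r ^ j)⁻¹ * z⁻¹ := by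
      rw [hw, show r * z * r⁻¹ * z⁻¹ = r * (z * r⁻¹ * z⁻¹) by group,
        Commute.mul_pow (C.comm r hrA _ (C.A_conj hz (inv_mem hrA))), conj_pow, inv_pow]
      group
    obtain ⟨t, htA, ht1, ht3, htz, ht⟩ := C.exists_fix_step hz (pow_mem hwA j) hj hj3
    obtain ⟨a, haA, hat⟩ : ∃ a ∈ C.A, a * z * a⁻¹ * z⁻¹ = t := by
      rcases ht with rfl | ht
      · exact ⟨r ^ j, pow_mem hrA j, hwj.symm⟩
      · exact ht
    have htd := hE t htA ⟨1, by rwa [pow_one]⟩ (C.comm_of_outside htA hz hzA htz C.mem_n)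
    obtain ⟨i, hi⟩ := (isOfFinOrder_of_finite d).mem_powers_iff_mem_zpowers.mpr htd
    simp only at hi
    have hdz : Commute z d := C.comm_d hd hd1 hd3 hdn hz
    have haz : a * z * a⁻¹ = z * d ^ i := by
      rw [(hdz.pow_right i).eq, hi, ← hat, inv_mul_cancel_right]
    -- make the exponent one
    rw [← pow_mod_orderOf, orderOf_eq_prime (p := 3) (hp := ⟨Nat.prime_three⟩) hd3 hd1] at hi haz
    rcases (show i % 3 = 0 ∨ i % 3 = 1 ∨ i % 3 = 2 by omega) with h | h | h <;> rw [h] at hi haz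
    · exact absurd (hi.symm.trans (pow_zero d)) ht1
    · exact ⟨a, haA, by rw [haz, pow_one]⟩
    · refine ⟨a * a, mul_mem haA haA, ?_⟩
      have had : Commute a d := C.comm a haA d hd
      calc a * a * z * (a * a)⁻¹ = a * (a * z * a⁻¹) * a⁻¹ := by group
        _ = a * (z * d ^ 2) * a⁻¹ := by rw [haz]
        _ = (a * z * a⁻¹) * (a * d ^ 2 * a⁻¹) := by group
        _ = z * d ^ 2 * d ^ 2 := by rw [haz, (had.pow_right 2).eq, mul_inv_cancel_right]
        _ = z * d := by rw [mul_assoc, ← pow_add, show 2 + 2 = 3 + 1 from rfl, pow_succ, hd3, one_mul]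
  obtain ⟨r, hr, hrx⟩ := hshear x hxN hxA
  obtain ⟨s, hs, hsy⟩ := hshear y hyN hyA
  -- the product of the shears
  obtain ⟨w, hw⟩ : ∃ w, w = r * (g * s * g⁻¹)⁻¹ * r := ⟨_, rfl⟩
  have hrd' : r * d * r⁻¹ = d := by rw [C.comm r hr d hd, mul_inv_cancel_right]
  have hsd : s * d * s⁻¹ = d := by rw [C.comm s hs d hd, mul_inv_cancel_right]
  have hux : g * s * g⁻¹ * x * (g * s * g⁻¹)⁻¹ = x := by
    calc g * s * g⁻¹ * x * (g * s * g⁻¹)⁻¹ = g * (s * d * s⁻¹) * g⁻¹ := by rw [hxd]; group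
      _ = x := by rw [hsd, hxd]
  have hud : g * s * g⁻¹ * d * (g * s * g⁻¹)⁻¹ = d * x := by
    calc g * s * g⁻¹ * d * (g * s * g⁻¹)⁻¹ = g * (s * y * s⁻¹) * g⁻¹ := by rw [hyd]; group
      _ = d * x := by rw [hsy, hxd, hyd]; group
  have hu' : ∀ a b : Q, g * s * g⁻¹ * a * (g * s * g⁻¹)⁻¹ = b →
      (g * s * g⁻¹)⁻¹ * b * (g * s * g⁻¹) = a := fun a b h => by rw [← h]; group
  have hcx : Commute x d := hxd ▸ hc
  have hu'x := hu' _ _ hux
  have hu'd : (g * s * g⁻¹)⁻¹ * d * (g * s * g⁻¹) = d * x⁻¹ := by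
    calc (g * s * g⁻¹)⁻¹ * d * (g * s * g⁻¹)
        = (g * s * g⁻¹)⁻¹ * (d * x) * (g * s * g⁻¹) *
          ((g * s * g⁻¹)⁻¹ * x * (g * s * g⁻¹))⁻¹ := by group
      _ = d * x⁻¹ := by rw [hu' _ _ hud, hu'x]
  have hwd : w * d * w⁻¹ = x⁻¹ := by
    calc w * d * w⁻¹ = r * ((g * s * g⁻¹)⁻¹ * (r * d * r⁻¹) * (g * s * g⁻¹)) * r⁻¹ := by
          rw [hw]; group
      _ = r * (d * x⁻¹) * r⁻¹ := by rw [hrd', hu'd]
      _ = (r * d * r⁻¹) * (r * x * r⁻¹)⁻¹ := by group
      _ = x⁻¹ := by rw [hrd', hrx]; group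
  have hwx : w * x * w⁻¹ = d := by
    calc w * x * w⁻¹ = r * ((g * s * g⁻¹)⁻¹ * (r * x * r⁻¹) * (g * s * g⁻¹)) * r⁻¹ := by
          rw [hw]; group
      _ = r * (((g * s * g⁻¹)⁻¹ * x * (g * s * g⁻¹)) *
          ((g * s * g⁻¹)⁻¹ * d * (g * s * g⁻¹))) * r⁻¹ := by rw [hrx]; group
      _ = r * (x * (d * x⁻¹)) * r⁻¹ := by rw [hu'x, hu'd]
      _ = r * d * r⁻¹ := by rw [← mul_assoc x d, hcx.eq, mul_inv_cancel_right]
      _ = d := hrd'
  refine C.not_inverted hd hd1 hd3 hdn (w * w) ?_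
  calc w * w * d * (w * w)⁻¹ = (w * (w * d * w⁻¹)⁻¹ * w⁻¹)⁻¹ := by simp [mul_assoc]
    _ = d⁻¹ := by rw [hwd, inv_inv, hwx]

/-- The three part of `A` is not larger than `⟨d⟩`. -/
theorem big_false (hperf : commutator Q = ⊤)
    (hbig : ∃ r ∈ C.A, (∃ k : ℕ, r ^ 3 ^ k = 1) ∧ r ∉ Subgroup.zpowers d) : False := by
  haveI : Fact (Nat.Prime 3) := ⟨Nat.prime_three⟩
  obtain ⟨P0, hPN, hP, hnP, hRP, hmax, hconjP⟩ := C.exists_P0
  have hdP : d ∈ P0 := hRP d hd ⟨1, by rwa [pow_one]⟩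
  have hPd : ∀ z ∈ P0, Commute z d := fun z hz => C.comm_d hd hd1 hd3 hdn (hPN hz)
  have hce := C.conj_eq hd hd1 hd3 hdn hbig
  obtain ⟨P, hle⟩ := hP.exists_le_sylow
  have heq : (P : Subgroup Q) = P0 := by
    by_contra hne
    haveI : Group.IsNilpotent (P : Subgroup Q) := P.isPGroup'.isNilpotent
    have hlt : P0.subgroupOf (P : Subgroup Q) < ⊤ := lt_top_iff_ne_top.mpr fun h =>
      hne (le_antisymm (Subgroup.subgroupOf_eq_top.mp h) hle)
    obtain ⟨g, hg, hgn⟩ := SetLike.exists_of_lt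
      (Group.normalizerCondition_of_isNilpotent (G := (P : Subgroup Q)) _ hlt)
    have hgd : (g : Q) * d * (g : Q)⁻¹ ∈ P0 :=
      (Subgroup.mem_normalizer_iff.mp hg ⟨d, hle hdP⟩).mp hdP
    have hgN : (g : Q) ∈ C.N := (C.mem_N_iff hd hd1 hd3 hdn).mpr
      (mul_inv_eq_iff_eq_mul.mp (hce g (hPd _ hgd)))
    have h := hmax (P0 ⊔ Subgroup.zpowers (g : Q)) (sup_le hPN (Subgroup.zpowers_le.mpr hgN))
      (P.isPGroup'.to_le (sup_le hle (Subgroup.zpowers_le.mpr g.2))) le_sup_left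
    exact hgn (show (g : Q) ∈ P0 from h.le (Subgroup.mem_sup_right (Subgroup.mem_zpowers _)))
  have hW : Cfsg.IsWeaklyClosed (Subgroup.zpowers d) (P : Subgroup Q) := by
    refine ⟨Subgroup.zpowers_le.mpr (hle hdP), fun g hg => ?_⟩
    have h1 := hg ⟨d, Subgroup.mem_zpowers d, rfl⟩
    rw [heq] at h1
    rw [MonoidHom.map_zpowers]
    exact congrArg Subgroup.zpowers (hce g (hPd _ h1))
  have hPC : ∀ z ∈ P0, z ∈ Subgroup.centralizer (Subgroup.zpowers d : Set Q) := fun z hz =>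
    Subgroup.mem_centralizer_iff.mpr fun u hu => by
      obtain ⟨i, rfl⟩ := Subgroup.mem_zpowers_iff.mp hu
      exact ((hPd z hz).zpow_right i).eq.symm
  have hidx : Nat.Coprime 3 C.N.index := (Nat.prime_three.coprime_iff_not_dvd).mpr fun h =>
    P.not_dvd_index (h.trans (Subgroup.index_dvd_of_le (heq ▸ hPN)))
  refine Transfer.notMem_commutator_of_controlled (p := 3) C.phi C.mem_n C.n_three
    (fun h => C.n_notMem (C.phi_eq_one.mp h)) hidx (fun k a ha => ?_) (hperf ▸ Subgroup.mem_top _)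
  obtain ⟨m, hm⟩ := C.n_three
  obtain ⟨c, hc, hcP⟩ := hconjP _ ha ⟨m, by
    rw [show a⁻¹ * C.n ^ k * a = a⁻¹ * C.n ^ k * a⁻¹⁻¹ by rw [inv_inv], conj_pow, ← pow_mul,
      mul_comm, pow_mul, hm, one_pow]
    group⟩
  have e : c * (a⁻¹ * C.n ^ k * a) * c⁻¹ = c * a⁻¹ * C.n ^ k * (c * a⁻¹)⁻¹ := by group
  obtain ⟨h, hh, he⟩ := Transfer.exists_normalizer_conj_of_weaklyClosed P hW (c * a⁻¹)
    (hPC _ (pow_mem hnP k)) (e ▸ hPC _ hcP)
  have hhN : h ∈ C.N := (C.d_fix hd hd1 hd3 hdn).2 h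
    ((Subgroup.mem_normalizer_iff.mp hh d).mp (Subgroup.mem_zpowers d))
  have h' := congrArg C.phi (Subtype.ext (he.trans e.symm) :
    (⟨h, hhN⟩ * ⟨C.n, C.mem_n⟩ ^ k * ⟨h, hhN⟩⁻¹ : C.N) = ⟨c, hc⟩ * ⟨_, ha⟩ * ⟨c, hc⟩⁻¹)
  rw [map_mul, map_mul, map_inv, map_mul, map_mul, map_inv, map_pow, mul_inv_cancel_comm,
    mul_inv_cancel_comm] at h'
  exact h'.symm

/-- The three part of `A` is not `⟨d⟩`. -/
theorem small_false (hperf : commutator Q = ⊤)
    (hsmall : ∀ e ∈ C.A, (∃ k : ℕ, e ^ 3 ^ k = 1) → e ∈ Subgroup.zpowers d) : False := by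
  classical
  haveI : Fact (Nat.Prime 3) := ⟨Nat.prime_three⟩
  have hdC := (C.d_fix hd hd1 hd3 hdn).1
  have hdord : orderOf d = 3 := orderOf_eq_prime hd3 hd1
  -- the three subgroups of `N`
  have hbound : ∀ M : Subgroup Q, M ≤ C.N → IsPGroup 3 M → Nat.card M ≤ 9 := by
    intro M hMN hM
    set ψ := C.phi.comp (Subgroup.inclusion hMN) with hψ
    have h1 : Nat.card ψ.ker ≤ 3 := by
      refine le_trans (Nat.card_le_card_of_injective (β := Subgroup.zpowers d) (fun z => (⟨(z.1 : Q), hsmall _ (C.phi_eq_one.mp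
        (show C.phi _ = 1 from z.2)) ?_⟩ : Subgroup.zpowers d)) fun a b h => ?_)
        (le_of_eq (by rw [Nat.card_zpowers, hdord]))
      · obtain ⟨k, hk⟩ := hM z.1
        exact ⟨k, by simpa using congrArg Subtype.val hk⟩
      · exact Subtype.ext (Subtype.ext (congrArg (fun u : Subgroup.zpowers d => (u : Q)) h :))
    have h2 : ψ.ker.index ≤ 3 := by
      rw [Subgroup.index_ker]
      refine (Nat.le_of_dvd Nat.card_pos ψ.range.card_subgroup_dvd_card).trans (le_of_eq ?_)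
      simp [Nat.card_eq_fintype_card]
    rw [← ψ.ker.card_mul_index]
    exact Nat.mul_le_mul h1 h2
  obtain ⟨P0, hPN, hP, hnP, hRP, hmax, -⟩ := C.exists_P0
  have hdP : d ∈ P0 := hRP d hd ⟨1, by rwa [pow_one]⟩
  have hcardP : Nat.card P0 = 9 := by
    refine le_antisymm (hbound _ hPN hP) ?_
    obtain ⟨i, hi⟩ := IsPGroup.iff_card.mp hP
    have hlt : Subgroup.zpowers d < P0 := lt_of_le_of_ne (Subgroup.zpowers_le.mpr hdP) fun h =>
      C.n_notMem ((Subgroup.zpowers_le.mpr hd) (h.ge hnP))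
    have h3 : Nat.card (Subgroup.zpowers d) < Nat.card P0 := by
      refine lt_of_le_of_ne (Subgroup.card_le_of_le hlt.le) fun h => hlt.ne ?_
      exact Subgroup.eq_of_le_of_card_ge hlt.le h.ge
    rw [Nat.card_zpowers, hdord, hi] at h3
    have : 1 < i := (Nat.pow_lt_pow_iff_right (a := 3) (by norm_num)).mp (by simpa using h3)
    rw [hi]
    exact (show 3 ^ 2 ≤ 3 ^ i from Nat.pow_le_pow_right (by norm_num) this)
  obtain ⟨T, hle⟩ := hP.exists_le_sylow
  have hTN : ∀ z ∈ (T : Subgroup Q), z ∈ C.N → z ∈ P0 := fun z hz hzN =>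
    (hmax ((T : Subgroup Q) ⊓ C.N) inf_le_right (T.isPGroup'.to_le inf_le_left) (le_inf hle hPN)).le
      ⟨hz, hzN⟩
  set P := (T : Subgroup Q) with hPdef
  have hQ : IsPGroup 3 P := T.isPGroup'
  set y : P := ⟨d, hle hdP⟩ with hy'def
  have hy3 : y ^ 3 = 1 := Subtype.ext hd3
  -- centralizers of conjugates
  have hCconj : ∀ (g : Q) (x : P), (x : Q) = g * d * g⁻¹ →
      Nat.card (Subgroup.centralizer ({x} : Set P)) ≤ 9 := by
    intro g x hx
    refine le_trans (le_of_eq ?_) (hbound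
      ((Subgroup.centralizer ({x} : Set P)).map ((MulAut.conj g⁻¹).toMonoidHom.comp P.subtype)) ?_
      ((hQ.to_subgroup _).map _))
    · exact (Subgroup.card_map_of_injective
        ((MulAut.conj g⁻¹).injective.comp P.subtype_injective)).symm
    · rintro _ ⟨z, hz, rfl⟩
      rw [← hdC, Subgroup.mem_centralizer_singleton_iff]
      have h : (z : Q) * x = x * z := congrArg Subtype.val (Subgroup.mem_centralizer_singleton_iff.mp hz)
      rw [hx] at h
      show g⁻¹ * z * g⁻¹⁻¹ * d = d * (g⁻¹ * z * g⁻¹⁻¹)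
      calc g⁻¹ * (z : Q) * g⁻¹⁻¹ * d = g⁻¹ * ((z : Q) * (g * d * g⁻¹)) * g := by group
        _ = g⁻¹ * (g * d * g⁻¹ * z) * g := by rw [h]
        _ = d * (g⁻¹ * z * g⁻¹⁻¹) := by group
  have hCy : Nat.card (Subgroup.centralizer ({y} : Set P)) ≤ 9 :=
    hCconj 1 y (show d = 1 * d * 1⁻¹ by group)
  by_cases h9 : Nat.card P = 9
  · -- a Sylow subgroup of order nine
    have heq : P0 = P := Subgroup.eq_of_le_of_card_ge hle (by rw [h9, hcardP])
    have hab : ∀ a b : P, a * b = b * a := by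
      haveI : IsMulCommutative P := IsPGroup.isMulCommutative_of_card_eq_prime_sq (p := 3) (by simpa using h9)
      exact fun a b => mul_comm' a b
    haveI hPc : IsMulCommutative P := ⟨⟨hab⟩⟩
    have hcomm : commutator P = ⊥ := by
      rw [commutator_def, Subgroup.commutator_eq_bot_iff_le_centralizer]
      exact fun a _ => Subgroup.mem_centralizer_iff.mpr fun b _ => hab b a
    by_cases hexp : ∀ p : P, p ^ 3 = 1
    · refine FixityFour.ThreeCore.not_le_commutator_normalizer T y ?_ (fun p => ?_) ?_ ?_ ?_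
      · show (commutator P).index = 9
        rw [hcomm, Subgroup.index_bot, h9]
      · rw [hexp p]; exact one_mem _
      · show y ∉ commutator P
        rw [hcomm, Subgroup.mem_bot]
        exact fun h => hd1 (congrArg Subtype.val h)
      · intro g _ c hc
        have : c = 1 := by
          have hc' : c ∈ commutator P := hc
          rwa [hcomm, Subgroup.mem_bot] at hc'
        subst this
        show g * d * g⁻¹ ≠ d⁻¹ * 1
        rw [mul_one]
        exact C.not_inverted hd hd1 hd3 hdn g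
      · have h := Transfer.commutator_inf_sylow_eq_normalizer T hPc
        rw [hperf, top_inf_eq] at h
        exact h.le.trans inf_le_left
    · push Not at hexp
      obtain ⟨p, hp⟩ := hexp
      have hord : orderOf p = 9 := by
        have hd' : orderOf p ∣ 3 ^ 2 := by
          rw [show 3 ^ 2 = 9 from rfl, ← h9]; exact orderOf_dvd_natCard p
        obtain ⟨i, hi, hi'⟩ := (Nat.dvd_prime_pow Nat.prime_three).mp hd'
        interval_cases i
        · exact absurd (by rw [orderOf_eq_one_iff.mp hi', one_pow]) hp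
        · exact absurd (orderOf_dvd_iff_pow_eq_one.mp (by rw [hi', pow_one])) hp
        · simpa using hi'
      haveI : IsCyclic P := isCyclic_of_orderOf_eq_card p (hord.trans h9.symm)
      have hN : Subgroup.normalizer (P : Set Q) ≤ Subgroup.centralizer (P : Set Q) := by
        intro g hg
        have hgd : g * d * g⁻¹ ∈ P := (Subgroup.mem_normalizer_iff.mp hg d).mp (hle hdP)
        have hgz : g * d * g⁻¹ ∈ Subgroup.zpowers d := by
          have htop : Subgroup.zpowers p = ⊤ := Subgroup.eq_top_of_card_eq _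
            (by rw [Nat.card_zpowers, hord, h9])
          have hz3 : ∀ z : P, z ^ 3 = 1 → z ∈ Subgroup.zpowers (p ^ 3) := by
            intro z hz
            obtain ⟨i, hi⟩ := (isOfFinOrder_of_finite p).mem_powers_iff_mem_zpowers.mpr
              (htop.ge (Subgroup.mem_top z))
            simp only at hi
            subst hi
            have h := orderOf_dvd_of_pow_eq_one (by rw [pow_mul]; exact hz : p ^ (i * 3) = 1)
            rw [hord] at h
            obtain ⟨j, rfl⟩ : 3 ∣ i := by omega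
            rw [pow_mul]
            exact pow_mem (Subgroup.mem_zpowers _) j
          have hz0 : Subgroup.zpowers y = Subgroup.zpowers (p ^ 3) :=
            Subgroup.eq_of_le_of_card_ge (Subgroup.zpowers_le.mpr (hz3 y hy3)) (by
              rw [Nat.card_zpowers, Nat.card_zpowers, ← Subgroup.orderOf_coe y, hdord]
              refine Nat.le_of_dvd (by norm_num) (orderOf_dvd_of_pow_eq_one ?_)
              rw [← pow_mul, show 3 * 3 = 9 from rfl, ← hord, pow_orderOf_eq_one])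
          have hz : Subgroup.zpowers (⟨_, hgd⟩ : P) ≤ Subgroup.zpowers y :=
            Subgroup.zpowers_le.mpr (hz0.ge (hz3 _ (Subtype.ext (by simp [conj_pow, hd3]))))
          obtain ⟨i, hi⟩ := Subgroup.mem_zpowers_iff.mp (hz (Subgroup.mem_zpowers _))
          exact ⟨i, by simpa using congrArg Subtype.val hi⟩
        have hgN := (C.d_fix hd hd1 hd3 hdn).2 g hgz
        refine Subgroup.mem_centralizer_iff.mpr fun z hz => ?_
        have hzN : z ∈ C.N := hPN (heq.ge hz)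
        have hgz' : g * z * g⁻¹ ∈ P := (Subgroup.mem_normalizer_iff.mp hg z).mp hz
        obtain ⟨c, hc⟩ : ∃ c, c = g * z * g⁻¹ * z⁻¹ := ⟨_, rfl⟩
        have hcA : c ∈ C.A := (C.phi_eq_one (y := ⟨g, hgN⟩ * ⟨z, hzN⟩ * ⟨g, hgN⟩⁻¹ * ⟨z, hzN⟩⁻¹)).mp
          (by rw [map_mul, map_mul, map_mul, map_inv, map_inv, mul_inv_cancel_comm, mul_inv_cancel])
          |> (hc ▸ ·)
        have hcP : c ∈ P := hc ▸ mul_mem hgz' (inv_mem hz)
        obtain ⟨k, hk⟩ := hQ ⟨c, hcP⟩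
        have hcd := hsmall c hcA ⟨k, by simpa using congrArg Subtype.val hk⟩
        obtain ⟨i, hi⟩ := Subgroup.mem_zpowers_iff.mp hcd
        have hgc : Commute g c := hi ▸ (C.comm_d hd hd1 hd3 hdn hgN).zpow_right i
        have hstep : g * z * g⁻¹ = c * z := by rw [hc, inv_mul_cancel_right]
        have hpow : ∀ m : ℕ, g ^ m * z * (g ^ m)⁻¹ = c ^ m * z := by
          intro m
          induction m with
          | zero => simp
          | succ m ih =>
            calc g ^ (m + 1) * z * (g ^ (m + 1))⁻¹ = g * (g ^ m * z * (g ^ m)⁻¹) * g⁻¹ := by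
                  rw [pow_succ']; group
              _ = g * c ^ m * (z * g⁻¹) := by rw [ih]; group
              _ = c ^ m * (g * z * g⁻¹) := by rw [(hgc.pow_right m).eq]; group
              _ = c ^ (m + 1) * z := by rw [hstep, pow_succ, mul_assoc]
        set Pn := P.subgroupOf (Subgroup.normalizer (P : Set Q)) with hPn
        haveI : Pn.Normal := Subgroup.normal_subgroupOf_of_le_normalizer le_rfl
        have hcop : Nat.Coprime 3 Pn.index := (Nat.prime_three.coprime_iff_not_dvd).mpr fun h =>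
          T.not_dvd_index (h.trans (Subgroup.relIndex_dvd_index_of_le Subgroup.le_normalizer))
        have hm : g ^ Pn.index ∈ P := Pn.pow_index_mem ⟨g, hg⟩
        have hone : c ^ Pn.index = 1 := by
          have h := hpow Pn.index
          rw [show g ^ Pn.index * z = z * g ^ Pn.index from
            congrArg Subtype.val (hab ⟨_, hm⟩ ⟨z, hz⟩), mul_inv_cancel_right] at h
          exact mul_eq_right.mp h.symm
        have hc1 : c = 1 := by
          by_contra hne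
          exact Transfer.pow_ne_one_of_coprime_prime ⟨k, by simpa using congrArg Subtype.val hk⟩
            hne hcop hone
        rw [hc1] at hc
        exact (mul_inv_eq_iff_eq_mul.mp (mul_inv_eq_one.mp hc.symm)).symm
      have hcompl := MonoidHom.ker_transferSylow_isComplement' T hN
      have htop : (MonoidHom.transferSylow T hN).ker = ⊤ := by
        refine top_le_iff.mp (hperf ▸ Subgroup.commutator_le.mpr fun a _ b _ => ?_)
        rw [MonoidHom.mem_ker, map_commutatorElement, commutatorElement_eq_one_iff_mul_comm]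
        exact hab _ _
      rw [htop] at hcompl
      exact hd1 (Subgroup.mem_bot.mp ((Subgroup.isComplement'_top_left.mp hcompl) ▸ hle hdP))
  -- a larger Sylow subgroup
  have hab : ∃ a b : P, a * b ≠ b * a := by
    by_contra h
    push Not at h
    have h1 : Nat.card P ≤ 9 := by
      refine le_trans (le_of_eq ?_) hCy
      rw [show Subgroup.centralizer ({y} : Set P) = ⊤ from eq_top_iff.mpr fun z _ =>
        Subgroup.mem_centralizer_singleton_iff.mpr (h z y), Subgroup.card_top]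
    exact h9 (le_antisymm h1 (hcardP ▸ Subgroup.card_le_of_le hle))
  obtain ⟨hidx, hcls⟩ := FixityFour.ThreeCore.class_coset hQ hab y hCy
  have hexp : ∀ p : P, p ^ 3 ∈ commutator P := by
    intro p
    by_contra hp
    have hone : (QuotientGroup.mk' (commutator P) p) ^ 3 ≠ 1 := fun h => hp
      ((QuotientGroup.eq_one_iff _).mp h)
    have hcard : Nat.card (P ⧸ commutator P) = 3 ^ 2 := hidx
    have hord : orderOf (QuotientGroup.mk' (commutator P) p) = 9 := by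
      obtain ⟨i, hi, hi'⟩ := (Nat.dvd_prime_pow Nat.prime_three).mp (hcard ▸ orderOf_dvd_natCard _)
      interval_cases i
      · exact absurd (orderOf_dvd_iff_pow_eq_one.mp (by rw [hi', pow_zero]; exact one_dvd _)) hone
      · exact absurd (orderOf_dvd_iff_pow_eq_one.mp (by rw [hi', pow_one])) hone
      · simpa using hi'
    have hcyc : IsCyclic (P ⧸ commutator P) := isCyclic_of_orderOf_eq_card _ (hord.trans hcard.symm)
    obtain ⟨a, b, hab'⟩ := hab
    obtain ⟨s, hs⟩ := hcyc.exists_generator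
    obtain ⟨s, rfl⟩ := QuotientGroup.mk_surjective s
    haveI : Group.IsNilpotent P := hQ.isNilpotent
    have htop : Subgroup.zpowers s = ⊤ := frattini_nongenerating (top_le_iff.mp (by
      intro z _
      obtain ⟨k, hk⟩ := Subgroup.mem_zpowers_iff.mp (hs (QuotientGroup.mk z))
      have hz : (s ^ k)⁻¹ * z ∈ commutator P :=
        QuotientGroup.eq.mp ((QuotientGroup.mk_zpow (commutator P) s k).trans hk)
      rw [show z = s ^ k * ((s ^ k)⁻¹ * z) by group]
      exact mul_mem (Subgroup.mem_sup_left (zpow_mem (Subgroup.mem_zpowers s) k))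
        (Subgroup.mem_sup_right ((PSolvable.commutator_le_frattini hQ).1 hz))))
    obtain ⟨u, rfl⟩ : a ∈ Subgroup.zpowers s := htop ▸ Subgroup.mem_top a
    obtain ⟨v, rfl⟩ : b ∈ Subgroup.zpowers s := htop ▸ Subgroup.mem_top b
    exact hab' (Commute.zpow_zpow_self s u v).eq
  have hyC : y ∉ commutator P := fun h => by
    obtain ⟨t, ht⟩ := hcls y⁻¹ (inv_mem h)
    rw [mul_inv_cancel] at ht
    exact hd1 (congrArg Subtype.val (conj_eq_one_iff.mp ht))
  have hfull : ¬ P ≤ ⁅Subgroup.normalizer (P : Set Q), Subgroup.normalizer (P : Set Q)⁆ := by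
    refine FixityFour.ThreeCore.not_le_commutator_normalizer T y hidx hexp hyC fun g hg c hc he => ?_
    obtain ⟨t, ht⟩ := hcls (y⁻¹ * c⁻¹ * y) (by
      simpa using (inferInstance : (commutator P).Normal).conj_mem _ (inv_mem hc) y⁻¹)
    refine C.not_inverted hd hd1 hd3 hdn ((t : Q)⁻¹ * g) ?_
    have h1 : (t : Q) * d * (t : Q)⁻¹ = d * (d⁻¹ * (c : Q)⁻¹ * d) := congrArg Subtype.val ht
    calc (t : Q)⁻¹ * g * d * ((t : Q)⁻¹ * g)⁻¹ = (t : Q)⁻¹ * (g * d * g⁻¹) * t := by group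
      _ = (t : Q)⁻¹ * ((t : Q) * d * (t : Q)⁻¹)⁻¹ * t := by
        rw [he, h1, show ((y : P) : Q) = d from rfl]; group
      _ = d⁻¹ := by group
  obtain ⟨W, f, hf⟩ := Cfsg.Agent.S2807.result T (by
    rw [hperf, inf_top_eq]
    exact fun h => hfull (h.trans_le inf_le_right))
  haveI : Finite (W : Subgroup (Equiv.Perm (Fin (3 ^ 2)))) := inferInstance
  obtain ⟨B, hBidx, hB, hBc, hBe⟩ := FixityFour.ThreeCore.exists_base W
  have h81 : Nat.card (W : Subgroup (Equiv.Perm (Fin (3 ^ 2)))) = 81 := FixityFour.ThreeCore.card_sylow_nine W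
  haveI : B.Normal := Subgroup.normal_of_index_eq_minFac_card (by
    rw [hBidx, FixityFour.ThreeCore.card_sylow_nine W]; exact (Nat.Prime.pow_minFac Nat.prime_three (by norm_num : (4:ℕ) ≠ 0)).symm)
  have hWna : ∃ a b : (W : Subgroup (Equiv.Perm (Fin (3 ^ 2)))), a * b ≠ b * a := by
    by_contra h
    push Not at h
    have hle' : commutator P ≤ f.ker := Subgroup.commutator_le.mpr fun a _ b _ => by
      rw [MonoidHom.mem_ker, map_commutatorElement, commutatorElement_eq_one_iff_mul_comm]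
      exact h _ _
    have h1 := Subgroup.index_dvd_of_le hle'
    rw [Subgroup.index_ker, MonoidHom.range_eq_top.mpr hf, Subgroup.card_top, hidx, h81] at h1
    exact absurd (Nat.le_of_dvd (by norm_num) h1) (by norm_num)
  have hker : Nat.card f.ker * 81 = Nat.card P := by
    rw [← h81, ← Subgroup.card_top (G := (W : Subgroup (Equiv.Perm (Fin (3 ^ 2))))),
      ← MonoidHom.range_eq_top.mpr hf, ← Subgroup.index_ker, Subgroup.card_mul_index]
  have hinj : Function.Injective f := by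
    obtain ⟨i, hi⟩ := IsPGroup.iff_card.mp (hQ.to_subgroup f.ker)
    rcases Nat.eq_zero_or_pos i with rfl | hi0
    · exact (MonoidHom.ker_eq_bot_iff f).mp (Subgroup.eq_bot_of_card_eq _ (by rw [hi, pow_zero]))
    exfalso
    obtain ⟨M, hMn, hMK, hMc⟩ := CyclicMax.exists_normal_le_card_pow hQ 1 (j := i - 1) f.ker inferInstance
      (by rw [hi, Nat.sub_add_cancel hi0])
    haveI := hMn
    have hMidx : M.index = 243 := by
      have h1 := M.card_mul_index
      rw [← hker, hi, hMc, show 3 ^ i = 3 ^ (i - 1) * 3 by rw [← pow_succ, Nat.sub_add_cancel hi0],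
        mul_assoc] at h1
      exact Nat.eq_of_mul_eq_mul_left (Nat.pow_pos (by norm_num)) h1
    set f' := QuotientGroup.lift M f hMK with hf'
    have hf's : Function.Surjective f' := QuotientGroup.lift_surjective_of_surjective M f hf hMK
    have hRna : ∃ a b : P ⧸ M, a * b ≠ b * a := by
      obtain ⟨a, b, hab'⟩ := hWna
      obtain ⟨a, rfl⟩ := hf's a
      obtain ⟨b, rfl⟩ := hf's b
      exact ⟨a, b, fun h => hab' (by rw [← map_mul, h, map_mul])⟩
    refine FixityFour.ThreeCore.no_extension (hQ.to_quotient M) (QuotientGroup.mk' M y)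
      (by rw [← map_pow, hy3, map_one])
      (FixityFour.ThreeCore.card_cent_image hQ y hCy _ (QuotientGroup.mk'_surjective M) hRna)
      f' hf's ?_ ?_ B hB hBc hBe
    · have h1 := f'.ker.card_mul_index
      rw [Subgroup.index_ker, MonoidHom.range_eq_top.mpr hf's, Subgroup.card_top] at h1
      have h2 : Nat.card (P ⧸ M) = 243 := hMidx
      rw [h2, h81] at h1
      omega
    · exact FixityFour.ThreeCore.card_cent_image hQ y hCy f hf hWna
  -- the base group in the Sylow subgroup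
  set B' := B.comap f with hB'
  haveI : B'.Normal := inferInstance
  have hB'c : ∀ a ∈ B', ∀ b ∈ B', a * b = b * a := fun a ha b hb =>
    hinj (by rw [map_mul, map_mul, hBc _ ha _ hb])
  have hB'e : ∀ a ∈ B', a ^ 3 = 1 := fun a ha => hinj (by rw [map_pow, hBe _ ha, map_one])
  have hB'i : B'.index = 3 := by
    rw [hB', Subgroup.index_comap_of_surjective _ hf, hBidx]
  have hB'card : Nat.card B' = 27 := by
    have h1 := B'.card_mul_index
    have hker1 : Nat.card f.ker = 1 := by rw [(MonoidHom.ker_eq_bot_iff f).mpr hinj, Subgroup.card_bot]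
    rw [hB'i, ← hker, hker1] at h1
    omega
  have hnot : ∀ (g : Q) (x : P), (x : Q) = g * d * g⁻¹ → x ∉ B' := fun g x hx hxB => by
    have h1 := Subgroup.card_le_of_le (show B' ≤ Subgroup.centralizer ({x} : Set P) from fun b hb =>
      Subgroup.mem_centralizer_singleton_iff.mpr (hB'c b hb x hxB))
    have h2 := h1.trans (hCconj g x hx)
    rw [hB'card] at h2
    omega
  have hyB : y ∉ B' := hnot 1 y (show d = 1 * d * 1⁻¹ by group)
  -- elements of order three in the coset of `y`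
  have hcoset : ∀ x : P, x * y⁻¹ ∈ B' → x ^ 3 = 1 → ∃ h : P, h * y * h⁻¹ = x := by
    intro x hxB hx3
    let D : B' →* B' := MonoidHom.mk' (fun b => ⟨(b : P) * (y * (b : P)⁻¹ * y⁻¹),
      mul_mem b.2 (Subgroup.Normal.conj_mem inferInstance _ (inv_mem b.2) _)⟩) fun a b =>
      Subtype.ext (by
        have h1 := hB'c _ b.2 _ (show y * (a : P)⁻¹ * y⁻¹ ∈ B' from
          Subgroup.Normal.conj_mem inferInstance _ (inv_mem a.2) _)
        have h2 := hB'c _ (show y * (b : P)⁻¹ * y⁻¹ ∈ B' from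
          Subgroup.Normal.conj_mem inferInstance _ (inv_mem b.2) _) _
          (show y * (a : P)⁻¹ * y⁻¹ ∈ B' from Subgroup.Normal.conj_mem inferInstance _ (inv_mem a.2) _)
        simp only [Subgroup.coe_mul, _root_.mul_inv_rev]
        calc (a : P) * b * (y * ((b : P)⁻¹ * (a : P)⁻¹) * y⁻¹)
            = (a : P) * b * ((y * (b : P)⁻¹ * y⁻¹) * (y * (a : P)⁻¹ * y⁻¹)) := by group
          _ = (a : P) * b * ((y * (a : P)⁻¹ * y⁻¹) * (y * (b : P)⁻¹ * y⁻¹)) := by rw [h2]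
          _ = (a : P) * ((b : P) * (y * (a : P)⁻¹ * y⁻¹)) * (y * (b : P)⁻¹ * y⁻¹) := by group
          _ = (a : P) * ((y * (a : P)⁻¹ * y⁻¹) * b) * (y * (b : P)⁻¹ * y⁻¹) := by rw [h1]
          _ = _ := by group)
    have hker1 : Nat.card D.ker ≤ 3 := by
      refine le_trans (Nat.card_le_card_of_injective
        (β := ↥(B' ⊓ Subgroup.centralizer ({y} : Set P))) (fun b => ⟨b.1.1, b.1.2, ?_⟩)
        fun a b h => Subtype.ext (Subtype.ext (congrArg
          (fun z : ↥(B' ⊓ Subgroup.centralizer ({y} : Set P)) => (z : P)) h :)))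
        (FixityFour.ThreeCore.card_inter_le hQ hCy B' hyB)
      have h1 : (b.1 : P) * (y * (b.1 : P)⁻¹ * y⁻¹) = 1 := congrArg Subtype.val b.2
      refine Subgroup.mem_centralizer_singleton_iff.mpr ?_
      rw [show (b.1 : P) * (y * (b.1 : P)⁻¹ * y⁻¹) = (b.1 : P) * y * (b.1 : P)⁻¹ * y⁻¹ by group] at h1
      exact mul_inv_eq_iff_eq_mul.mp (mul_inv_eq_one.mp h1)
    letI : CommGroup B' := { (inferInstance : Group B') with
      mul_comm := fun a b => Subtype.ext (hB'c a a.2 b b.2) }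
    have hD2 : ∀ b : B', ((D (D b) : B') : P) = b * (y * b * y⁻¹) * (y * (y * b * y⁻¹) * y⁻¹) := by
      intro b
      set σb : B' := ⟨y * b * y⁻¹, Subgroup.Normal.conj_mem inferInstance _ b.2 _⟩ with hσ
      set σσb : B' := ⟨y * (y * b * y⁻¹) * y⁻¹, Subgroup.Normal.conj_mem inferInstance _ σb.2 _⟩ with hσσ
      have h1 : D (D b) = b * σb⁻¹ * (σb * σσb⁻¹)⁻¹ := Subtype.ext (by
        show (b : P) * (y * (b : P)⁻¹ * y⁻¹) *
          (y * ((b : P) * (y * (b : P)⁻¹ * y⁻¹))⁻¹ * y⁻¹) = _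
        simp only [Subgroup.coe_mul, InvMemClass.coe_inv, hσ, hσσ]
        group)
      have h2 : b * σb⁻¹ * (σb * σσb⁻¹)⁻¹ = b * σb * σσb * (σb ^ 3)⁻¹ := by
        apply Additive.ofMul.injective
        simp only [ofMul_mul, ofMul_inv, ofMul_pow]
        abel
      rw [h1, h2, show σb ^ 3 = 1 from Subtype.ext (hB'e _ σb.2), inv_one, mul_one]
      rfl
    have hD3 : ∀ b : B', D (D (D b)) = 1 := by
      intro b
      refine Subtype.ext ?_
      rw [hD2]
      show (b : P) * (y * (b : P)⁻¹ * y⁻¹) * (y * ((b : P) * (y * (b : P)⁻¹ * y⁻¹)) * y⁻¹) *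
        (y * (y * ((b : P) * (y * (b : P)⁻¹ * y⁻¹)) * y⁻¹) * y⁻¹) = 1
      calc _ = (b : P) * (y ^ 3 * (b : P)⁻¹ * (y ^ 3)⁻¹) := by simp [pow_succ, mul_assoc]
        _ = 1 := by rw [hy3]; group
    have hrange : D.range = (D.comp D).ker := by
      refine Subgroup.eq_of_le_of_card_ge (by rintro _ ⟨b, rfl⟩; exact hD3 b) ?_
      let ψ : (D.comp D).ker →* D.ker := (D.comp (D.comp D).ker.subtype).codRestrict D.ker fun b => b.2
      have h1 := ψ.ker.card_mul_index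
      have h2 : ψ.ker.index ≤ 3 := by
        rw [Subgroup.index_ker]
        exact (Subgroup.card_le_card_group _).trans hker1
      have h3 : Nat.card ψ.ker ≤ 3 :=
        (Nat.card_le_card_of_injective (fun b => (⟨b.1.1, show D b.1.1 = 1 from congrArg Subtype.val b.2⟩ : D.ker))
          fun a b h => by
            have h' : D.ker.subtype _ = D.ker.subtype _ := congrArg (D.ker.subtype) h
            exact Subtype.ext (Subtype.ext h')).trans hker1
      have h4 := D.ker.card_mul_index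
      rw [Subgroup.index_ker, hB'card] at h4
      have := Nat.mul_le_mul h3 h2
      nlinarith
    set b0 : B' := ⟨x * y⁻¹, hxB⟩ with hb0
    have hb0ker : b0 ∈ (D.comp D).ker := by
      refine Subtype.ext ((hD2 b0).trans ?_)
      show x * y⁻¹ * (y * (x * y⁻¹) * y⁻¹) * (y * (y * (x * y⁻¹) * y⁻¹) * y⁻¹) = 1
      calc _ = x * x * (x * y⁻¹ * y⁻¹ * y⁻¹) := by simp [mul_assoc]
        _ = x ^ 3 * (y ^ 3)⁻¹ := by simp [pow_succ, mul_assoc]
        _ = 1 := by rw [hx3, hy3, inv_one, mul_one]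
    obtain ⟨b, hb⟩ := hrange.ge hb0ker
    have hbC : x * y⁻¹ ∈ commutator P := by
      rw [show x * y⁻¹ = ⁅(b : P), y⁆ from ((congrArg Subtype.val hb).symm).trans (by
        show (b : P) * (y * (b : P)⁻¹ * y⁻¹) = _
        rw [commutatorElement_def]; group)]
      exact Subgroup.commutator_mem_commutator (Subgroup.mem_top _) (Subgroup.mem_top _)
    obtain ⟨h, hh⟩ := hcls (y⁻¹ * (x * y⁻¹) * y) (by
      simpa using (inferInstance : (commutator P).Normal).conj_mem _ hbC y⁻¹)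
    exact ⟨h, hh.trans (by group)⟩
  -- the transfer
  let φ : P →* Multiplicative (ZMod 3) :=
    (mulEquivOfPrimeCardEq (p := 3) (G := P ⧸ B') (G' := Multiplicative (ZMod 3))
      hB'i (by simp [Nat.card_eq_fintype_card])).toMonoidHom.comp (QuotientGroup.mk' B')
  have hφ : ∀ z : P, φ z = 1 ↔ z ∈ B' := fun z => by
    simp only [φ, MonoidHom.comp_apply, MulEquiv.coe_toMonoidHom, EmbeddingLike.map_eq_one_iff,
      QuotientGroup.mk'_apply, QuotientGroup.eq_one_iff]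
  have hkey : ∀ (g : Q) (x : P), (x : Q) = g * d * g⁻¹ → φ x = φ y := by
    intro g x hx
    have hx3 : x ^ 3 = 1 := Subtype.ext (by
      rw [Subgroup.coe_pow, hx, conj_pow, hd3, mul_one, mul_inv_cancel]; rfl)
    rcases gen_all (φ y) (φ x) (fun h => hyB ((hφ y).mp h)) with h | h | h
    · exact absurd ((hφ x).mp h) (hnot g x hx)
    · exact h
    · exfalso
      obtain ⟨t, ht⟩ := hcoset x⁻¹ ((hφ _).mp (by
        rw [map_mul, map_inv, map_inv, h, ← _root_.mul_inv_rev, inv_eq_one, ← mult_three (φ y)]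
        simp [pow_succ, mul_assoc])) (by rw [inv_pow, hx3, inv_one])
      refine C.not_inverted hd hd1 hd3 hdn (g⁻¹ * t) ?_
      have ht' : (t : Q) * d * (t : Q)⁻¹ = (g * d * g⁻¹)⁻¹ := hx ▸ congrArg Subtype.val ht
      calc g⁻¹ * (t : Q) * d * (g⁻¹ * (t : Q))⁻¹ = g⁻¹ * ((t : Q) * d * (t : Q)⁻¹) * g := by group
        _ = d⁻¹ := by rw [ht']; group
  refine Transfer.notMem_commutator_of_controlled (p := 3) φ (hle hdP) ⟨1, by rwa [pow_one]⟩
    (fun h => hyB ((hφ y).mp h)) ((Nat.prime_three.coprime_iff_not_dvd).mpr T.not_dvd_index)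
    (fun k a ha => ?_) (hperf ▸ Subgroup.mem_top _)
  have hk3 : d ^ k = d ^ (k % 3) := by rw [← hdord, pow_mod_orderOf]
  have hφ3 : φ y ^ k = φ y ^ (k % 3) := pow_eq_pow_mod k (mult_three _)
  show φ ⟨a⁻¹ * d ^ k * a, ha⟩ = φ y ^ k
  rcases (show k % 3 = 0 ∨ k % 3 = 1 ∨ k % 3 = 2 by omega) with h | h | h <;> rw [h] at hk3 hφ3 <;>
    rw [hφ3]
  · rw [pow_zero, ← map_one φ]
    exact congrArg φ (Subtype.ext (by simp [hk3]))
  · rw [pow_one]
    exact hkey a⁻¹ _ (show a⁻¹ * d ^ k * a = a⁻¹ * d * a⁻¹⁻¹ by rw [hk3, pow_one, inv_inv])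
  · have hsq : a⁻¹ * d * a = (a⁻¹ * d ^ k * a) * (a⁻¹ * d ^ k * a) := by
      rw [hk3]
      calc a⁻¹ * d * a = a⁻¹ * (d ^ 3 * d) * a := by rw [hd3, one_mul]
        _ = a⁻¹ * d ^ 2 * a * (a⁻¹ * d ^ 2 * a) := by simp [pow_succ, mul_assoc]
    have hm : a⁻¹ * d * a ∈ P := hsq ▸ mul_mem ha ha
    rw [← hkey a⁻¹ ⟨_, hm⟩ (show a⁻¹ * d * a = a⁻¹ * d * a⁻¹⁻¹ by rw [inv_inv]), ← map_pow]
    exact congrArg φ (Subtype.ext (show a⁻¹ * d ^ k * a = (a⁻¹ * d * a) ^ 2 by
      rw [hk3]; simp [pow_succ, mul_assoc]))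

end ThreeCtx

/-- The three part of `A` is trivial. -/
theorem no_three_fixed {Q : Type*} [Group Q] [Finite Q] (C : ThreeCtx Q) (hperf : commutator Q = ⊤)
    (hR : ∃ e ∈ C.A, orderOf e = 3) : False := by
  obtain ⟨d, hd, hd1, hd3, hdn⟩ := C.exists_fixed hR
  by_cases hbig : ∃ r ∈ C.A, (∃ k : ℕ, r ^ 3 ^ k = 1) ∧ r ∉ Subgroup.zpowers d
  · exact C.big_false hd hd1 hd3 hdn hperf hbig
  · push Not at hbig
    exact C.small_false hd hd1 hd3 hdn hperf hbig

end CfsgLib.MinNonCA
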