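import Cfsg.Agent.Lib.MinNonCA.CenterMod
import Cfsg.Agent.Lib.ZStar.Main
import Mathlib.GroupTheory.Transfer

/-!
With a nonabelian Sylow subgroup, a central element of it has no other conjugate in its centraliser.
For the prime two the element is then central in the whole group.
-/

set_option autoImplicit false
set_option linter.style.haveILetI false

namespace CfsgLib.MinNonCA

variable {G : Type*} [Group G] [Finite G]
variable (hsimp : IsSimpleGroup (G ⧸ Subgroup.center G)) (hperf : commutator G = ⊤)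
variable (hsub : ∀ H : Subgroup G, H ≠ ⊤ →
  ∀ x : H, x ∉ Subgroup.center H → IsMulCommutative (Subgroup.centralizer ({x} : Set H)))

omit [Finite G] in
include hsimp hperf in
/-- A normal abelian subgroup is central. -/
theorem le_center_of_comm {N : Subgroup G} [hN : N.Normal] (hne : N ≠ ⊤) : N ≤ Subgroup.center G := by
  haveI := hsimp
  rcases (hN.map (QuotientGroup.mk' (Subgroup.center G))
      (QuotientGroup.mk'_surjective _)).eq_bot_or_eq_top with h | h
  · rw [Subgroup.map_eq_bot_iff, QuotientGroup.ker_mk'] at h; exact h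
  · have hsup : N ⊔ Subgroup.center G = ⊤ := by
      have e := congrArg (Subgroup.comap (QuotientGroup.mk' (Subgroup.center G))) h
      rwa [Subgroup.comap_top, Subgroup.comap_map_eq, QuotientGroup.ker_mk'] at e
    refine absurd (top_le_iff.mp ?_) hne
    rw [← hperf, commutator_def]
    refine (Subgroup.commutator_le).2 fun u _ v _ => ?_
    obtain ⟨m, hm, c, hc, rfl⟩ := Subgroup.mem_sup_of_normal_left.1 (hsup ▸ Subgroup.mem_top u)
    obtain ⟨m', hm', c', hc', rfl⟩ := Subgroup.mem_sup_of_normal_left.1 (hsup ▸ Subgroup.mem_top v)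
    rw [← QuotientGroup.eq_one_iff, ← QuotientGroup.mk'_apply (N := N), map_commutatorElement, map_mul,
      map_mul, (show QuotientGroup.mk' N m = 1 from (QuotientGroup.eq_one_iff m).2 hm),
      (show QuotientGroup.mk' N m' = 1 from (QuotientGroup.eq_one_iff m').2 hm'), one_mul, one_mul,
      ← map_commutatorElement, commutatorElement_eq_one_iff_commute.2
        ((Subgroup.mem_center_iff.1 hc' c : Commute c c')), map_one]

include hsimp hperf in
/-- Local subgroups of noncentral elements are proper. -/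
theorem normalizer_ne_top_of_comm {A : Subgroup G} {z : G} (hzA : z ∈ A) (hzc : z ∉ Subgroup.center G)
    (hcomm : ∀ a ∈ A, Commute z a) : Subgroup.normalizer (A : Set G) ≠ ⊤ := by
  intro htop
  haveI : A.Normal := Subgroup.normalizer_eq_top_iff.1 htop
  by_cases hA : A = ⊤
  · exact hzc (Subgroup.mem_center_iff.2 fun g => (hcomm g (hA ▸ Subgroup.mem_top g)).symm.eq)
  · exact hzc (le_center_of_comm hsimp hperf hA hzA)

omit [Finite G] in
/-- An abelian `p`-group is not its own normaliser inside a larger `p`-group. -/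
theorem exists_normalizing {p : ℕ} [Fact p.Prime] {A P : Subgroup G} [Finite P] (hP : IsPGroup p P)
    (hAP : A ≤ P) (hne : A ≠ P) : ∃ y ∈ P, y ∉ A ∧ y ∈ Subgroup.normalizer (A : Set G) := by
  have hlt : A.subgroupOf P < ⊤ := lt_of_le_of_ne le_top fun e =>
    hne (le_antisymm hAP (Subgroup.subgroupOf_eq_top.1 e))
  haveI := hP.isNilpotent
  obtain ⟨y, hy, hyA⟩ := SetLike.exists_of_lt (normalizerCondition_of_isNilpotent (G := P) _ hlt)
  refine ⟨y, y.2, hyA, Subgroup.mem_normalizer_iff.2 fun h => ⟨fun hh => ?_, fun hh => ?_⟩⟩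
  · exact (Subgroup.mem_normalizer_iff.1 hy ⟨h, hAP hh⟩).1 hh
  · have hP' : h ∈ P := by
      have := P.mul_mem (P.mul_mem (P.inv_mem y.2) (hAP hh)) y.2
      rwa [show (y : G)⁻¹ * (↑y * h * (↑y)⁻¹) * ↑y = h by group] at this
    exact (Subgroup.mem_normalizer_iff.1 hy ⟨h, hP'⟩).2 hh

include hsimp hperf hsub

/-- A central element of a nonabelian Sylow subgroup commutes with no other conjugate. -/
theorem commuting_conj_eq {p : ℕ} [Fact p.Prime] {z : G} (P : Sylow p G) (hzP : z ∈ (P : Subgroup G))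
    (hz : ∀ s ∈ (P : Subgroup G), Commute z s)
    (hnab : ∃ x ∈ (P : Subgroup G), ∃ y ∈ (P : Subgroup G), ¬ Commute x y)
    (hzc : z ∉ Subgroup.center G) {g : G} (hc : Commute (g * z * g⁻¹) z) : g * z * g⁻¹ = z := by
  classical
  by_contra hne
  obtain ⟨z', hz'⟩ : ∃ z', z' = g * z * g⁻¹ := ⟨_, rfl⟩
  rw [← hz'] at hc hne
  have hz'c : z' ∉ Subgroup.center G := fun h => hne (by
    have e : z = z' := by
      have := Subgroup.mem_center_iff.1 h g
      rw [hz'] at this ⊢
      exact mul_left_cancel (by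
        calc g * z = g * z * g⁻¹ * g := by group
          _ = g * (g * z * g⁻¹) := this.symm)
    exact e.symm)
  set Cz := Subgroup.centralizer ({z} : Set G) with hCz
  set Cz' := Subgroup.centralizer ({z'} : Set G) with hCz'
  have hPC : (P : Subgroup G) ≤ Cz := fun s hs => Subgroup.mem_centralizer_singleton_iff.2 (hz s hs).eq.symm
  have hmap : Cz.map (MulAut.conj g).toMonoidHom = Cz' := by
    ext u
    constructor
    · rintro ⟨v, hv, rfl⟩
      refine Subgroup.mem_centralizer_singleton_iff.2 ?_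
      show g * v * g⁻¹ * z' = z' * (g * v * g⁻¹)
      rw [hz', show g * v * g⁻¹ * (g * z * g⁻¹) = g * (v * z) * g⁻¹ by group,
        Subgroup.mem_centralizer_singleton_iff.1 hv]
      group
    · intro hu
      refine ⟨g⁻¹ * u * g, Subgroup.mem_centralizer_singleton_iff.2 ?_, by
        show g * (g⁻¹ * u * g) * g⁻¹ = u
        group⟩
      have e := Subgroup.mem_centralizer_singleton_iff.1 hu
      rw [hz'] at e
      calc g⁻¹ * u * g * z = g⁻¹ * (u * (g * z * g⁻¹)) * g := by group
        _ = g⁻¹ * (g * z * g⁻¹ * u) * g := by rw [e]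
        _ = z * (g⁻¹ * u * g) := by group
  have htop' : Cz' ≠ ⊤ := fun h => hz'c (Subgroup.mem_center_iff.2 fun u =>
    Subgroup.mem_centralizer_singleton_iff.1 (h.symm ▸ Subgroup.mem_top u : u ∈ Cz'))
  have hzC' : z ∈ Cz' := Subgroup.mem_centralizer_singleton_iff.2 hc.eq.symm
  have hnp : IsPGroup p (P : Subgroup G) := P.isPGroup'
  by_cases hall : ∀ u ∈ Cz', Commute u z
  · -- both in the centre of `P`: Burnside
    have heq : Cz' = Cz := Subgroup.eq_of_le_of_card_ge
      (fun u hu => Subgroup.mem_centralizer_singleton_iff.2 (hall u hu).eq)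
      (le_of_eq (by rw [← hmap, Subgroup.card_map_of_injective (MulAut.conj g).injective]))
    have hz'P : ∀ s ∈ (P : Subgroup G), Commute s z' := fun s hs =>
      Subgroup.mem_centralizer_singleton_iff.1 (heq.symm ▸ hPC hs : s ∈ Cz')
    obtain ⟨n, hn, he⟩ := P.conj_eq_normalizer_conj_of_mem_centralizer z g⁻¹
      (Subgroup.mem_centralizer_iff.2 fun s hs => (hz s hs).eq.symm)
      (Subgroup.mem_centralizer_iff.2 fun s hs => by
        rw [inv_inv, ← hz']; exact (hz'P s hs).eq)
    rw [inv_inv, ← hz'] at he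
    have hN := normalizer_ne_top_of_comm hsimp hperf hzP hzc hz
    have hmove : ¬ Commute n z := fun h => hne (by
      rw [he, mul_assoc, ← h.eq, inv_mul_cancel_left])
    obtain ⟨x, hx, y, hy, hxy⟩ := hnab
    exact hxy (commute_of_mem hsub hN (Subgroup.le_normalizer hzP) hn hmove
      (Subgroup.le_normalizer hx) (Subgroup.le_normalizer hy) (hz x hx).symm (hz y hy).symm)
  push Not at hall
  obtain ⟨w, hw, hwz⟩ := hall
  set B := Cz ⊓ Cz' with hB
  have hBab : ∀ u ∈ B, ∀ v ∈ B, Commute u v := fun u hu v hv =>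
    commute_of_mem hsub htop' hzC' hw hwz hu.2 hv.2
      (Subgroup.mem_centralizer_singleton_iff.1 hu.1) (Subgroup.mem_centralizer_singleton_iff.1 hv.1)
  obtain ⟨A0⟩ := (inferInstance : Nonempty (Sylow p B))
  set A := (A0 : Subgroup B).map B.subtype with hA
  have hAp : IsPGroup p A := A0.isPGroup'.map _
  have hAB : A ≤ B := Subgroup.map_subtype_le _
  haveI : IsMulCommutative B := ⟨⟨fun u v => Subtype.ext (hBab u u.2 v v.2).eq⟩⟩
  have hAmax : ∀ u ∈ B, (∃ k : ℕ, u ^ p ^ k = 1) → u ∈ A := by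
    intro u hu ⟨k, hk⟩
    have hcl : IsPGroup p (Subgroup.zpowers (⟨u, hu⟩ : B)) := by
      obtain ⟨i, -, hi⟩ := (Nat.dvd_prime_pow Fact.out).1 (orderOf_dvd_of_pow_eq_one hk)
      exact IsPGroup.of_card (n := i) (by rw [Nat.card_zpowers, ← hi, Subgroup.orderOf_mk])
    haveI : (A0 : Subgroup B).Normal := Subgroup.normal_of_isMulCommutative _
    have hmem := A0.is_maximal' (A0.isPGroup'.to_sup_of_normal_left hcl) le_sup_left
    exact ⟨⟨u, hu⟩, hmem.le (Subgroup.mem_sup_right (Subgroup.mem_zpowers _)), rfl⟩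
  have hover : ∀ (D : Subgroup G) (h : G), (P : Subgroup G).map (MulAut.conj h).toMonoidHom ≤ D → A ≤ D →
      ∃ Q : Sylow p G, A ≤ (Q : Subgroup G) ∧ (Q : Subgroup G) ≤ D := by
    intro D h hD hAD
    have hle : ((MulAut.conj h • P : Sylow p G) : Subgroup G) ≤ D := hD
    obtain ⟨R, hR⟩ := (hAp.comap_of_injective D.subtype D.subtype_injective).exists_le_sylow
    obtain ⟨d, hd⟩ := MulAction.exists_smul_eq D ((MulAut.conj h • P : Sylow p G).subtype hle) R
    refine ⟨(d : G) • (MulAut.conj h • P : Sylow p G), fun a ha => ?_, ?_⟩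
    · have h1 : (⟨a, hAD ha⟩ : D) ∈ (R : Subgroup D) := hR ha
      rw [← hd] at h1
      obtain ⟨b, hb, e⟩ := h1
      exact ⟨b, hb, congrArg Subtype.val e⟩
    · rintro _ ⟨b, hb, rfl⟩
      exact D.mul_mem (D.mul_mem d.2 (hle hb)) (D.inv_mem d.2)
  obtain ⟨P1, hA1, hP1⟩ := hover Cz 1 (fun u hu => by
    obtain ⟨v, hv, rfl⟩ := hu
    simpa using hPC hv) (hAB.trans inf_le_left)
  obtain ⟨P2, hA2, hP2⟩ := hover Cz' g (hmap ▸ Subgroup.map_mono hPC) (hAB.trans inf_le_right)
  have hnePi : ∀ Q : Sylow p G, A ≠ (Q : Subgroup G) := by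
    intro Q e
    obtain ⟨x, hx, y, hy, hxy⟩ := hnab
    obtain ⟨k, hk⟩ := MulAction.exists_smul_eq G P Q
    have hmem : ∀ u ∈ (P : Subgroup G), k * u * k⁻¹ ∈ B := fun u hu => hAB (by
      rw [e, ← hk]; exact ⟨u, hu, rfl⟩)
    refine hxy ?_
    have h := hBab _ (hmem x hx) _ (hmem y hy)
    show x * y = y * x
    calc x * y = k⁻¹ * (k * x * k⁻¹ * (k * y * k⁻¹)) * k := by group
      _ = k⁻¹ * (k * y * k⁻¹ * (k * x * k⁻¹)) * k := by rw [h.eq]
      _ = y * x := by group
  obtain ⟨y, hy, hyA, hyN⟩ := exists_normalizing P1.isPGroup' hA1 (hnePi P1)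
  obtain ⟨y', hy', hy'A, hy'N⟩ := exists_normalizing P2.isPGroup' hA2 (hnePi P2)
  have hzA : z ∈ A := hAmax z ⟨Subgroup.mem_centralizer_singleton_iff.2 rfl, hzC'⟩ (by
    obtain ⟨k, hk⟩ := hnp ⟨z, hzP⟩
    exact ⟨k, congrArg Subtype.val hk⟩)
  have hz'A : z' ∈ A := hAmax z' ⟨Subgroup.mem_centralizer_singleton_iff.2 hc.eq,
      Subgroup.mem_centralizer_singleton_iff.2 rfl⟩ (by
    obtain ⟨k, hk⟩ := hnp ⟨z, hzP⟩
    refine ⟨k, ?_⟩
    rw [hz', conj_pow, show z ^ p ^ k = 1 from congrArg Subtype.val hk, mul_one, mul_inv_cancel])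
  have hX := normalizer_ne_top_of_comm hsimp hperf hzA hzc fun a ha => (hBab z (hAB hzA) a (hAB ha))
  have hy'z : ¬ Commute y' z := fun h => hy'A (hAmax y'
    ⟨Subgroup.mem_centralizer_singleton_iff.2 h.eq, hP2 hy'⟩ (by
      obtain ⟨k, hk⟩ := P2.isPGroup' ⟨y', hy'⟩
      exact ⟨k, congrArg Subtype.val hk⟩))
  have hyz' : Commute y z' := commute_of_mem hsub hX (Subgroup.le_normalizer hzA) hy'N hy'z hyN
    (Subgroup.le_normalizer hz'A) (Subgroup.mem_centralizer_singleton_iff.1 (hP1 hy)) hc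
  exact hyA (hAmax y ⟨hP1 hy, Subgroup.mem_centralizer_singleton_iff.2 hyz'.eq⟩ (by
    obtain ⟨k, hk⟩ := P1.isPGroup' ⟨y, hy⟩
    exact ⟨k, congrArg Subtype.val hk⟩))

/-- The centre of a nonabelian Sylow 2-subgroup is central. -/
theorem sylow_center_le (S : Sylow 2 G)
    (hnab : ∃ x ∈ (S : Subgroup G), ∃ y ∈ (S : Subgroup G), ¬ Commute x y) :
    ∀ z ∈ (S : Subgroup G), (∀ s ∈ (S : Subgroup G), Commute z s) → z ∈ Subgroup.center G := by
  classical
  haveI : Fact (Nat.Prime 2) := ⟨Nat.prime_two⟩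
  haveI := hsimp
  by_contra hcon
  push Not at hcon
  obtain ⟨z, hzS, hz, hzc⟩ := hcon
  obtain ⟨k, hk⟩ := S.isPGroup' ⟨z, hzS⟩
  have hk' : z ^ 2 ^ k ∈ Subgroup.center G := by
    rw [show z ^ 2 ^ k = 1 from congrArg Subtype.val hk]; exact one_mem _
  have hex : ∃ i, z ^ 2 ^ i ∈ Subgroup.center G := ⟨k, hk'⟩
  obtain ⟨i, hi⟩ : ∃ i, Nat.find hex = i + 1 := by
    rcases Nat.eq_zero_or_eq_succ_pred (Nat.find hex) with h | h
    · have := Nat.find_spec hex
      rw [h, pow_zero, pow_one] at this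
      exact absurd this hzc
    · exact ⟨_, h⟩
  set w := z ^ 2 ^ i with hw
  have hwc : w ∉ Subgroup.center G := Nat.find_min hex (by omega)
  have hw2 : w ^ 2 ∈ Subgroup.center G := by
    have := Nat.find_spec hex
    rw [hi, pow_succ, pow_mul] at this
    exact this
  have hwS : w ∈ (S : Subgroup G) := pow_mem hzS _
  have hwz : ∀ s ∈ (S : Subgroup G), Commute w s := fun s hs => (hz s hs).pow_left _
  set π := QuotientGroup.mk' (Subgroup.center G) with hπ
  have hord : orderOf (π w) = 2 := orderOf_eq_prime (by rw [← map_pow]; exact (QuotientGroup.eq_one_iff _).2 hw2)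
    fun h => hwc ((QuotientGroup.eq_one_iff _).1 h)
  have hiso : Cfsg.IsIsolatedInvolution (π w) := by
    refine ⟨hord, fun q hq => ?_⟩
    obtain ⟨g, rfl⟩ := QuotientGroup.mk'_surjective _ q
    obtain ⟨w', hw'⟩ : ∃ w', w' = g * w * g⁻¹ := ⟨_, rfl⟩
    have e : π g * π w * (π g)⁻¹ = π w' := by rw [hw', map_mul, map_mul, map_inv]
    rw [e] at hq ⊢
    set c := w' * w * w'⁻¹ * w⁻¹ with hc
    have hcc : c ∈ Subgroup.center G := by
      rw [← QuotientGroup.eq_one_iff, ← QuotientGroup.mk'_apply, hc, ← hπ, map_mul, map_mul, map_mul,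
        map_inv, map_inv, ← hq.eq, mul_inv_cancel_right, mul_inv_cancel]
    have hcomm : Commute w' w := by
      have h2 : Commute (w' * w * w'⁻¹) w := by
        rw [show w' * w * w'⁻¹ = c * w by rw [hc]; group]
        exact Commute.mul_left ((Subgroup.mem_center_iff.1 hcc w).symm) rfl
      exact mul_inv_eq_iff_eq_mul.1 (commuting_conj_eq hsimp hperf hsub S hwS hwz hnab hwc (g := w') h2)
    rw [hw'] at hcomm
    rw [hw', commuting_conj_eq hsimp hperf hsub S hwS hwz hnab hwc hcomm]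
  have hcore : Cfsg.pPrimeCore 2 (G ⧸ Subgroup.center G) = ⊥ := by
    rcases (CfsgLib.Transfer.pPrimeCore_normal 2 (G ⧸ Subgroup.center G)).eq_bot_or_eq_top with h | h
    · exact h
    · exfalso
      have h1 := CfsgLib.Transfer.coprime_orderOf_of_mem (CfsgLib.Transfer.pPrimeCore_coprime 2)
        (show π w ∈ Cfsg.pPrimeCore 2 (G ⧸ Subgroup.center G) from h ▸ Subgroup.mem_top _)
      rw [hord] at h1
      norm_num at h1
  have hcent : π w ∈ Subgroup.center (G ⧸ Subgroup.center G) := Subgroup.mem_center_iff.2 fun q =>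
    (CfsgLib.ZStar.commute_of_commutatorsInCore hcore (CfsgLib.ZStar.commutatorsInCore_of_isolated hiso) q).eq.symm
  refine modCent_ne_top hsimp hperf hwc (top_le_iff.1 fun g _ => ?_)
  exact Subgroup.mem_comap.2 (Subgroup.mem_centralizer_singleton_iff.2 (Subgroup.mem_center_iff.1 hcent _))

end CfsgLib.MinNonCA
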