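import Cfsg.Agent.Lib.Invol.KleinCount
import Cfsg.Agent.Lib.Char.PiPart
import Cfsg.Agent.Lib.Char.Counting
import Cfsg.Agent.Lib.Transfer.Focal

/-!
A perfect group with Klein Sylow 2-subgroups and one class of involutions has no abelian Sylow
`r`-subgroup in the centralizer of an involution on which the normalizer induces a semiregular
group of order three, when the centralizers of its elements have normal `r`-complements (S4369).
-/

set_option autoImplicit false
set_option linter.unusedSectionVars false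
set_option linter.style.haveILetI false

namespace CfsgLib.MinNonCA

open Cfsg CfsgLib
open scoped ComplexConjugate CfsgLib.Char

universe u

/-- The final equation has no solution. -/
theorem klein_three_arith (x y : ℤ) (hx : x % 4 = 1) (hy : y % 4 = 1) (hx1 : x ≠ 1) (hy1 : y ≠ 1)
    (h : (x * y + x + y) * (1 + x + y) = 9 * (x * y)) : False := by
  have key : ∀ A B : ℤ, A % 4 = 1 → B % 4 = 1 → 5 ≤ A → B ≤ -3 →
      (A * B + A + B) * (1 + A + B) = 9 * (A * B) → False := by
    intro A B hA hB hA5 hB3 h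
    have h2 : (A + B) * (1 + (A + B)) = -(A * B) * ((A + B) - 8) := by linear_combination h
    have hs : 8 < A + B := by
      by_contra hle
      have : 0 < -(A * B) := by nlinarith
      rcases le_or_gt 0 (A + B) with h0 | h0
      · rcases eq_or_lt_of_le h0 with e | h1
        · omega
        · have : A + B - 8 ≤ 0 := by linarith
          nlinarith
      · rcases eq_or_lt_of_le (show A + B ≤ -1 by omega) with e | h1
        · omega
        · nlinarith
    have hle : A + B ≤ 11 := by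
      by_contra hgt
      nlinarith [mul_le_mul_of_nonneg_right (show 3 * (A + B + 3) ≤ -(A * B) by nlinarith)
        (show 0 ≤ A + B - 8 by omega)]
    have hse : A + B = 10 := by omega
    have hp : (10 - B) * B = -55 := by
      rw [hse] at h2
      have : A = 10 - B := by omega
      rw [← this]; linarith
    have hB7 : -5 ≤ B := by nlinarith
    have : B = -3 := by omega
    subst this; norm_num at hp
  rcases le_or_gt 0 x with hx0 | hx0 <;> rcases le_or_gt 0 y with hy0 | hy0
  · have hx5 : 5 ≤ x := by omega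
    have hy5 : 5 ≤ y := by omega
    nlinarith [mul_nonneg (show (0 : ℤ) ≤ x - 5 by omega) (show (0 : ℤ) ≤ y - 5 by omega)]
  · exact key x y hx hy (by omega) (by omega) h
  · exact key y x hy hx (by omega) (by omega) (by linear_combination h)
  · have hx3 : x ≤ -3 := by omega
    have hy3 : y ≤ -3 := by omega
    nlinarith [mul_nonneg (show (0 : ℤ) ≤ -3 - x by omega) (show (0 : ℤ) ≤ -3 - y by omega)]

/-- See the header. -/
theorem no_three_automizer {Q : Type u} [Group Q] [Finite Q] (hperf : commutator Q = ⊤)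
    (P : Sylow 2 Q) (hP : IsKleinFour (P : Subgroup Q))
    (hone : ∀ s t : Q, orderOf s = 2 → orderOf t = 2 → IsConj s t)
    {J : Q} (hJP : J ∈ (P : Subgroup Q)) (hJ : orderOf J = 2)
    {r : ℕ} [Fact r.Prime] (hr : r ≠ 2) (R : Sylow r Q) (hR1 : (R : Subgroup Q) ≠ ⊥)
    (hab : IsMulCommutative (R : Subgroup Q))
    (hRJ : (R : Subgroup Q) ≤ Subgroup.centralizer ({J} : Set Q))
    (hRN : Subgroup.normalizer ((R : Subgroup Q) : Set Q) ⊓ Subgroup.centralizer ({J} : Set Q) ≤
      Subgroup.centralizer ((R : Subgroup Q) : Set Q))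
    (hnpc : ∀ u ∈ (R : Subgroup Q), u ≠ 1 →
      HasNormalPComplement r (Subgroup.centralizer ({u} : Set Q)))
    (he : (Subgroup.centralizer ((R : Subgroup Q) : Set Q)).relIndex
      (Subgroup.normalizer ((R : Subgroup Q) : Set Q)) = 3)
    (hsemi : ∀ u ∈ (R : Subgroup Q), u ≠ 1 →
      Subgroup.centralizer ({u} : Set Q) ⊓ Subgroup.normalizer ((R : Subgroup Q) : Set Q) ≤
        Subgroup.centralizer ((R : Subgroup Q) : Set Q)) : False := by
  classical
  haveI : Fact (Nat.Prime 2) := ⟨Nat.prime_two⟩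
  letI : Fintype Q := Fintype.ofFinite Q
  set RS : Subgroup Q := (R : Subgroup Q) with hRS
  letI : Fintype RS := Fintype.ofFinite RS
  have hcomm : ∀ u v : RS, u * v = v * u := fun u v => hab.is_comm.comm u v
  -- the automorphism of order three
  obtain ⟨n0, hn0, hn0C⟩ : ∃ n, n ∈ Subgroup.normalizer (RS : Set Q) ∧
      n ∉ Subgroup.centralizer (RS : Set Q) := by
    by_contra hall
    push Not at hall
    rw [Subgroup.relIndex_eq_one.2 hall] at he
    norm_num at he
  let s : MulAut RS := (RS.normalizerMonoidHom ⟨n0, hn0⟩)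
  have hs_coe : ∀ u : RS, ((s u : RS) : Q) = n0 * u * n0⁻¹ := fun u => rfl
  obtain ⟨hNC, hs3⟩ : (∀ n ∈ Subgroup.normalizer (RS : Set Q), ∀ u : RS,
      n * (u : Q) * n⁻¹ = u ∨ n * (u : Q) * n⁻¹ = (s u : Q) ∨ n * (u : Q) * n⁻¹ = (s (s u) : Q)) ∧
      ∀ u : RS, s (s (s u)) = u := by
    set K := (Subgroup.centralizer (RS : Set Q)).subgroupOf (Subgroup.normalizer (RS : Set Q))
    haveI : K.Normal := by
      rw [show K = RS.normalizerMonoidHom.ker from (Subgroup.normalizerMonoidHom_ker RS).symm]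
      infer_instance
    have hcard : Nat.card (Subgroup.normalizer (RS : Set Q) ⧸ K) = 3 := he
    set q : Subgroup.normalizer (RS : Set Q) ⧸ K := QuotientGroup.mk ⟨n0, hn0⟩
    have hq1 : q ≠ 1 := fun e => hn0C (((QuotientGroup.eq_one_iff (N := K) _).1 e))
    have hoq : orderOf q = 3 := by
      have hd := orderOf_dvd_natCard q
      rw [hcard, Nat.dvd_prime Nat.prime_three] at hd
      exact hd.resolve_left fun e => hq1 (orderOf_eq_one_iff.1 e)
    have hall : ∀ z : Subgroup.normalizer (RS : Set Q) ⧸ K, z = 1 ∨ z = q ∨ z = q * q := by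
      intro z
      have hz : z ∈ Subgroup.zpowers q := by
        rw [Subgroup.eq_top_of_card_eq (Subgroup.zpowers q) (by rw [Nat.card_zpowers, hoq, hcard])]
        exact Subgroup.mem_top z
      rw [mem_zpowers_iff_mem_range_orderOf, hoq] at hz
      obtain ⟨i, hi, rfl⟩ := Finset.mem_image.1 hz
      have := Finset.mem_range.1 hi
      interval_cases i
      exacts [Or.inl (pow_zero q), Or.inr (Or.inl (pow_one q)), Or.inr (Or.inr (pow_two q))]
    have act : ∀ a b : Subgroup.normalizer (RS : Set Q),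
        (QuotientGroup.mk a : Subgroup.normalizer (RS : Set Q) ⧸ K) = QuotientGroup.mk b →
        ∀ u : RS, (a : Q) * u * (a : Q)⁻¹ = (b : Q) * u * (b : Q)⁻¹ := by
      intro a b hab' u
      have h1 : (u : Q) * ((a : Q)⁻¹ * b) = (a : Q)⁻¹ * b * u :=
        Subgroup.mem_centralizer_iff.1 (Subgroup.mem_subgroupOf.1 (QuotientGroup.eq.1 hab')) (u : Q) u.2
      calc (a : Q) * u * (a : Q)⁻¹ = a * ((u : Q) * ((a : Q)⁻¹ * b)) * (b : Q)⁻¹ := by group
        _ = a * ((a : Q)⁻¹ * b * u) * (b : Q)⁻¹ := by rw [h1]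
        _ = _ := by group
    refine ⟨fun n hn u => ?_, fun u => Subtype.ext ?_⟩
    · rcases hall (QuotientGroup.mk ⟨n, hn⟩) with e | e | e
      · exact Or.inl (by simpa using act ⟨n, hn⟩ 1 e u)
      · exact Or.inr (Or.inl (act ⟨n, hn⟩ ⟨n0, hn0⟩ e u))
      · refine Or.inr (Or.inr ((act ⟨n, hn⟩ (⟨n0, hn0⟩ * ⟨n0, hn0⟩) (e.trans (QuotientGroup.mk_mul _ _ _).symm) u).trans ?_))
        show n0 * n0 * (u : Q) * (n0 * n0)⁻¹ = n0 * (n0 * u * n0⁻¹) * n0⁻¹
        group
    · have h3 : (QuotientGroup.mk (⟨n0, hn0⟩ * ⟨n0, hn0⟩ * ⟨n0, hn0⟩) :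
          Subgroup.normalizer (RS : Set Q) ⧸ K) = QuotientGroup.mk 1 := by
        show q * q * q = 1
        rw [← pow_three', ← hoq, pow_orderOf_eq_one]
      have h := act _ _ h3 u
      change n0 * n0 * n0 * (u : Q) * (n0 * n0 * n0)⁻¹ = (1 : Q) * u * 1⁻¹ at h
      rw [one_mul, inv_one, mul_one] at h
      refine Eq.trans ?_ h
      show n0 * (n0 * (n0 * (u : Q) * n0⁻¹) * n0⁻¹) * n0⁻¹ = _
      group
  have hfix : ∀ u : RS, s u = u → u = 1 := by
    intro u hu
    by_contra hne
    refine hn0C (hsemi u u.2 (fun e => hne (Subtype.ext e)) ⟨?_, hn0⟩)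
    show n0 ∈ Subgroup.centralizer _
    rw [Subgroup.mem_centralizer_singleton_iff]
    exact mul_inv_eq_iff_eq_mul.1 (congrArg Subtype.val hu)
  have hfix2 : ∀ u : RS, s (s u) = u → u = 1 := fun u hu => hfix u (by
    have := hs3 u
    rwa [hu] at this)
  have hreal : ∀ u : RS, ∀ g : Q, g * (u : Q) * g⁻¹ = (u : Q)⁻¹ → u = 1 := by
    intro u g hg
    obtain ⟨n, hn, hnu⟩ := Transfer.exists_normalizer_conj_of_isMulCommutative R hab u.2 g
      (by rw [hg]; exact inv_mem u.2)
    rw [hg] at hnu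
    have two : u * u = 1 → u = 1 := fun h => by
      have ho : orderOf u ∣ 2 := orderOf_dvd_of_pow_eq_one (by rw [pow_two]; exact h)
      obtain ⟨k, hk⟩ := IsPGroup.iff_orderOf.1 R.2 u
      rw [hk] at ho
      rcases Nat.eq_zero_or_pos k with rfl | hk0
      · exact orderOf_eq_one_iff.1 (by rw [hk, pow_zero])
      · exact absurd ((Nat.prime_dvd_prime_iff_eq Fact.out Nat.prime_two).1
          ((dvd_pow_self r hk0.ne').trans ho)) hr
    rcases hNC n hn u with e | e | e <;> rw [hnu] at e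
    · exact two (by rw [mul_eq_one_iff_eq_inv]; exact Subtype.ext e.symm)
    · have e1 : s u = u⁻¹ := Subtype.ext e.symm
      exact hfix2 u (by rw [e1, map_inv, e1, inv_inv])
    · have e1 : s (s u) = u⁻¹ := Subtype.ext e.symm
      have e2 : s u⁻¹ = u := by rw [← e1, hs3]
      rw [map_inv, inv_eq_iff_eq_inv] at e2
      exact hfix2 u (by rw [e2, map_inv, e2, inv_inv])
  -- the linear characters
  letI : CommGroup RS := { (inferInstance : Group RS) with mul_comm := hcomm }
  obtain ⟨w, hw⟩ : ∃ w : RS, w ≠ 1 := by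
    obtain ⟨w, hw, hw1⟩ := (Subgroup.bot_or_exists_ne_one RS).resolve_left hR1
    exact ⟨⟨w, hw⟩, fun e => hw1 (congrArg Subtype.val e)⟩
  obtain ⟨ψ, hψ⟩ := CommGroup.exists_apply_ne_one_of_hasEnoughRootsOfUnity RS ℂ hw
  let χ : RS →* ℂ := (Units.coeHom ℂ).comp ψ
  have hχw : χ w ≠ 1 := fun e => hψ (Units.ext e)
  have hχsum : ∑ u : RS, χ u = 0 := by
    rw [sum_hom_units χ, if_neg fun e => hχw (by rw [e]; rfl), Nat.cast_zero]
  have hχc : ∀ u : RS, conj (χ u) = χ u⁻¹ := by
    intro u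
    have h1 : χ u ^ Nat.card RS = 1 := by rw [← map_pow, pow_card_eq_one', map_one]
    rw [← Complex.inv_eq_conj (Complex.norm_eq_one_of_pow_eq_one h1 Nat.card_pos.ne')]
    exact inv_eq_of_mul_eq_one_left (by rw [← map_mul, inv_mul_cancel, map_one])
  have hχd : ∀ a b : RS ≃* RS, (∀ u, a u = b u → u = 1) → ∑ u : RS, χ (a u) * χ (b u)⁻¹ = 0 := by
    intro a b hab'
    have hinj : Function.Injective fun u : RS => a u * (b u)⁻¹ := by
      intro u v huv
      rw [← div_eq_one]
      refine hab' _ ?_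
      rw [map_div, map_div, div_eq_div_iff_div_eq_div, div_eq_mul_inv, div_eq_mul_inv]
      exact huv
    rw [← hχsum, ← Finite.injective_iff_bijective.1 hinj |>.sum_comp χ]
    exact Finset.sum_congr rfl fun u _ => (map_mul χ _ _).symm
  set η : RS → ℂ := fun u => χ u + χ (s u) + χ (s (s u)) with hη
  have hηs : ∀ u, η (s u) = η u := fun u => by
    show χ (s u) + χ (s (s u)) + χ (s (s (s u))) = _
    rw [hs3, hη]; ring
  have hη1 : η 1 = 3 := by simp [hη]; norm_num
  have hsum1 : ∀ a : RS ≃* RS, ∑ u : RS, χ (a u) = 0 := fun a => by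
    rw [← hχsum]; exact a.bijective.sum_comp χ
  have hηsum : ∑ u : RS, η u = 0 := by
    simp only [hη, Finset.sum_add_distrib]
    rw [hχsum, hsum1 s, show ∑ u : RS, χ (s (s u)) = 0 from hsum1 (s.trans s)]
    ring
  have hηnorm : ∑ u : RS, η u * conj (η u) = 3 * (Nat.card RS : ℂ) := by
    let i : Fin 3 → (RS ≃* RS) := ![MulEquiv.refl RS, s, s.trans s]
    have hi : ∀ u, η u = ∑ k : Fin 3, χ (i k u) := fun u => by
      simp [hη, i, Fin.sum_univ_three]
    have hij : ∀ k l : Fin 3, k ≠ l → ∀ u, i k u = i l u → u = 1 := by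
      intro k l hkl u hu
      fin_cases k <;> fin_cases l <;> simp [i] at hu hkl
      · exact hfix u hu.symm
      · exact hfix2 u hu.symm
      · exact hfix u hu
      · exact hfix u hu.symm
      · exact hfix2 u hu
      · exact hfix u hu
    have hterm : ∀ k l : Fin 3, ∑ u : RS, χ (i k u) * χ (i l u)⁻¹ =
        if k = l then (Nat.card RS : ℂ) else 0 := by
      intro k l
      split_ifs with hkl
      · subst hkl
        rw [Finset.sum_congr rfl fun u _ => by rw [← map_mul, mul_inv_cancel, map_one]]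
        simp [Nat.card_eq_fintype_card]
      · exact hχd _ _ (hij k l hkl)
    calc ∑ u : RS, η u * conj (η u)
        = ∑ u : RS, ∑ k : Fin 3, ∑ l : Fin 3, χ (i k u) * χ (i l u)⁻¹ := by
          refine Finset.sum_congr rfl fun u _ => ?_
          rw [hi, map_sum, Finset.sum_mul_sum]
          simp only [hχc]
      _ = ∑ k : Fin 3, ∑ l : Fin 3, if k = l then (Nat.card RS : ℂ) else 0 := by
          rw [Finset.sum_comm]
          refine Finset.sum_congr rfl fun k _ => ?_
          rw [Finset.sum_comm]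
          exact Finset.sum_congr rfl fun l _ => hterm k l
      _ = _ := by simp
  -- parts
  set m := Nat.card RS with hm
  set n := RS.index with hn
  have hQmn : Nat.card Q = m * n := RS.card_mul_index.symm
  obtain ⟨k, hk⟩ := IsPGroup.iff_card.1 R.2
  change m = r ^ k at hk
  have hmn : m.Coprime n := by
    rw [hk]; exact ((Fact.out : r.Prime).coprime_iff_not_dvd.2 R.not_dvd_index).pow_left k
  obtain ⟨a, b', ha, hna, -, -⟩ := Char.PiPart.exists_exponent hmn
  have hN : Nat.card Q ∣ m * n := dvd_of_eq hQmn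
  have hinto : ∀ H : Subgroup Q, (∀ x ∈ H, x ^ m = 1) → ∃ d : Q, ∀ x ∈ H, d * x * d⁻¹ ∈ RS := by
    intro H hH
    have hp : IsPGroup r H := fun x => ⟨k, Subtype.ext (by rw [← hk]; exact hH x x.2)⟩
    obtain ⟨S, hS⟩ := hp.exists_le_sylow
    obtain ⟨d, hd⟩ := MulAction.exists_smul_eq Q S R
    refine ⟨d, fun x hx => ?_⟩
    rw [hRS, ← hd]
    exact ⟨x, hS hx, rfl⟩
  have hcc : ∀ g : Q, ∃ d : Q, d * g ^ a * d⁻¹ ∈ RS := fun g => by
    obtain ⟨d, hd⟩ := hinto (Subgroup.zpowers (g ^ a)) fun x hx => by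
      obtain ⟨j, rfl⟩ := Subgroup.mem_zpowers_iff.1 hx
      show ((g ^ a) ^ j) ^ m = 1
      rw [← zpow_natCast, ← zpow_mul, mul_comm, zpow_mul, zpow_natCast,
        Char.PiPart.part_pow hN hna g, one_zpow]
    exact ⟨d, hd _ (Subgroup.mem_zpowers _)⟩
  choose cj hcj using hcc
  let T : (RS → ℂ) → Q → ℂ := fun f g => f ⟨cj g * g ^ a * (cj g)⁻¹, hcj g⟩
  have hT : ∀ f : RS → ℂ, (∀ u, f (s u) = f u) → ∀ (g d : Q) (u : RS),
      d * g ^ a * d⁻¹ = u → T f g = f u := by
    intro f hf g d u hu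
    obtain ⟨n', hn', hnu⟩ := Transfer.exists_normalizer_conj_of_isMulCommutative R hab (hcj g)
      (d * (cj g)⁻¹) (by
        rw [show d * (cj g)⁻¹ * (cj g * g ^ a * (cj g)⁻¹) * (d * (cj g)⁻¹)⁻¹ = d * g ^ a * d⁻¹ by group, hu]
        exact u.2)
    rw [show d * (cj g)⁻¹ * (cj g * g ^ a * (cj g)⁻¹) * (d * (cj g)⁻¹)⁻¹ = d * g ^ a * d⁻¹ by group,
      hu] at hnu
    rcases hNC n' hn' ⟨_, hcj g⟩ with e | e | e <;> rw [hnu] at e
    · exact congrArg f (Subtype.ext e.symm)
    · rw [show u = s ⟨_, hcj g⟩ from Subtype.ext e, hf]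
    · rw [show u = s (s ⟨_, hcj g⟩) from Subtype.ext e, hf, hf]
  have hTone : ∀ f : RS → ℂ, ∀ g : Q, g ^ a = 1 → T f g = f 1 := fun f g h =>
    congrArg f (Subtype.ext (by show cj g * g ^ a * (cj g)⁻¹ = 1; rw [h]; group))
  -- the fibres
  let cC : Q → ℕ := fun x => Nat.card (Subgroup.centralizer ({x} : Set Q))
  have hcC : ∀ x d : Q, cC (d * x * d⁻¹) = cC x := by
    intro x d
    refine Nat.card_congr ((MulAut.conj d⁻¹).toEquiv.subtypeEquiv fun y => ?_)
    simp only [MulEquiv.toEquiv_eq_coe, MulEquiv.coe_toEquiv, MulAut.conj_apply, SetLike.mem_coe,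
      Subgroup.mem_centralizer_singleton_iff]
    constructor <;> intro h
    · calc d⁻¹ * y * d⁻¹⁻¹ * x = d⁻¹ * (y * (d * x * d⁻¹)) * d := by group
        _ = d⁻¹ * ((d * x * d⁻¹) * y) * d := by rw [h]
        _ = _ := by group
    · calc y * (d * x * d⁻¹) = d * (d⁻¹ * y * d⁻¹⁻¹ * x) * d⁻¹ := by group
        _ = d * (x * (d⁻¹ * y * d⁻¹⁻¹)) * d⁻¹ := by rw [h]
        _ = _ := by group
  have hfib : ∀ u : RS, u ≠ 1 → Nat.card {x : Q // x ^ a = (u : Q)} * m = cC u := by
    intro u hu
    have hum : (u : Q) ^ m = 1 := by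
      rw [← SubmonoidClass.coe_pow, hm, pow_card_eq_one']; rfl
    rw [Char.PiPart.card_fibre hN ha hna hmn hum]
    have hRC : RS ≤ Subgroup.centralizer ({(u : Q)} : Set Q) := fun x hx =>
      Subgroup.mem_centralizer_singleton_iff.2 (congrArg Subtype.val (hcomm ⟨x, hx⟩ u))
    obtain ⟨P', N, hNn, hc⟩ := hnpc u u.2 (fun e => hu (Subtype.ext e))
    have hP' : Nat.card P' = m := by
      rw [P'.card_eq_multiplicity, ← (R.subtype hRC).card_eq_multiplicity]
      exact Nat.card_congr (Subgroup.subgroupOfEquivOfLe hRC).toEquiv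
    have hNcard : Nat.card N * m = cC u := hP' ▸ hc.card_mul
    rw [← hNcard]
    congr 1
    have hNm : (Nat.card N).Coprime m := by
      rw [hk]
      refine (((Fact.out : r.Prime).coprime_iff_not_dvd.2 ?_).pow_left k).symm
      rw [← hc.index_eq_card]
      exact P'.not_dvd_index
    refine Nat.card_congr (Equiv.subtypeEquivRight fun z => ?_)
    constructor
    · intro hz
      by_contra hzN
      have hq : (QuotientGroup.mk z : _ ⧸ N) ≠ 1 := fun e => hzN ((QuotientGroup.eq_one_iff _).1 e)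
      refine hq (orderOf_eq_one_iff.1 (Nat.eq_one_of_dvd_coprimes hmn ?_ ?_))
      · have := orderOf_dvd_natCard (QuotientGroup.mk z : _ ⧸ N)
        rwa [← Subgroup.index_eq_card, hc.symm.index_eq_card, hP'] at this
      · exact orderOf_dvd_of_pow_eq_one (by rw [← QuotientGroup.mk_pow, hz]; rfl)
    · intro hz
      rw [← orderOf_dvd_iff_pow_eq_one]
      have h1 : orderOf z ∣ Nat.card N := Subgroup.orderOf_dvd_natCard N hz
      exact (hNm.coprime_dvd_left h1).dvd_of_dvd_mul_left
        ((Subgroup.orderOf_coe z).symm ▸ (orderOf_dvd_natCard (z : Q)).trans hN)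
  have hcount : ∀ f : RS → ℂ, (∀ u, f (s u) = f u) → f 1 = 0 →
      3 * (m : ℂ) * ∑ g : Q, T f g = (Nat.card Q : ℂ) * ∑ u : RS, f u := by
    intro f hf hf1
    let f' : RS → ℂ := fun u => (m : ℂ) * f u / (cC u : ℂ)
    have hf' : ∀ u, f' (s u) = f' u := fun u => by
      show (m : ℂ) * f (s u) / (cC (s u : RS) : ℂ) = _
      rw [hf, hs_coe, hcC]
    have hf'1 : f' 1 = 0 := by simp [f', hf1]
    let G2 : Q → Q → ℂ := fun g d => if h : d * g ^ a * d⁻¹ ∈ RS then f' ⟨_, h⟩ else 0
    have hleft : ∀ g : Q, ∑ d : Q, G2 g d = 3 * (m : ℂ) * T f g := by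
      intro g
      by_cases hg : g ^ a = 1
      · rw [hTone f g hg, hf1, mul_zero]
        refine Finset.sum_eq_zero fun d _ => ?_
        simp only [G2]
        split_ifs with h
        · exact (congrArg f' (Subtype.ext (by show d * g ^ a * d⁻¹ = 1; rw [hg]; group))).trans hf'1
        · rfl
      set u : RS := ⟨cj g * g ^ a * (cj g)⁻¹, hcj g⟩ with hu
      have hu1 : u ≠ 1 := fun e => hg (conj_eq_one_iff.1 (congrArg Subtype.val e))
      have hval : ∀ d (h : d * g ^ a * d⁻¹ ∈ RS), f' ⟨_, h⟩ = f' u := fun d h =>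
        ((hT f' hf' g d ⟨_, h⟩ rfl).symm.trans (hT f' hf' g (cj g) u rfl))
      have hcardd : (Finset.univ.filter fun d : Q => d * g ^ a * d⁻¹ ∈ RS).card = 3 * cC u := by
        have hone' : ∀ v : RS, (∃ d0, d0 * g ^ a * d0⁻¹ = (v : Q)) →
            (Finset.univ.filter fun d : Q => d * g ^ a * d⁻¹ = (v : Q)).card = cC u := by
          rintro v ⟨d0, hd0⟩
          rw [show cC (u : Q) = cC (g ^ a) from hcC _ _]
          rw [← Fintype.card_subtype, ← Nat.card_eq_fintype_card]
          refine Nat.card_congr ((Equiv.mulLeft d0⁻¹).subtypeEquiv fun d => ?_)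
          rw [← hd0, Equiv.coe_mulLeft, Subgroup.mem_centralizer_singleton_iff]
          constructor <;> intro h
          · calc d0⁻¹ * d * g ^ a = d0⁻¹ * (d * g ^ a * d⁻¹) * d := by group
              _ = d0⁻¹ * (d0 * g ^ a * d0⁻¹) * d := by rw [h]
              _ = _ := by group
          · calc d * g ^ a * d⁻¹ = d0 * (d0⁻¹ * d * g ^ a) * d⁻¹ := by group
              _ = d0 * (g ^ a * (d0⁻¹ * d)) * d⁻¹ := by rw [h]
              _ = _ := by group
        have hsplit : (Finset.univ.filter fun d : Q => d * g ^ a * d⁻¹ ∈ RS) =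
            ({u, s u, s (s u)} : Finset RS).biUnion
              fun v => Finset.univ.filter fun d : Q => d * g ^ a * d⁻¹ = (v : Q) := by
          ext d
          simp only [Finset.mem_filter, Finset.mem_univ, true_and, Finset.mem_biUnion]
          constructor
          · intro h
            obtain ⟨n', hn', hnu⟩ := Transfer.exists_normalizer_conj_of_isMulCommutative R hab u.2
              (d * (cj g)⁻¹) (by
                rw [hu, show d * (cj g)⁻¹ * (cj g * g ^ a * (cj g)⁻¹) * (d * (cj g)⁻¹)⁻¹ =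
                  d * g ^ a * d⁻¹ by group]
                exact h)
            rw [show d * (cj g)⁻¹ * ((u : RS) : Q) * (d * (cj g)⁻¹)⁻¹ = d * g ^ a * d⁻¹ by
              rw [hu]; group] at hnu
            rcases hNC n' hn' u with e | e | e <;> rw [hnu] at e <;>
              exact ⟨_, by simp, e⟩
          · rintro ⟨v, -, e⟩
            rw [e]; exact v.2
        rw [hsplit, Finset.card_biUnion]
        · rw [Finset.sum_congr rfl fun v hv => hone' v (by
            simp only [Finset.mem_insert, Finset.mem_singleton] at hv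
            rcases hv with rfl | rfl | rfl
            · exact ⟨cj g, rfl⟩
            · exact ⟨n0 * cj g, by rw [hs_coe, hu]; group⟩
            · exact ⟨n0 * (n0 * cj g), by rw [hs_coe, hs_coe, hu]; group⟩), Finset.sum_const, smul_eq_mul]
          congr 1
          refine Finset.card_eq_three.2 ⟨u, s u, s (s u), fun e => hu1 (hfix u e.symm),
            fun e => hu1 (hfix2 u e.symm), fun e => hu1 (hfix u (s.injective e).symm), rfl⟩
        · intro v _ v' _ hvv
          rw [Function.onFun, Finset.disjoint_left]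
          intro d hd hd'
          simp only [Finset.mem_filter] at hd hd'
          exact hvv (Subtype.ext (hd.2.symm.trans hd'.2))
      rw [show ∑ d : Q, G2 g d = ∑ d ∈ Finset.univ.filter (fun d : Q => d * g ^ a * d⁻¹ ∈ RS), f' u from ?_,
        Finset.sum_const, hcardd, nsmul_eq_mul]
      · have hc0 : (cC u : ℂ) ≠ 0 := Nat.cast_ne_zero.2 Nat.card_pos.ne'
        show _ * ((m : ℂ) * f u / (cC u : ℂ)) = 3 * (m : ℂ) * f u
        push_cast
        field_simp
      · rw [Finset.sum_filter]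
        refine Finset.sum_congr rfl fun d _ => ?_
        simp only [G2]
        by_cases h : d * g ^ a * d⁻¹ ∈ RS
        · rw [dif_pos h, if_pos h, hval d h]
        · rw [dif_neg h, if_neg h]
    have hright : ∀ d : Q, ∑ g : Q, G2 g d = ∑ u : RS, f u := by
      intro d
      rw [← (MulAut.conj d⁻¹).bijective.sum_comp fun g => G2 g d]
      have hconj : ∀ h : Q, d * (MulAut.conj d⁻¹ h) ^ a * d⁻¹ = h ^ a := fun h => by
        rw [MulAut.conj_apply, conj_pow]; group
      calc ∑ h : Q, G2 (MulAut.conj d⁻¹ h) d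
          = ∑ h : Q, ∑ u : RS, if h ^ a = (u : Q) then f' u else 0 := by
            refine Finset.sum_congr rfl fun h _ => ?_
            simp only [G2]
            by_cases hh : d * (MulAut.conj d⁻¹ h) ^ a * d⁻¹ ∈ RS
            · rw [dif_pos hh, Finset.sum_eq_single ⟨_, hh⟩, if_pos (hconj h).symm]
              · exact fun v _ hv => if_neg fun e => hv (Subtype.ext (e.symm.trans (hconj h).symm))
              · simp
            · rw [dif_neg hh, Finset.sum_eq_zero]
              exact fun v _ => if_neg fun e => hh (by rw [hconj, e]; exact v.2)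
        _ = ∑ u : RS, (Nat.card {x : Q // x ^ a = (u : Q)} : ℂ) * f' u := by
            rw [Finset.sum_comm]
            refine Finset.sum_congr rfl fun u _ => ?_
            rw [← Finset.sum_filter, Finset.sum_const, nsmul_eq_mul, Nat.card_eq_fintype_card,
              Fintype.card_subtype]
        _ = _ := by
            refine Finset.sum_congr rfl fun u _ => ?_
            rcases eq_or_ne u 1 with rfl | hu
            · rw [hf'1, hf1, mul_zero]
            have hc0 : (cC u : ℂ) ≠ 0 := Nat.cast_ne_zero.2 Nat.card_pos.ne'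
            show _ * ((m : ℂ) * f u / (cC u : ℂ)) = _
            rw [← hfib u hu] at hc0 ⊢
            push_cast at hc0 ⊢
            rw [← mul_div_assoc, ← mul_assoc, mul_div_cancel_left₀ _ hc0]
    rw [Finset.mul_sum, ← Finset.sum_congr rfl fun g _ => hleft g, Finset.sum_comm,
      Finset.sum_congr rfl fun d _ => hright d, Finset.sum_const, Finset.card_univ, nsmul_eq_mul,
      Nat.card_eq_fintype_card]
  -- the function
  set Φ : Q → ℂ := fun g => T η g - 3 with hΦ
  have hΦcl : IsClassFunction Q Φ := by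
    intro g h
    show T η _ - 3 = T η g - 3
    rw [hT η hηs (h * g * h⁻¹) (cj g * h⁻¹) ⟨_, hcj g⟩ (by
      rw [conj_pow]; show _ = cj g * g ^ a * (cj g)⁻¹; group)]
  have hΦgen : IsGeneralizedCharacter Q Φ := by
    refine Char.brauer_characterisation hΦcl fun E p hp hE => ?_
    haveI := Char.isNilpotent_of_isElementary hp hE
    have hNE : Nat.card E ∣ m * n := hQmn ▸ Subgroup.card_subgroup_dvd_card E
    let fE : E →* Q :=
      { toFun := fun x => ((x ^ a : E) : Q)
        map_one' := by rw [one_pow]; rfl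
        map_mul' := fun x y => by rw [Char.PiPart.part_hom hNE ha hna hmn]; rfl }
    obtain ⟨d, hd⟩ := hinto fE.range (by
      rintro _ ⟨x, rfl⟩
      exact Char.PiPart.part_pow hN hna (x : Q))
    let F : E →* RS :=
      ((MulAut.conj d).toMonoidHom.comp fE).codRestrict RS fun x => hd _ ⟨x, rfl⟩
    have hF : ∀ x : E, Φ x = χ (F x) + χ (s (F x)) + χ (s (s (F x))) - 3 := fun x => by
      show T η (x : Q) - 3 = _
      rw [hT η hηs (x : Q) d (F x) rfl]
    have hlin : ∀ g : RS →* RS, IsGeneralizedCharacter E fun x => χ (g (F x)) := fun g =>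
      Char.isGeneralized_of_isCharacter (Char.isCharacter_monoidHom (ψ.comp (g.comp F)))
    have h3 : (fun e : E => Φ e) = ((fun x => χ ((MonoidHom.id RS) (F x))) +
        (fun x => χ (s.toMonoidHom (F x))) + (fun x => χ ((s.trans s).toMonoidHom (F x)))) -
        ((fun _ => (1 : ℂ)) + (fun _ => (1 : ℂ)) + (fun _ => (1 : ℂ))) := funext fun x => by
      rw [hF]; simp; norm_num
    rw [h3]
    exact Char.isGeneralized_sub
      (Char.isGeneralized_add (Char.isGeneralized_add (hlin _) (hlin _)) (hlin _))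
      (Char.isGeneralized_add (Char.isGeneralized_add Char.isGeneralized_one Char.isGeneralized_one)
        Char.isGeneralized_one)
  have hm0 : (m : ℂ) ≠ 0 := Nat.cast_ne_zero.2 Nat.card_pos.ne'
  have hQ0 : (Nat.card Q : ℂ) ≠ 0 := Nat.cast_ne_zero.2 Nat.card_pos.ne'
  have hnorm : classInner Φ Φ = 4 := by
    have h := hcount (fun u => (η u - 3) * (conj (η u) - 3)) (fun u => by simp only [hηs])
      (by simp [hη1])
    have e : ∑ u : RS, (η u - 3) * (conj (η u) - 3) = 12 * (m : ℂ) := by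
      calc ∑ u : RS, (η u - 3) * (conj (η u) - 3)
          = ∑ u : RS, η u * conj (η u) - 3 * ∑ u : RS, η u - 3 * conj (∑ u : RS, η u) +
              ∑ _u : RS, (9 : ℂ) := by
            rw [map_sum, Finset.mul_sum, Finset.mul_sum, ← Finset.sum_sub_distrib,
              ← Finset.sum_sub_distrib, ← Finset.sum_add_distrib]
            exact Finset.sum_congr rfl fun u _ => by ring
        _ = _ := by
            rw [hηnorm, hηsum, map_zero, Finset.sum_const, Finset.card_univ, nsmul_eq_mul, hm,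
              Nat.card_eq_fintype_card]
            ring
    rw [e] at h
    have hT' : ∑ g : Q, Φ g * conj (Φ g) = ∑ g : Q, T (fun u => (η u - 3) * (conj (η u) - 3)) g :=
      Finset.sum_congr rfl fun g _ => by simp [hΦ, T, map_sub, map_ofNat]
    rw [classInner, hT', inv_mul_eq_iff_eq_mul₀ hQ0]
    refine mul_left_cancel₀ (mul_ne_zero (by norm_num : (3 : ℂ) ≠ 0) hm0) ?_
    rw [h]; ring
  have hΦtriv : classInner Φ (fun _ => (1 : ℂ)) = -1 := by
    have h := hcount (fun u => η u - 3) (fun u => by simp only [hηs]) (by simp [hη1])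
    have e : ∑ u : RS, (η u - 3) = -3 * (m : ℂ) := by
      rw [Finset.sum_sub_distrib, hηsum, Finset.sum_const, Finset.card_univ, nsmul_eq_mul,
        ← Nat.card_eq_fintype_card, ← hm]
      ring
    rw [e] at h
    simp only [classInner, map_one, mul_one]
    rw [inv_mul_eq_iff_eq_mul₀ hQ0]
    refine mul_left_cancel₀ (mul_ne_zero (by norm_num : (3 : ℂ) ≠ 0) hm0) ?_
    show 3 * (m : ℂ) * ∑ g : Q, T (fun u => η u - 3) g = _
    rw [h]; ring
  choose c hc using fun ζ : IrrCharacter Q =>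
    Char.exists_int_classInner hΦgen (Char.isGeneralized_of_isCharacter (Char.isCharacter_of_isIrr ζ.2))
  have hexp : ∀ g : Q, Φ g = ∑ ζ : IrrCharacter Q, (c ζ : ℂ) * (ζ : Q → ℂ) g := by
    intro g
    conv_lhs => rw [Char.classFunction_expansion hΦcl]
    rw [Finset.sum_apply]
    exact Finset.sum_congr rfl fun ζ _ => by rw [Pi.smul_apply, smul_eq_mul, hc]
  have hsq : ∑ ζ : IrrCharacter Q, c ζ * c ζ = 4 := by
    have h := hnorm
    rw [Char.classFunction_expansion hΦcl, Char.classInner_sum_smul_sum_smul] at h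
    simp only [hc, map_intCast] at h
    exact_mod_cast h
  set t := Blocks.trivIrr Q with ht
  have hct : c t = -1 := by
    have h := hc t
    rw [show (t : Q → ℂ) = fun _ => 1 from rfl, hΦtriv] at h
    exact_mod_cast h.symm
  -- the principal block
  obtain ⟨M, hM⟩ := Blocks.exists_isPModular Nat.prime_two
  obtain ⟨Z, α, hZ4, hmemZ, htZ, hαt, hpm, hcong, hval, hrel⟩ := Invol.klein_block hM P hP hone
  have hαJ : ∀ ζ ∈ Z, (ζ : Q → ℂ) J = α ζ := fun ζ hζ => hval ζ hζ J (by rw [hJ])
  set O : Subgroup Q := (pPrimeCore 2 (Subgroup.centralizer ({J} : Set Q))).map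
    (Subgroup.centralizer ({J} : Set Q)).subtype with hO
  obtain ⟨-, -, hnpcJ⟩ := Invol.klein_centralizer P hP hJ hJP
  have hOC : O ≤ Subgroup.centralizer ({J} : Set Q) := Subgroup.map_subtype_le _
  have hRO : RS ≤ O := by
    intro x hx
    refine ⟨⟨x, hRJ hx⟩, ?_, rfl⟩
    show _ ∈ pPrimeCore 2 _
    rw [Transfer.pPrimeCore_eq_pResidual hnpcJ]
    refine Transfer.mem_pResidual_of_coprime ?_
    obtain ⟨j, hj⟩ := IsPGroup.iff_orderOf.1 R.2 ⟨x, hx⟩
    rw [← Subgroup.orderOf_coe, show orderOf x = r ^ j from (Subgroup.orderOf_coe _).trans hj]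
    exact ((Nat.coprime_primes Fact.out Nat.prime_two).2 hr).pow_left j
  have hOsum : ∑ o : O, Φ (J * o) = -3 * (Nat.card O : ℂ) := by
    let R' : Sylow r O := R.subtype hRO
    have hB : Subgroup.normalizer ((R' : Subgroup O) : Set O) ≤ Subgroup.centralizer ((R' : Subgroup O) : Set O) := by
      intro d hd
      have hdN : (d : Q) ∈ Subgroup.normalizer (RS : Set Q) := by
        refine Subgroup.mem_normalizer_iff.2 fun x => ⟨fun hx => ?_, fun hx => ?_⟩
        · exact (Subgroup.mem_normalizer_iff.1 hd ⟨x, hRO hx⟩).1 hx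
        · have hmem : ∀ y : O, (y : Q) ∈ RS → y ∈ (R' : Subgroup O) := fun y hy => hy
          have := (Subgroup.mem_normalizer_iff.1 (inv_mem hd) ⟨_, hRO hx⟩).1 (hmem _ hx)
          change (d : Q)⁻¹ * ((d : Q) * x * (d : Q)⁻¹) * ((d : Q)⁻¹)⁻¹ ∈ RS at this
          rwa [show (d : Q)⁻¹ * ((d : Q) * x * (d : Q)⁻¹) * ((d : Q)⁻¹)⁻¹ = x by group] at this
      have hdC := hRN ⟨hdN, hOC d.2⟩
      exact Subgroup.mem_centralizer_iff.2 fun y hy =>
        Subtype.ext (Subgroup.mem_centralizer_iff.1 hdC (y : Q) hy)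
    obtain ⟨e, he'⟩ : ∃ e : ℕ, (R' : Subgroup O).index * e ≡ 1 [MOD m] := by
      have hcop : ((R' : Subgroup O).index).Coprime m := by
        rw [hk]; exact (((Fact.out : r.Prime).coprime_iff_not_dvd.2 R'.not_dvd_index).pow_left k).symm
      obtain ⟨e, -, he'⟩ := Nat.exists_mul_mod_eq_one_of_coprime hcop (by
        rw [hk]; exact Nat.one_lt_pow (fun k0 => hw (by
          have : Nat.card RS = 1 := by rw [← hm, hk, k0, pow_zero]
          haveI := (Nat.card_eq_one_iff_unique.1 this).1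
          exact Subsingleton.elim _ _)) (Fact.out : r.Prime).one_lt)
      exact ⟨e, by rw [Nat.ModEq, he', Nat.one_mod_eq_one.2]; rw [hk]; exact
        (Nat.one_lt_pow (fun k0 => hw (by
          have : Nat.card RS = 1 := by rw [← hm, hk, k0, pow_zero]
          haveI := (Nat.card_eq_one_iff_unique.1 this).1
          exact Subsingleton.elim _ _)) (Fact.out : r.Prime).one_lt).ne'⟩
    let ι : (R' : Subgroup O) →* RS :=
      (((O.subtype).comp (R' : Subgroup O).subtype).codRestrict RS fun y => y.2)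
    let ρ : O →* RS := (powMonoidHom e).comp (ι.comp (MonoidHom.transferSylow R' hB))
    have hρ : ∀ (y : O) (hy : (y : Q) ∈ RS), ρ y = ⟨y, hy⟩ := by
      intro y hy
      refine Subtype.ext ?_
      show ((ι (MonoidHom.transferSylow R' hB y) : RS) : Q) ^ e = y
      rw [MonoidHom.transferSylow_eq_pow R' hB y hy]
      show ((y : Q) ^ (R' : Subgroup O).index) ^ e = y
      rw [← pow_mul]
      conv_rhs => rw [← pow_one (y : Q)]
      refine pow_eq_pow_iff_modEq.2 (he'.of_dvd (orderOf_dvd_of_pow_eq_one ?_))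
      have := pow_card_eq_one' (x := (⟨y, hy⟩ : RS))
      exact congrArg Subtype.val this
    have hJa : J ^ a = 1 := by
      rw [← orderOf_dvd_iff_pow_eq_one, hJ]
      refine dvd_trans ?_ hna
      have h2 : 2 ∣ m * n := hQmn ▸ hJ ▸ orderOf_dvd_natCard J
      refine (Nat.Coprime.dvd_of_dvd_mul_left ?_ h2)
      rw [hk]; exact ((Nat.coprime_primes Nat.prime_two Fact.out).2 hr.symm).pow_right k
    have hval' : ∀ o : O, Φ (J * o) = η (ρ o) - 3 := by
      intro o
      have hJo : Commute J (o : Q) := (Subgroup.mem_centralizer_singleton_iff.1 (hOC o.2)).symm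
      obtain ⟨S, hS⟩ := (show IsPGroup r (Subgroup.zpowers (o ^ a)) from IsPGroup.of_card (n := (orderOf (o ^ a)).factorization r) (by
        rw [Nat.card_zpowers]
        obtain ⟨j, -, hj⟩ := (Nat.dvd_prime_pow (Fact.out : r.Prime)).1 (hk ▸
          orderOf_dvd_of_pow_eq_one (show (o ^ a) ^ m = 1 from Subtype.ext (by
            push_cast; exact Char.PiPart.part_pow hN hna (o : Q))))
        rw [hj, (Fact.out : r.Prime).factorization_pow, Finsupp.single_eq_same])).exists_le_sylow
      obtain ⟨d, hd⟩ := MulAction.exists_smul_eq O S R'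
      have hmem : d * o ^ a * d⁻¹ ∈ (R' : Subgroup O) := hd ▸ ⟨o ^ a, hS (Subgroup.mem_zpowers _), rfl⟩
      have h1 : ρ (d * o ^ a * d⁻¹) = ρ o := by
        rw [map_mul, map_mul, map_inv, map_pow, mul_comm (ρ d), mul_inv_cancel_right,
          Char.PiPart.part_eq_self ha pow_card_eq_one']
      show T η (J * o) - 3 = _
      rw [hT η hηs (J * o) d ⟨((d * o ^ a * d⁻¹ : O) : Q), hmem⟩ (by
        rw [hJo.mul_pow, hJa, one_mul]; rfl), ← h1, hρ (d * o ^ a * d⁻¹) hmem]
    have hz : ∀ g : RS →* RS, (∀ x, g x = 1 → x = 1) → ∑ o : O, χ (g (ρ o)) = 0 := by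
      intro g hg
      have hgs : Function.Surjective g :=
        (Finite.injective_iff_surjective).1 ((injective_iff_map_eq_one g).2 hg)
      obtain ⟨v, hv⟩ := hgs w
      rw [show ∑ o : O, χ (g (ρ o)) = ∑ o : O, (χ.comp (g.comp ρ)) o from rfl, sum_hom_units, if_neg ?_, Nat.cast_zero]
      intro e1
      refine hχw ?_
      have := DFunLike.congr_fun e1 ⟨v, hRO v.2⟩
      simp only [MonoidHom.comp_apply, MonoidHom.one_apply] at this
      rwa [hρ _ v.2, hv] at this
    rw [Finset.sum_congr rfl fun o _ => hval' o, Finset.sum_sub_distrib]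
    simp only [hη, Finset.sum_add_distrib]
    rw [show ∑ o : O, χ (ρ o) = 0 from hz (MonoidHom.id RS) fun _ h => h,
      show ∑ o : O, χ (s (ρ o)) = 0 from hz s.toMonoidHom fun x h => s.map_eq_one_iff.1 h,
      show ∑ o : O, χ (s (s (ρ o))) = 0 from hz (s.trans s).toMonoidHom fun x h => (s.trans s).map_eq_one_iff.1 h,
      Finset.sum_const, Finset.card_univ, nsmul_eq_mul, Nat.card_eq_fintype_card]
    ring
  have hblock : ∑ ζ ∈ Z, c ζ * α ζ = -3 := by
    have h : ∑ ζ : IrrCharacter Q, (c ζ : ℂ) * ∑ o : O, (ζ : Q → ℂ) (J * o) = -3 * (Nat.card O : ℂ) := by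
      rw [← hOsum]
      simp only [Finset.mul_sum]
      rw [Finset.sum_comm]
      exact Finset.sum_congr rfl fun o _ => (hexp _).symm
    rw [← Finset.sum_subset (Finset.subset_univ Z)] at h
    · rw [Finset.sum_congr rfl fun ζ hζ => by
        rw [Invol.klein_coset_sum hM P hP hone hJP hJ ζ, if_pos ((hmemZ ζ).1 hζ), hαJ ζ hζ]] at h
      have hO0 : (Nat.card O : ℂ) ≠ 0 := Nat.cast_ne_zero.2 Nat.card_pos.ne'
      have h' : ((∑ ζ ∈ Z, c ζ * α ζ : ℤ) : ℂ) * (Nat.card O : ℂ) = -3 * (Nat.card O : ℂ) := by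
        rw [← h]; push_cast
        rw [Finset.sum_mul]
        exact Finset.sum_congr rfl fun ζ _ => by ring
      exact_mod_cast mul_right_cancel₀ hO0 h'
    · intro ζ _ hζ
      rw [Invol.klein_coset_sum hM P hP hone hJP hJ ζ, if_neg fun h => hζ ((hmemZ ζ).2 h), mul_zero]
  obtain ⟨x, y, z, hxy, hxz, hyz, hxyz⟩ := Finset.card_eq_three.1
    (show (Z.erase t).card = 3 by rw [Finset.card_erase_of_mem htZ, hZ4])
  have hmemE : ∀ ζ, ζ ∈ Z.erase t ↔ ζ = x ∨ ζ = y ∨ ζ = z := fun ζ => by simp [hxyz]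
  have hne : ∀ ζ ∈ Z.erase t, ζ ≠ t ∧ ζ ∈ Z := fun ζ h => Finset.mem_erase.1 h
  have hsum2 : c x * α x + c y * α y + c z * α z = -2 := by
    rw [← Finset.add_sum_erase Z _ htZ, hxyz, hct, hαt,
      Finset.sum_insert (by simp [hxy, hxz]), Finset.sum_insert (by simp [hyz]),
      Finset.sum_singleton] at hblock
    linarith
  have hsq2 : c x * c x + (c y * c y + c z * c z) +
      ∑ ζ ∈ Finset.univ.filter (· ∉ Z), c ζ * c ζ = 3 := by
    rw [← Finset.sum_filter_add_sum_filter_not Finset.univ (· ∈ Z), Finset.filter_mem_eq_inter,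
      Finset.univ_inter, ← Finset.add_sum_erase Z _ htZ, hxyz, hct,
      Finset.sum_insert (by simp [hxy, hxz]), Finset.sum_insert (by simp [hyz]),
      Finset.sum_singleton] at hsq
    linarith
  have hout0 : 0 ≤ ∑ ζ ∈ Finset.univ.filter (· ∉ Z), c ζ * c ζ :=
    Finset.sum_nonneg fun _ _ => mul_self_nonneg _
  have hpm' : ∀ ζ ∈ Z.erase t, α ζ = 1 ∨ α ζ = -1 := fun ζ h => hpm ζ (hne ζ h).2
  -- linear characters are trivial
  have hdeg : ∀ ζ ∈ Z.erase t, ((charDegree (ζ : Q → ℂ) : ℤ) * α ζ) % 4 = 1 ∧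
      (charDegree (ζ : Q → ℂ) : ℤ) * α ζ ≠ 1 ∧ (charDegree (ζ : Q → ℂ) : ℤ) ≠ 0 := by
    intro ζ hζ
    have h4 := hcong ζ (hne ζ hζ).2
    have hd1 : charDegree (ζ : Q → ℂ) ≠ 1 := by
      intro h
      have h1 : (ζ : Q → ℂ) 1 = 1 := by rw [(Blocks.irr_degree_eq ζ).1, h, Nat.cast_one]
      refine (hne ζ hζ).1 (Subtype.ext (funext fun g => ?_))
      set L := Char.linearHom (Char.isCharacter_of_isIrr ζ.2) h1
      have hL : L g = 1 := Abelianization.commutator_subset_ker L (hperf ▸ Subgroup.mem_top g)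
      show (ζ : Q → ℂ) g = 1
      rw [← Char.linearHom_apply (Char.isCharacter_of_isIrr ζ.2) h1 g, hL, Units.val_one]
    have hd0 := (Blocks.irr_degree_eq ζ).2
    rcases hpm' ζ hζ with e | e <;> rw [e] at h4 ⊢ <;> omega
  have two : ∀ p q w : IrrCharacter Q, p ∈ Z.erase t → q ∈ Z.erase t → p ≠ q → p ≠ w → q ≠ w →
      (∀ ζ, ζ ∈ Z.erase t ↔ ζ = p ∨ ζ = q ∨ ζ = w) → c p = -α p → c q = -α q → c w = 0 →
      ∑ ζ ∈ Finset.univ.filter (· ∉ Z), c ζ * c ζ = 1 → False := by
    intro p q w hp hq hpq hpw hqw hall hcp hcq hcw hout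
    obtain ⟨ξ, hξZ, hξ⟩ : ∃ ξ, ξ ∉ Z ∧ c ξ ≠ 0 := by
      by_contra hall'
      push Not at hall'
      rw [Finset.sum_eq_zero fun ζ hζ => by rw [hall' ζ (Finset.mem_filter.1 hζ).2, zero_mul]] at hout
      norm_num at hout
    have hξsq : ∀ ζ, ζ ∉ Z → ζ ≠ ξ → c ζ = 0 := by
      intro ζ hζ hne'
      have := Finset.add_le_sum (f := fun ζ => c ζ * c ζ) (s := Finset.univ.filter (· ∉ Z))
        (fun _ _ => mul_self_nonneg _) (by simp [hξZ] : ξ ∈ _) (by simp [hζ] : ζ ∈ _) hne'.symm
      rw [hout] at this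
      have h1 : 1 ≤ c ξ * c ξ := by nlinarith [mul_self_pos.2 hξ]
      exact mul_self_eq_zero.1 (by nlinarith [mul_self_nonneg (c ζ)])
    have hξ1 : c ξ * c ξ = 1 := by
      rw [← hout, Finset.sum_eq_single_of_mem ξ (by simp [hξZ]) fun ζ hζ hne' => by
        rw [hξsq ζ (Finset.mem_filter.1 hζ).2 hne', zero_mul]]
    have hev : ∀ F : IrrCharacter Q → ℂ, ∑ ζ, (c ζ : ℂ) * F ζ =
        -F t - (α p : ℂ) * F p - (α q : ℂ) * F q + (c ξ : ℂ) * F ξ := by
      intro F
      have hin : ∀ {u}, u = p ∨ u = q → u ≠ t ∧ u ∈ Z := fun h => hne _ ((hall _).2 (h.imp id Or.inl))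
      rw [← Finset.sum_subset (Finset.subset_univ ({t, p, q, ξ} : Finset (IrrCharacter Q)))]
      · rw [Finset.sum_insert, Finset.sum_insert, Finset.sum_insert, Finset.sum_singleton, hct, hcp, hcq]
        · push_cast; ring
        · simp only [Finset.mem_singleton]
          exact fun e => hξZ (e ▸ (hin (Or.inr rfl)).2)
        · simp only [Finset.mem_insert, Finset.mem_singleton, not_or]
          exact ⟨hpq, fun e => hξZ (e ▸ (hin (Or.inl rfl)).2)⟩
        · simp only [Finset.mem_insert, Finset.mem_singleton, not_or]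
          exact ⟨(hin (Or.inl rfl)).1.symm, (hin (Or.inr rfl)).1.symm, fun e => hξZ (e ▸ htZ)⟩
      · intro ζ _ hζ
        simp only [Finset.mem_insert, Finset.mem_singleton, not_or] at hζ
        by_cases hζZ : ζ ∈ Z
        · rcases (hall ζ).1 (Finset.mem_erase.2 ⟨hζ.1, hζZ⟩) with e | e | e
          · exact absurd e hζ.2.1
          · exact absurd e hζ.2.2.1
          · rw [e, hcw, Int.cast_zero, zero_mul]
        · rw [hξsq ζ hζZ hζ.2.2.2, Int.cast_zero, zero_mul]
    -- values
    have hΦJ : ∀ g : Q, g ^ a = 1 → Φ g = 0 := fun g hg => by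
      show T η g - 3 = 0
      rw [hTone η g hg, hη1, sub_self]
    have hJa : J ^ a = 1 := by
      rw [← orderOf_dvd_iff_pow_eq_one, hJ]
      refine dvd_trans ?_ hna
      have h2 : 2 ∣ m * n := hQmn ▸ hJ ▸ orderOf_dvd_natCard J
      refine (Nat.Coprime.dvd_of_dvd_mul_left ?_ h2)
      rw [hk]; exact ((Nat.coprime_primes Nat.prime_two Fact.out).2 hr.symm).pow_right k
    have eJ := hexp J
    rw [hΦJ J hJa, hev, show (t : Q → ℂ) J = 1 from rfl, hαJ p (hne p hp).2, hαJ q (hne q hq).2] at eJ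
    have e1 := hexp 1
    rw [hΦJ 1 (one_pow a), hev, show (t : Q → ℂ) 1 = 1 from rfl] at e1
    -- products of two involutions
    have eS : ∑ ζ, (c ζ : ℂ) * ((ζ : Q → ℂ) J * (ζ : Q → ℂ) J / (ζ : Q → ℂ) 1) = 0 := by
      have hz : ∀ g : Q, Φ g * ∑ ζ : IrrCharacter Q,
          (ζ : Q → ℂ) J * (ζ : Q → ℂ) J * conj ((ζ : Q → ℂ) g) / (ζ : Q → ℂ) 1 = 0 := by
        intro g
        by_cases hg : g ^ a = 1
        · rw [hΦJ g hg, zero_mul]
        refine mul_eq_zero_of_right _ ?_
        have h := Char.class_mult J J g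
        haveI : IsEmpty {p : Q × Q // IsConj J p.1 ∧ IsConj J p.2 ∧ p.1 * p.2 = g} := ⟨fun ⟨pq, h1, h2, h3⟩ => by
          have inv2 : ∀ v, IsConj J v → v * v = 1 := fun v hv => by
            obtain ⟨d, rfl⟩ := isConj_iff.1 hv
            rw [conj_mul, show J * J = 1 by rw [← pow_two, ← hJ, pow_orderOf_eq_one], mul_one, mul_inv_cancel]
          have hxg : pq.1 * g * pq.1⁻¹ = g⁻¹ := by
            rw [← h3, mul_inv_rev, inv_eq_of_mul_eq_one_right (inv2 _ h2),
              inv_eq_of_mul_eq_one_right (inv2 _ h1), ← mul_assoc, inv2 _ h1, one_mul]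
          have hxa : pq.1 * g ^ a * pq.1⁻¹ = (g ^ a)⁻¹ := by rw [← conj_pow, hxg, inv_pow]
          have := hreal ⟨_, hcj g⟩ (cj g * pq.1 * (cj g)⁻¹) (by
            show cj g * pq.1 * (cj g)⁻¹ * (cj g * g ^ a * (cj g)⁻¹) * (cj g * pq.1 * (cj g)⁻¹)⁻¹ = _
            rw [show cj g * pq.1 * (cj g)⁻¹ * (cj g * g ^ a * (cj g)⁻¹) * (cj g * pq.1 * (cj g)⁻¹)⁻¹ =
              cj g * (pq.1 * g ^ a * pq.1⁻¹) * (cj g)⁻¹ by group, hxa]
            group)
          exact hg (conj_eq_one_iff.1 (congrArg Subtype.val this))⟩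
        rw [Nat.card_of_isEmpty, Nat.cast_zero] at h
        rcases mul_eq_zero.1 h.symm with h0 | h0
        · exfalso
          have hi : ((Subgroup.centralizer ({J} : Set Q)).index : ℂ) ≠ 0 :=
            Nat.cast_ne_zero.2 Subgroup.index_ne_zero_of_finite
          exact div_ne_zero (mul_ne_zero hi hi) hQ0 h0
        · exact h0
      have h := Finset.sum_eq_zero (s := (Finset.univ : Finset Q)) fun g _ => hz g
      simp only [Finset.mul_sum] at h
      rw [Finset.sum_comm] at h
      refine mul_left_cancel₀ hQ0 ?_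
      rw [mul_zero, ← h, Finset.mul_sum]
      refine Finset.sum_congr rfl fun ζ _ => ?_
      rw [← hc ζ, classInner]
      rw [← mul_assoc, ← mul_assoc, mul_inv_cancel₀ hQ0, one_mul, Finset.sum_mul]
      exact Finset.sum_congr rfl fun g _ => by ring
    rw [hev, show (t : Q → ℂ) J = 1 from rfl, show (t : Q → ℂ) 1 = 1 from rfl,
      hαJ p (hne p hp).2, hαJ q (hne q hq).2] at eS
    rw [(Blocks.irr_degree_eq p).1, (Blocks.irr_degree_eq q).1] at e1 eS
    obtain ⟨hp4, hp1, hp0⟩ := hdeg p hp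
    obtain ⟨hq4, hq1, hq0⟩ := hdeg q hq
    have hpp : α p * α p = 1 := by rcases hpm' p hp with e | e <;> simp [e]
    have hqq : α q * α q = 1 := by rcases hpm' q hq with e | e <;> simp [e]
    have hppC : (α p : ℂ) * α p = 1 := by exact_mod_cast hpp
    have hqqC : (α q : ℂ) * α q = 1 := by exact_mod_cast hqq
    have hξC : (c ξ : ℂ) * c ξ = 1 := by exact_mod_cast hξ1
    have hv : (c ξ : ℂ) * (ξ : Q → ℂ) J = 3 := by linear_combination -eJ + hppC + hqqC
    set X : ℤ := (charDegree (p : Q → ℂ) : ℤ) * α p with hX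
    set Y : ℤ := (charDegree (q : Q → ℂ) : ℤ) * α q with hY
    have hN3 : (c ξ : ℂ) * (ξ : Q → ℂ) 1 = 1 + (X : ℂ) + (Y : ℂ) := by
      rw [hX, hY]; push_cast
      linear_combination -e1
    refine klein_three_arith X Y hp4 hq4 hp1 hq1 ?_
    obtain ⟨n3, hn3, hn3'⟩ := Char.exists_nat_degree_irr ξ.2
    have hn0' : (n3 : ℂ) ≠ 0 := Nat.cast_ne_zero.2 hn3.ne'
    have hp0' : (charDegree (p : Q → ℂ) : ℂ) ≠ 0 := by exact_mod_cast hp0
    have hq0' : (charDegree (q : Q → ℂ) : ℂ) ≠ 0 := by exact_mod_cast hq0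
    rw [hn3'] at eS hN3
    have : ((X : ℂ) * Y + X + Y) * (1 + X + Y) = 9 * ((X : ℂ) * Y) := by
      have hXC : (X : ℂ) = (charDegree (p : Q → ℂ) : ℂ) * α p := by rw [hX]; push_cast; ring
      have hYC : (Y : ℂ) = (charDegree (q : Q → ℂ) : ℂ) * α q := by rw [hY]; push_cast; ring
      field_simp at eS
      generalize (charDegree (p : Q → ℂ) : ℂ) = A at *
      generalize (charDegree (q : Q → ℂ) : ℂ) = B at *
      generalize (ξ : Q → ℂ) J = V at *
      generalize (c ξ : ℂ) = ε at *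
      generalize (α p : ℂ) = d1 at *
      generalize (α q : ℂ) = d2 at *
      generalize (n3 : ℂ) = N at *
      rw [hXC, hYC] at hN3 ⊢
      linear_combination (-ε * d1 * d2) * eS + (-(A * d1 * (B * d2) + A * d1 + B * d2)) * hN3 +
        (d1 * d2 * A * B * (ε * V + 3)) * hv - (ε * N * d2 * B * (d1 * d1 + 1)) * hppC -
        (ε * N * d1 * A * (d2 * d2 + 1)) * hqqC
    exact_mod_cast this
  -- the three coefficients
  obtain ⟨hqx, hqy, hqz, hout⟩ : (c x * α x = -1 ∨ c x * α x = 0) ∧ (c y * α y = -1 ∨ c y * α y = 0) ∧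
      (c z * α z = -1 ∨ c z * α z = 0) ∧ ∑ ζ ∈ Finset.univ.filter (· ∉ Z), c ζ * c ζ = 1 := by
    have ex : c x * c x = (c x * α x) * (c x * α x) := by
      rcases hpm' x ((hmemE x).2 (Or.inl rfl)) with e | e <;> rw [e] <;> ring
    have ey : c y * c y = (c y * α y) * (c y * α y) := by
      rcases hpm' y ((hmemE y).2 (Or.inr (Or.inl rfl))) with e | e <;> rw [e] <;> ring
    have ez : c z * c z = (c z * α z) * (c z * α z) := by
      rcases hpm' z ((hmemE z).2 (Or.inr (Or.inr rfl))) with e | e <;> rw [e] <;> ring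
    rw [ex, ey, ez] at hsq2
    generalize c x * α x = A at *
    generalize c y * α y = B at *
    generalize c z * α z = C at *
    generalize ∑ ζ ∈ Finset.univ.filter (· ∉ Z), c ζ * c ζ = S at *
    have hA : -1 ≤ A ∧ A ≤ 1 := ⟨by nlinarith, by nlinarith⟩
    have hB : -1 ≤ B ∧ B ≤ 1 := ⟨by nlinarith, by nlinarith⟩
    have hC : -1 ≤ C ∧ C ≤ 1 := ⟨by nlinarith, by nlinarith⟩
    obtain ⟨hA1, hA2⟩ := hA
    obtain ⟨hB1, hB2⟩ := hB
    obtain ⟨hC1, hC2⟩ := hC
    interval_cases A <;> interval_cases B <;> interval_cases C <;> omega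
  have conv : ∀ ζ ∈ Z.erase t, (c ζ * α ζ = -1 → c ζ = -α ζ) ∧ (c ζ * α ζ = 0 → c ζ = 0) := by
    intro ζ hζ
    rcases hpm' ζ hζ with e | e <;> rw [e] <;> omega
  have mx := (hmemE x).2 (Or.inl rfl)
  have my := (hmemE y).2 (Or.inr (Or.inl rfl))
  have mz := (hmemE z).2 (Or.inr (Or.inr rfl))
  rcases hqx with ax | ax <;> rcases hqy with ay | ay <;> rcases hqz with az | az
  all_goals first
    | omega
    | exact two x y z mx my hxy hxz hyz hmemE ((conv x mx).1 ax) ((conv y my).1 ay) ((conv z mz).2 az) hout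
    | exact two x z y mx mz hxz hxy hyz.symm (fun ζ => (hmemE ζ).trans (by tauto)) ((conv x mx).1 ax)
        ((conv z mz).1 az) ((conv y my).2 ay) hout
    | exact two y z x my mz hyz hxy.symm hxz.symm (fun ζ => (hmemE ζ).trans (by tauto)) ((conv y my).1 ay)
        ((conv z mz).1 az) ((conv x mx).2 ax) hout

end CfsgLib.MinNonCA
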