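import Cfsg.Agent.Lib.MinNonCA.AbelianShape
import Cfsg.Agent.Lib.MinNonCA.KleinThree
import Cfsg.Agent.Lib.MinNonCA.AbelianThree
import Cfsg.Agent.Lib.MinNonCA.Isolated
import Cfsg.Agent.Lib.CAMinimal.HC
import Cfsg.Agent.Lib.Invol.AICSplit
import Cfsg.Agent.Lib.Transfer.AbelianSylow
import Cfsg.Prelude.Def_Transfer

/-!
In the abelian branch of S4369 an element of odd order centralising the Sylow 2-subgroup is central.
-/

set_option autoImplicit false
set_option linter.style.haveILetI false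
set_option linter.unusedSectionVars false

namespace CfsgLib.MinNonCA

/-- A surjection onto a perfect group is surjective on the derived subgroup. -/
theorem card_dvd_commutator {K L : Type*} [Group K] [Group L] (φ : K →* L) (hφ : Function.Surjective φ)
    (hL : commutator L = ⊤) (U : Subgroup L) : Nat.card U ∣ Nat.card (commutator K) := by
  have htop : (commutator K).map φ = ⊤ := by
    rw [commutator_def, Subgroup.map_commutator, Subgroup.map_top_of_surjective φ hφ, ← commutator_def, hL]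
  have h1 : Nat.card ((commutator K).map φ) ∣ Nat.card (commutator K) :=
    (commutator K).card_map_dvd φ
  rw [htop, Subgroup.card_top] at h1
  exact (Subgroup.card_subgroup_dvd_card U).trans h1

variable {G : Type*} [Group G] [Finite G]
variable (hsimp : IsSimpleGroup (G ⧸ Subgroup.center G)) (hperf : commutator G = ⊤)
variable (hsub : ∀ H : Subgroup G, H ≠ ⊤ →
  ∀ x : H, x ∉ Subgroup.center H → IsMulCommutative (Subgroup.centralizer ({x} : Set H)))
variable (S : Sylow 2 G) (hab : ∀ x ∈ (S : Subgroup G), ∀ y ∈ (S : Subgroup G), Commute x y)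
variable {t : G} (htS : t ∈ (S : Subgroup G)) (ht1 : t ≠ 1) (htna : ¬ AbelianCent t)

include hsimp hperf hsub hab htS ht1 htna

/-- The centraliser of `S` normalises it. -/
theorem mem_normalizer_of_cent {a : G} (ha : ∀ s ∈ (S : Subgroup G), Commute a s) :
    a ∈ Subgroup.normalizer ((S : Subgroup G) : Set G) :=
  Subgroup.centralizer_le_normalizer _ (Subgroup.mem_centralizer_iff.2 fun s hs => (ha s hs).symm.eq)

/-- An element of `S`-centralising type whose square is one lies in `S`. -/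
theorem mem_sylow_of_conj {g s : G} (hs : s ∈ (S : Subgroup G))
    (h : ∀ u ∈ (S : Subgroup G), Commute (g * s * g⁻¹) u) : g * s * g⁻¹ ∈ (S : Subgroup G) :=
  mem_of_commute_all S h (j := 1) (by
    rw [pow_one, conj_pow, (four_group hsimp hperf hsub S hab htS ht1 htna).2.1 s hs, mul_one,
      mul_inv_cancel])

/-- The normaliser of `S` lies in any subgroup containing `C(S)` and one moving element. -/
theorem normalizer_le_of_mem {H : Subgroup G} (hA : ∀ a : G, (∀ s ∈ (S : Subgroup G), Commute a s) → a ∈ H)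
    {n : G} (hn : n ∈ Subgroup.normalizer ((S : Subgroup G) : Set G))
    (hnS : ¬ ∀ s ∈ (S : Subgroup G), Commute n s) (hnH : n ∈ H) :
    Subgroup.normalizer ((S : Subgroup G) : Set G) ≤ H := by
  obtain ⟨-, -, -, -, hidx⟩ := four_group hsimp hperf hsub S hab htS ht1 htna
  set N := Subgroup.normalizer ((S : Subgroup G) : Set G) with hN
  set A := Subgroup.centralizer ((S : Subgroup G) : Set G) with hAdef
  have hAK : A ≤ N ⊓ H := fun a ha =>
    ⟨Subgroup.centralizer_le_normalizer _ ha, hA a fun s hs => (Subgroup.mem_centralizer_iff.1 ha s hs).symm⟩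
  have hmul := Subgroup.relIndex_mul_relIndex A (N ⊓ H) N hAK inf_le_left
  rw [hidx] at hmul
  have h1 : A.relIndex (N ⊓ H) ≠ 1 := fun h => hnS fun s hs =>
    (Subgroup.mem_centralizer_iff.1 ((Subgroup.relIndex_eq_one.1 h) ⟨hn, hnH⟩) s hs).symm
  have h2 : (N ⊓ H).relIndex N = 1 := by
    rcases (Nat.dvd_prime Nat.prime_three).1 (hmul ▸ Dvd.intro_left _ rfl : (N ⊓ H).relIndex N ∣ 3) with e | e
    · exact e
    · rw [e] at hmul; omega
  exact fun g hg => ((Subgroup.relIndex_eq_one.1 h2) hg).2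

/-- The cube of an element of `N(S)` centralises `S`. -/
theorem cube_cent {n : G} (hn : n ∈ Subgroup.normalizer ((S : Subgroup G) : Set G)) :
    ∀ s ∈ (S : Subgroup G), Commute (n ^ 3) s := by
  obtain ⟨-, -, -, -, hidx⟩ := four_group hsimp hperf hsub S hab htS ht1 htna
  intro s hs
  have h := Subgroup.pow_index_mem ((Subgroup.centralizer ((S : Subgroup G) : Set G)).subgroupOf
    (Subgroup.normalizer ((S : Subgroup G) : Set G))) ⟨n, hn⟩
  rw [show ((Subgroup.centralizer ((S : Subgroup G) : Set G)).subgroupOf _).index = 3 from hidx,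
    Subgroup.mem_subgroupOf] at h
  exact (Subgroup.mem_centralizer_iff.1 h s hs).symm

section Fixed

variable {x : G} (hx : ∀ s ∈ (S : Subgroup G), Commute x s) (hxc : x ∉ Subgroup.center G)

include hx hxc

theorem cent_le_modCent {a : G} (ha : ∀ s ∈ (S : Subgroup G), Commute a s) : a ∈ modCent x :=
  centralizer_le_modCent x (Subgroup.mem_centralizer_singleton_iff.2
    (abelian_centralizer_sylow hsimp hperf hsub S hab htS ht1 htna ha hx).eq)

/-- With centraliser inside `C(S)` the elements moving `x` into its cyclic span normalise `S`. -/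
theorem mem_normalizer_of_cent_le (hle : ∀ y : G, Commute y x → ∀ s ∈ (S : Subgroup G), Commute y s)
    {g : G} (hg : g⁻¹ * x * g ∈ Subgroup.zpowers x ⊔ Subgroup.center G) :
    g ∈ Subgroup.normalizer ((S : Subgroup G) : Set G) := by
  refine Subgroup.mem_normalizer_fintype fun s hs => mem_sylow_of_conj hsimp hperf hsub S hab htS ht1 htna hs
    (hle _ ?_)
  have hs' : Commute s (g⁻¹ * x * g) := by
    have hle' : Subgroup.zpowers x ⊔ Subgroup.center G ≤ Subgroup.centralizer ({s} : Set G) :=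
      sup_le (Subgroup.zpowers_le.2 (Subgroup.mem_centralizer_singleton_iff.2 (hx s hs).eq))
        (fun c hc => Subgroup.mem_centralizer_singleton_iff.2 (Subgroup.mem_center_iff.1 hc s).symm)
    exact (show Commute (g⁻¹ * x * g) s from Subgroup.mem_centralizer_singleton_iff.1 (hle' hg)).symm
  have := hs'.map (MulAut.conj g).toMonoidHom
  simpa [mul_assoc] using this

variable {n : G} (hn : n ∈ Subgroup.normalizer ((S : Subgroup G) : Set G))
  (hnS : ¬ ∀ s ∈ (S : Subgroup G), Commute n s)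

include hn hnS

theorem normalizer_le_modCent (hnx : n ∈ modCent x) :
    Subgroup.normalizer ((S : Subgroup G) : Set G) ≤ modCent x :=
  normalizer_le_of_mem hsimp hperf hsub S hab htS ht1 htna
    (fun a ha => cent_le_modCent hsimp hperf hsub S hab htS ht1 htna hx hxc ha) hn hnS hnx

theorem not_abelianCent_of_commute (hnx : Commute n x) : ¬ AbelianCent x := fun h =>
  hnS fun s hs => h n s hnx (hx s hs).symm

/-- (F1) Only elements fixing `x` modulo the centre move it into its cyclic span. -/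
theorem mem_modCent_of_span (hnx : n ∈ modCent x) {g : G}
    (hg : g * x * g⁻¹ ∈ Subgroup.zpowers x ⊔ Subgroup.center G) : g ∈ modCent x := by
  by_cases he : g * x * g⁻¹ = x
  · rw [mem_modCent_iff, he, mul_inv_cancel]; exact one_mem _
  · have hab' := CfsgLib.CAMinimal.comm_of_conj hsub
      (CfsgLib.CAMinimal.le_center_of_normal hsimp hperf) hxc hg he
    have hle : ∀ y : G, Commute y x → ∀ s ∈ (S : Subgroup G), Commute y s := fun y hy s hs =>
      hab' y (Subgroup.mem_centralizer_singleton_iff.2 hy.eq) s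
        (Subgroup.mem_centralizer_singleton_iff.2 (hx s hs).symm.eq)
    have h := mem_normalizer_of_cent_le hsimp hperf hsub S hab htS ht1 htna hx hxc hle (g := g⁻¹)
      (by rwa [inv_inv])
    exact (modCent x).inv_mem_iff.1
      (normalizer_le_modCent hsimp hperf hsub S hab htS ht1 htna hx hxc hn hnS hnx h)

theorem conj_pow_center {z : G} (hz : z ∈ Subgroup.center G) (h : n * x * n⁻¹ = x * z) :
    ∀ k : ℕ, n ^ k * x * (n ^ k)⁻¹ = x * z ^ k
  | 0 => by simp
  | k + 1 => by
    rw [pow_succ', show n * n ^ k * x * (n * n ^ k)⁻¹ = n * (n ^ k * x * (n ^ k)⁻¹) * n⁻¹ by group,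
      conj_pow_center hz h k, show n * (x * z ^ k) * n⁻¹ = n * x * n⁻¹ * (n * z ^ k * n⁻¹) by group, h,
      (Subgroup.mem_center_iff.1 (pow_mem hz k) n), mul_inv_cancel_right, mul_assoc, ← pow_succ']

/-- An `r`-element, `r` not three, fixed modulo the centre is fixed. -/
theorem commute_of_fixed {r : ℕ} (hr : r.Prime) (hr3 : r ≠ 3) {j : ℕ} (hj : x ^ r ^ j = 1)
    (hnx : n ∈ modCent x) : Commute n x := by
  have hz : n * x * n⁻¹ * x⁻¹ ∈ Subgroup.center G := mem_modCent_iff.1 hnx
  set z := n * x * n⁻¹ * x⁻¹ with hzdef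
  have hxz : Commute x z := Subgroup.mem_center_iff.1 hz x
  have e : n * x * n⁻¹ = x * z := by rw [hxz.eq, hzdef, inv_mul_cancel_right]
  have h3 := conj_pow_center hsimp hperf hsub S hab htS ht1 htna hx hxc hn hnS hz e 3
  rw [(abelian_centralizer_sylow hsimp hperf hsub S hab htS ht1 htna
    (cube_cent hsimp hperf hsub S hab htS ht1 htna hn) hx).eq, mul_inv_cancel_right, left_eq_mul] at h3
  have hzr : z ^ r ^ j = 1 := by
    have := congrArg (· ^ r ^ j) e
    simp only [conj_pow, hxz.mul_pow, hj, mul_one, one_mul, mul_inv_cancel] at this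
    exact this.symm
  have h1 : z = 1 := by
    rw [← orderOf_eq_one_iff, ← Nat.dvd_one]
    have hc : Nat.Coprime 3 (r ^ j) := ((Nat.coprime_primes Nat.prime_three hr).2 hr3.symm).pow_right j
    exact hc ▸ Nat.dvd_gcd (orderOf_dvd_of_pow_eq_one h3) (orderOf_dvd_of_pow_eq_one hzr)
  rw [h1, mul_one] at e
  exact mul_inv_eq_iff_eq_mul.1 e

/-- (F3) No abelian Sylow subgroup of such a centraliser has nonabelian normaliser in it. -/
theorem no_abelian_sylow {r : ℕ} [Fact r.Prime] {j : ℕ} (hj : x ^ r ^ j = 1)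
    {H : Subgroup G} (hH : ∀ {g : G}, g ∈ H ↔ Commute g x) (P : Sylow r H)
    (hP : ∀ u ∈ (P : Subgroup H), ∀ v ∈ (P : Subgroup H), u * v = v * u) {y z : H}
    (hy : y ∈ Subgroup.normalizer ((P : Subgroup H) : Set H))
    (hz : z ∈ Subgroup.normalizer ((P : Subgroup H) : Set H))
    (hyz : ¬ Commute y z) : False := by
  classical
  have hxH : x ∈ H := hH.2 (Commute.refl x)
  have hxP : (⟨x, hxH⟩ : H) ∈ (P : Subgroup H) := center_mem_sylow P
    (Subgroup.mem_center_iff.2 fun h => Subtype.ext (hH.1 h.2).eq)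
    (Subtype.ext hj)
  set P' := (P : Subgroup H).map H.subtype with hP'
  have hxP' : x ∈ P' := ⟨_, hxP, rfl⟩
  have hPH : P' ≤ H := Subgroup.map_subtype_le _
  have hPne : P' ≠ ⊤ := fun h => hxc (Subgroup.mem_center_iff.2 fun g =>
    hH.1 (hPH (h ▸ Subgroup.mem_top g)))
  have hNne := normalizer_ne_top hsimp hperf hPne hxP' hxc
  have hmem : ∀ w : H, w ∈ Subgroup.normalizer ((P : Subgroup H) : Set H) →
      (w : G) ∈ Subgroup.normalizer (P' : Set G) := fun w hw =>
    Subgroup.mem_normalizer_fintype (by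
      rintro _ ⟨u, hu, rfl⟩
      exact ⟨w * u * w⁻¹, (Subgroup.mem_normalizer_iff.1 hw u).1 hu, rfl⟩)
  have hNle : Subgroup.normalizer (P' : Set G) ≤ H := fun m hm => by
    refine hH.2 ?_
    by_contra hmx
    exact hyz (Subtype.ext (commute_of_mem hsub hNne (Subgroup.le_normalizer hxP') hm hmx (hmem y hy)
      (hmem z hz) (hH.1 y.2) (hH.1 z.2)).eq)
  obtain ⟨Q, hPQ⟩ := (P.isPGroup'.map H.subtype).exists_le_sylow
  have hQeq : P' = (Q : Subgroup G) := by
    by_contra hne
    obtain ⟨w, hwQ, hwP, hwN⟩ := exists_normalizing Q.isPGroup' hPQ hne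
    have hwH := hNle hwN
    have hle : ((Q : Subgroup G) ⊓ H).subgroupOf H = (P : Subgroup H) := by
      refine P.is_maximal' ?_ fun u hu => ⟨hPQ ⟨u, hu, rfl⟩, u.2⟩
      exact (Q.isPGroup'.to_le inf_le_left).comap_subtype
    exact hwP ⟨⟨w, hwH⟩, hle ▸ (show (⟨w, hwH⟩ : H) ∈ ((Q : Subgroup G) ⊓ H).subgroupOf H from ⟨hwQ, hwH⟩), rfl⟩
  have h1 := CfsgLib.Transfer.eq_one_of_abelian_sylow Q ⟨⟨fun a b => by
      obtain ⟨u, hu, eu⟩ : (a : G) ∈ P' := hQeq.symm ▸ a.2
      obtain ⟨v, hv, ev⟩ : (b : G) ∈ P' := hQeq.symm ▸ b.2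
      refine Subtype.ext ?_
      show (a : G) * b = b * a
      rw [← eu, ← ev, ← map_mul, ← map_mul, hP u hu v hv]⟩⟩
    (hQeq ▸ hxP') (fun m hm => (hH.1 (hNle (hQeq.symm ▸ hm))).eq)
    (hperf ▸ Subgroup.mem_top x)
  exact hxc (h1 ▸ one_mem _)

set_option maxHeartbeats 1000000 in
/-- (F2) For a fixed `r`-element commuting with a moving element the centraliser is `N(S)`. -/
theorem mem_normalizer_of_commute {r : ℕ} [Fact r.Prime] (hr : r ≠ 2) {j : ℕ} (hj : x ^ r ^ j = 1)
    (hnx : Commute n x) {y : G} (hy : Commute y x) :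
    y ∈ Subgroup.normalizer ((S : Subgroup G) : Set G) := by
  classical
  haveI : Fact (Nat.Prime 2) := ⟨Nat.prime_two⟩
  by_contra hyN
  obtain ⟨h4, hsq, ⟨m, hm, hmove⟩, -, -⟩ := four_group hsimp hperf hsub S hab htS ht1 htna
  set H := Subgroup.centralizer ({x} : Set G) with hH
  have hmemH : ∀ {g : G}, g ∈ H ↔ Commute g x := Subgroup.mem_centralizer_singleton_iff
  have hNH : Subgroup.normalizer ((S : Subgroup G) : Set G) ≤ H :=
    normalizer_le_of_mem hsimp hperf hsub S hab htS ht1 htna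
      (fun a ha => hmemH.2 (abelian_centralizer_sylow hsimp hperf hsub S hab htS ht1 htna ha hx))
      hn hnS (hmemH.2 hnx)
  have hSH : (S : Subgroup G) ≤ H := fun s hs => hNH (Subgroup.le_normalizer hs)
  have hHne : H ≠ ⊤ := fun h => hxc (Subgroup.mem_center_iff.2 fun g => hmemH.1 (h ▸ Subgroup.mem_top g))
  set T := S.subtype hSH with hT
  have hAIC : CfsgLib.Invol.AIC.AbInvCent H := by
    intro j' a b hj2 hj1 ha hb
    have hp : IsPGroup 2 (Subgroup.zpowers j') := IsPGroup.of_card (n := 1) (by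
      rw [Nat.card_zpowers, orderOf_eq_prime (by rw [pow_two]; exact hj2) hj1, pow_one])
    obtain ⟨h, hh⟩ := CfsgLib.Transfer.exists_map_conj_le_sylow hp T
    have hs : ((h * j' * h⁻¹ : H) : G) ∈ (S : Subgroup G) := hh ⟨j', Subgroup.mem_zpowers j', rfl⟩
    have hs1 : ((h * j' * h⁻¹ : H) : G) ≠ 1 := fun e => hj1 (conj_eq_one_iff.1 (Subtype.ext e))
    have hmv := hmove _ hs hs1
    have hnc : j' ∉ Subgroup.center H := fun hc => hmv (by
      have e1 : h * j' * h⁻¹ = j' := by rw [Subgroup.mem_center_iff.1 hc h, mul_inv_cancel_right]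
      rw [e1]
      have := congrArg Subtype.val (Subgroup.mem_center_iff.1 hc ⟨m, hNH hm⟩)
      change m * (j' : G) = j' * m at this
      rw [this, mul_inv_cancel_right])
    exact congrArg Subtype.val ((hsub H hHne j' hnc).is_comm.comm
      ⟨a, Subgroup.mem_centralizer_singleton_iff.2 ha.eq⟩ ⟨b, Subgroup.mem_centralizer_singleton_iff.2 hb.eq⟩)
  have hTnc : ¬ IsCyclic (T : Subgroup H) := by
    intro hc
    haveI := hc
    have hmt : m * t * m⁻¹ ∈ (S : Subgroup G) := (Subgroup.mem_normalizer_iff.1 hm t).1 htS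
    have e := CfsgLib.Transfer.eq_of_sq_eq_one_of_isCyclic
      (⟨⟨m * t * m⁻¹, hSH hmt⟩, hmt⟩ : (T : Subgroup H)) ⟨⟨t, hSH htS⟩, htS⟩
      (Subtype.ext (Subtype.ext (show m * t * m⁻¹ * (m * t * m⁻¹) = 1 by rw [← pow_two]; exact hsq _ hmt)))
      (Subtype.ext (Subtype.ext (show t * t = 1 by rw [← pow_two]; exact hsq _ htS)))
      (fun h => ht1 (conj_eq_one_iff.1 (congrArg (fun v : (T : Subgroup H) => ((v : H) : G)) h)))
      (fun h => ht1 (congrArg (fun v : (T : Subgroup H) => ((v : H) : G)) h))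
    exact hmove t htS ht1 (congrArg (fun v : (T : Subgroup H) => ((v : H) : G)) e)
  have hTnn : ¬ (T : Subgroup H).Normal := fun hN => hyN (Subgroup.mem_normalizer_fintype fun s hs =>
    hN.conj_mem ⟨s, hSH hs⟩ hs ⟨y, hmemH.2 hy⟩)
  obtain ⟨F, iF, iF', f, hf, hF, φ, hφ, hker, -⟩ := CfsgLib.Invol.AIC.isOddCover hAIC T hTnc hTnn
  haveI : CharP F 2 := CfsgLib.Invol.AIC.charP_two_of_card hF
  have hq : 3 ≤ Nat.card F := by
    rw [Nat.card_eq_fintype_card, hF]
    have := Nat.pow_le_pow_right two_pos hf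
    omega
  have hrodd : Odd r := (Fact.out : r.Prime).odd_of_ne_two hr
  let P : Sylow r H := default
  let g := φ.comp (P : Subgroup H).subtype
  haveI : IsCyclic g.range := by
    rw [MonoidHom.range_comp, Subgroup.range_subtype]
    exact CfsgLib.Invol.AIC.isCyclic_of_odd hrodd (P.isPGroup'.map φ)
  have hg : g.rangeRestrict.ker ≤ Subgroup.center (P : Subgroup H) := by
    intro u hu
    rw [MonoidHom.ker_rangeRestrict] at hu
    exact Subgroup.mem_center_iff.2 fun v => Subtype.ext (Subgroup.mem_center_iff.1 (hker hu) v)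
  have hPab : IsMulCommutative (P : Subgroup H) := g.rangeRestrict.isMulCommutative_of_isCyclic_of_ker_le_center hg
  have hP : ∀ u ∈ (P : Subgroup H), ∀ v ∈ (P : Subgroup H), u * v = v * u := fun u hu v hv =>
    congrArg Subtype.val (hPab.is_comm.comm ⟨u, hu⟩ ⟨v, hv⟩)
  by_cases hPk : (P : Subgroup H) ≤ φ.ker
  · haveI : (P : Subgroup H).Normal := ⟨fun u hu w => by
      rwa [Subgroup.mem_center_iff.1 (hker (hPk hu)) w, mul_inv_cancel_right]⟩
    have htop : Subgroup.normalizer ((P : Subgroup H) : Set H) = ⊤ := Subgroup.normalizer_eq_top_iff.2 inferInstance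
    exact no_abelian_sylow hsimp hperf hsub S hab htS ht1 htna hx hxc hn hnS hj hmemH P hP
      (y := ⟨m, hNH hm⟩) (z := ⟨t, hSH htS⟩) (htop ▸ Subgroup.mem_top _) (htop ▸ Subgroup.mem_top _)
      fun hc => hmove t htS ht1 (by
        rw [show m * t = t * m from congrArg Subtype.val hc.eq, mul_inv_cancel_right])
  · by_cases hN : ∀ a ∈ Subgroup.normalizer ((P : Subgroup H) : Set H),
        ∀ b ∈ Subgroup.normalizer ((P : Subgroup H) : Set H), Commute a b
    · -- then the Sylow subgroup meets the derived subgroup trivially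
      have hbot : ∀ u ∈ (P : Subgroup H), u ∈ commutator H → u = 1 := fun u hu hc =>
        CfsgLib.Transfer.eq_one_of_abelian_sylow P hPab hu
          (fun a ha => (hN a ha u (Subgroup.le_normalizer hu)).eq) hc
      have hdvd : Nat.card (((P : Subgroup H).map φ)) ∣ Nat.card (commutator H) :=
        card_dvd_commutator φ hφ (CfsgLib.Invol.AIC.commutator_eq_top hq) _
      obtain ⟨i, hi⟩ := IsPGroup.iff_card.1 (P.isPGroup'.map φ)
      rw [hi] at hdvd
      rcases Nat.eq_zero_or_pos i with h0 | h0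
      · rw [h0, pow_zero, Subgroup.card_eq_one, Subgroup.map_eq_bot_iff] at hi
        exact hPk hi
      · obtain ⟨c, hc⟩ := exists_prime_orderOf_dvd_card' r ((dvd_pow_self r h0.ne').trans hdvd)
        have hcp : IsPGroup r (Subgroup.zpowers (c : H)) := IsPGroup.of_card (n := 1) (by
          rw [Nat.card_zpowers, Subgroup.orderOf_coe, hc, pow_one])
        obtain ⟨w, hw⟩ := CfsgLib.Transfer.exists_map_conj_le_sylow hcp P
        have h1 := hbot _ (hw ⟨c, Subgroup.mem_zpowers _, rfl⟩)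
          ((inferInstance : (commutator H).Normal).conj_mem _ c.2 w)
        rw [MulEquiv.coe_toMonoidHom, MulAut.conj_apply, conj_eq_one_iff] at h1
        rw [show c = 1 from Subtype.ext h1, orderOf_one] at hc
        exact (Fact.out : r.Prime).one_lt.ne hc
    · push Not at hN
      obtain ⟨a, ha, b, hb, hab'⟩ := hN
      exact no_abelian_sylow hsimp hperf hsub S hab htS ht1 htna hx hxc hn hnS hj hmemH P hP ha hb hab'

/-- A fixed `r`-element is fixed exactly by `N(S)` modulo the centre. -/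
theorem modCent_le_normalizer {r : ℕ} [Fact r.Prime] (hr : r ≠ 2) {j : ℕ} (hj : x ^ r ^ j = 1)
    (hnx' : n ∈ modCent x) {g : G} (hg : g ∈ modCent x) :
    g ∈ Subgroup.normalizer ((S : Subgroup G) : Set G) := by
  by_cases hnx : Commute n x
  · refine mem_normalizer_of_commute hsimp hperf hsub S hab htS ht1 htna hx hxc hn hnS hr hj hnx ?_
    by_contra hgx
    exact not_abelianCent_of_commute hsimp hperf hsub S hab htS ht1 htna hx hxc hn hnS hnx
      (abelian_centralizer_of_moved hsimp hperf hsub hg hgx)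
  · have hA := abelian_centralizer_of_moved hsimp hperf hsub hnx' hnx
    refine (Subgroup.normalizer ((S : Subgroup G) : Set G)).inv_mem_iff.1
      (mem_normalizer_of_cent_le hsimp hperf hsub S hab htS ht1 htna hx hxc
        (fun y hy s hs => hA y s hy (hx s hs).symm) ?_)
    rw [inv_inv]
    have := Subgroup.mem_sup_right (S := Subgroup.zpowers x) (mem_modCent_iff.1 hg)
    have h2 := mul_mem this (Subgroup.mem_sup_left (T := Subgroup.center G) (Subgroup.mem_zpowers x))
    rwa [inv_mul_cancel_right] at h2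

/-- A fixed `r`-element of `C(S)`, `r` neither two nor three, is central. -/
theorem false_of_fixed {r : ℕ} [Fact r.Prime] (hr : r ≠ 2) (hr3 : r ≠ 3) {j : ℕ} (hj : x ^ r ^ j = 1)
    (hnx' : n ∈ modCent x) : False := by
  classical
  obtain ⟨-, -, ⟨m, hm, hmove⟩, -, -⟩ := four_group hsimp hperf hsub S hab htS ht1 htna
  have hnx := commute_of_fixed hsimp hperf hsub S hab htS ht1 htna hx hxc hn hnS Fact.out hr3 hj hnx'
  have hr' := (Fact.out : r.Prime)
  set N := Subgroup.normalizer ((S : Subgroup G) : Set G) with hN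
  have hNH : ∀ {g : G}, g ∈ N ↔ Commute g x := fun {g} => by
    refine ⟨fun hg => ?_, fun hg =>
      mem_normalizer_of_commute hsimp hperf hsub S hab htS ht1 htna hx hxc hn hnS hr hj hnx hg⟩
    exact Subgroup.mem_centralizer_singleton_iff.1 (normalizer_le_of_mem hsimp hperf hsub S hab htS ht1 htna
      (fun a ha => Subgroup.mem_centralizer_singleton_iff.2
        (abelian_centralizer_sylow hsimp hperf hsub S hab htS ht1 htna ha hx).eq)
      hn hnS (Subgroup.mem_centralizer_singleton_iff.2 hnx.eq) hg)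
  have key : ∀ u : N, (∃ k, u ^ r ^ k = 1) → ∀ s ∈ (S : Subgroup G), Commute (u : G) s :=
    fun u ⟨k, hk⟩ => by
      obtain ⟨i, hi⟩ := exists_pow_eq_self_of_coprime (x := (u : G)) (n := 3)
        (((((Nat.coprime_primes Nat.prime_three hr').2 hr3.symm).pow_right k)).coprime_dvd_right
          (orderOf_dvd_of_pow_eq_one (congrArg Subtype.val hk)))
      exact fun s hs => hi ▸ (cube_cent hsimp hperf hsub S hab htS ht1 htna u.2 s hs).pow_left i
  let P : Sylow r N := default
  have hPA : ∀ u ∈ (P : Subgroup N), ∀ s ∈ (S : Subgroup G), Commute (u : G) s := fun u hu => by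
    obtain ⟨k, hk⟩ := P.isPGroup' ⟨u, hu⟩
    exact key u ⟨k, congrArg Subtype.val hk⟩
  have hPab : ∀ u ∈ (P : Subgroup N), ∀ v ∈ (P : Subgroup N), u * v = v * u := fun u hu v hv =>
    Subtype.ext (abelian_centralizer_sylow hsimp hperf hsub S hab htS ht1 htna (hPA u hu) (hPA v hv)).eq
  have hPn : ∀ h : N, h ∈ Subgroup.normalizer ((P : Subgroup N) : Set N) := fun h => by
    refine Subgroup.mem_normalizer_fintype fun u hu => ?_
    obtain ⟨k, hk⟩ := P.isPGroup' ⟨u, hu⟩
    have hk' : (h * u * h⁻¹) ^ r ^ k = 1 := by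
      rw [conj_pow, show u ^ r ^ k = 1 from congrArg Subtype.val hk, mul_one, mul_inv_cancel]
    have hp : IsPGroup r (Subgroup.zpowers (h * u * h⁻¹)) := by
      rintro ⟨_, i, rfl⟩
      exact ⟨k, Subtype.ext (by
        rw [Subgroup.coe_pow, ← zpow_natCast, ← zpow_mul, mul_comm, zpow_mul, zpow_natCast, hk', one_zpow,
          Subgroup.coe_one])⟩
    have hn' : Subgroup.zpowers (h * u * h⁻¹) ≤ Subgroup.normalizer ((P : Subgroup N) : Set N) :=
      Subgroup.zpowers_le.2 (Subgroup.mem_normalizer_fintype fun v hv => by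
        have hc : h * u * h⁻¹ * v = v * (h * u * h⁻¹) := Subtype.ext
          (abelian_centralizer_sylow hsimp hperf hsub S hab htS ht1 htna (key _ ⟨k, hk'⟩) (hPA v hv)).eq
        rw [hc, mul_inv_cancel_right]; exact hv)
    have he := P.is_maximal' (hp.to_sup_of_normal_right' P.isPGroup' hn') le_sup_right
    exact he ▸ Subgroup.mem_sup_left (Subgroup.mem_zpowers _)
  exact no_abelian_sylow hsimp hperf hsub S hab htS ht1 htna hx hxc hn hnS hj hNH P hPab
    (y := ⟨m, hm⟩) (z := ⟨t, Subgroup.le_normalizer htS⟩) (hPn _) (hPn _)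
    fun hc => hmove t htS ht1 (by
      rw [show m * t = t * m from congrArg Subtype.val hc.eq, mul_inv_cancel_right])

end Fixed

/-- Commuting modulo the centre with an element of `S` is commuting. -/
theorem commute_of_mod {g s : G} (hs : s ∈ (S : Subgroup G)) (h : g * s * g⁻¹ * s⁻¹ ∈ Subgroup.center G) :
    Commute g s := by
  have hc : ∀ u ∈ (S : Subgroup G), Commute (g * s * g⁻¹) u := fun u hu => by
    have e : g * s * g⁻¹ = g * s * g⁻¹ * s⁻¹ * s := (inv_mul_cancel_right _ _).symm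
    rw [e]
    have hzu : Commute (g * s * g⁻¹ * s⁻¹) u := (Subgroup.mem_center_iff.1 h u).symm
    exact hzu.mul_left (hab s hs u hu)
  have h1 := center_inf_eq_one S hab hperf
    (mul_mem (mem_sylow_of_conj hsimp hperf hsub S hab htS ht1 htna hs hc) (inv_mem hs)) h
  exact mul_inv_eq_iff_eq_mul.1 (mul_inv_eq_one.1 h1)

/-- The image of the normaliser of `S` is the normaliser of its image. -/
theorem normalizer_map {q : G ⧸ Subgroup.center G} :
    q ∈ Subgroup.normalizer (((S : Subgroup G).map (QuotientGroup.mk' (Subgroup.center G))) : Set _) ↔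
      q ∈ (Subgroup.normalizer ((S : Subgroup G) : Set G)).map (QuotientGroup.mk' (Subgroup.center G)) := by
  classical
  constructor
  · intro hq
    obtain ⟨g, rfl⟩ := QuotientGroup.mk'_surjective (Subgroup.center G) q
    refine Subgroup.mem_map_of_mem _ (Subgroup.mem_normalizer_fintype fun s hs => ?_)
    obtain ⟨s', hs', e⟩ := (Subgroup.mem_normalizer_iff.1 hq _).1 (Subgroup.mem_map_of_mem _ hs)
    rw [← map_inv, ← map_mul, ← map_mul] at e
    have hz : s'⁻¹ * (g * s * g⁻¹) ∈ Subgroup.center G := QuotientGroup.eq.1 e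
    refine mem_sylow_of_conj hsimp hperf hsub S hab htS ht1 htna hs fun u hu => ?_
    rw [← mul_inv_cancel_left s' (g * s * g⁻¹)]
    have hzu : Commute (s'⁻¹ * (g * s * g⁻¹)) u := (Subgroup.mem_center_iff.1 hz u).symm
    exact (hab s' hs' u hu).mul_left hzu
  · rintro ⟨g, hg, rfl⟩
    refine Subgroup.mem_normalizer_fintype ?_
    rintro _ ⟨s, hs, rfl⟩
    exact ⟨g * s * g⁻¹, (Subgroup.mem_normalizer_iff.1 hg s).1 hs, by simp⟩

/-- The image of `C(S)` is the centraliser of its image. -/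
theorem centralizer_map :
    Subgroup.centralizer (((S : Subgroup G).map (QuotientGroup.mk' (Subgroup.center G))) : Set _) =
      (Subgroup.centralizer ((S : Subgroup G) : Set G)).map (QuotientGroup.mk' (Subgroup.center G)) := by
  refine le_antisymm (fun q hq => ?_) ?_
  · obtain ⟨g, rfl⟩ := QuotientGroup.mk'_surjective (Subgroup.center G) q
    refine Subgroup.mem_map_of_mem _ (Subgroup.mem_centralizer_iff.2 fun s hs => ?_)
    have e := Subgroup.mem_centralizer_iff.1 hq _ (Subgroup.mem_map_of_mem _ hs)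
    refine (commute_of_mod hsimp hperf hsub S hab htS ht1 htna hs ?_).eq.symm
    rw [← QuotientGroup.eq_one_iff, ← QuotientGroup.mk'_apply, map_mul, map_mul, map_mul, map_inv, map_inv,
      ← e, mul_inv_cancel_right, mul_inv_cancel]
  · rintro _ ⟨g, hg, rfl⟩
    refine Subgroup.mem_centralizer_iff.2 ?_
    rintro _ ⟨s, hs, rfl⟩
    rw [← map_mul, ← map_mul, Subgroup.mem_centralizer_iff.1 hg s hs]

/-- Any element of `S` outside a two-element set is the product of the two. -/
theorem eq_mul_of_four {a b c : G} (ha : a ∈ (S : Subgroup G)) (hb : b ∈ (S : Subgroup G))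
    (hc : c ∈ (S : Subgroup G)) (ha1 : a ≠ 1) (hb1 : b ≠ 1) (hc1 : c ≠ 1) (hne : a ≠ b) (hca : c ≠ a)
    (hcb : c ≠ b) : c = a * b := by
  classical
  obtain ⟨h4, hsq, -, -, -⟩ := four_group hsimp hperf hsub S hab htS ht1 htna
  have hab1 : a * b ≠ 1 := fun h => hne (by
    rw [mul_eq_one_iff_eq_inv.1 h, inv_eq_of_mul_eq_one_right (by rw [← pow_two]; exact hsq b hb)])
  have hone : (1 : G) ∈ (S : Subgroup G) := one_mem _
  have hmm := mul_mem ha hb
  haveI := Fintype.ofFinite (S : Subgroup G)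
  by_contra hcm
  have h5 : ({⟨1, hone⟩, ⟨a, ha⟩, ⟨b, hb⟩, ⟨c, hc⟩, ⟨a * b, hmm⟩} : Finset (S : Subgroup G)).card = 5 := by
    simp [Ne.symm ha1, Ne.symm hb1, Ne.symm hc1, Ne.symm hab1, hne, Ne.symm hca, Ne.symm hcb, hcm, hb1, ha1]
  have := Finset.card_le_univ ({⟨1, hone⟩, ⟨a, ha⟩, ⟨b, hb⟩, ⟨c, hc⟩, ⟨a * b, hmm⟩} : Finset (S : Subgroup G))
  rw [h5, ← Nat.card_eq_fintype_card, h4] at this
  omega

/-- `N(S)` is transitive on the involutions of `S`. -/
theorem exists_conj_eq {n : G} (hn : n ∈ Subgroup.normalizer ((S : Subgroup G) : Set G))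
    (hmove : ∀ s ∈ (S : Subgroup G), s ≠ 1 → n * s * n⁻¹ ≠ s) {s : G} (hs : s ∈ (S : Subgroup G))
    (hs1 : s ≠ 1) : ∃ g : G, g * t * g⁻¹ = s := by
  by_cases h0 : s = t
  · exact ⟨1, by rw [h0]; group⟩
  have hv : n * t * n⁻¹ ∈ (S : Subgroup G) := (Subgroup.mem_normalizer_iff.1 hn t).1 htS
  have hv1 : n * t * n⁻¹ ≠ 1 := fun e => ht1 (conj_eq_one_iff.1 e)
  by_cases h1 : s = n * t * n⁻¹
  · exact ⟨n, h1.symm⟩
  set w := n * (n * t * n⁻¹) * n⁻¹ with hw
  have hwS : w ∈ (S : Subgroup G) := (Subgroup.mem_normalizer_iff.1 hn _).1 hv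
  have hw1 : w ≠ 1 := fun e => hv1 (conj_eq_one_iff.1 e)
  have hwv : w ≠ n * t * n⁻¹ := hmove _ hv hv1
  have hwt : w ≠ t := fun e => hmove t htS ht1 (by
    have h3 := (cube_cent hsimp hperf hsub S hab htS ht1 htna hn t htS).eq
    calc n * t * n⁻¹ = n * w * n⁻¹ := by rw [e]
      _ = n ^ 3 * t * (n ^ 3)⁻¹ := by rw [hw, pow_succ, pow_two]; group
      _ = t := by rw [h3, mul_inv_cancel_right])
  have hne : t ≠ n * t * n⁻¹ := (hmove t htS ht1).symm
  refine ⟨n * n, ?_⟩
  rw [show n * n * t * (n * n)⁻¹ = w by rw [hw]; group,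
    eq_mul_of_four hsimp hperf hsub S hab htS ht1 htna htS hv hwS ht1 hv1 hw1 hne hwt hwv,
    eq_mul_of_four hsimp hperf hsub S hab htS ht1 htna htS hv hs ht1 hv1 hs1 hne h0 h1]

/-- Some element of a noncentral `r`-part has centraliser exactly `C(S)` when none is fixed. -/
theorem exists_cent_exact {R : Subgroup G} {n : G} (hn : n ∈ Subgroup.normalizer ((S : Subgroup G) : Set G))
    (hmove : ∀ s ∈ (S : Subgroup G), s ≠ 1 → n * s * n⁻¹ ≠ s)
    (hRA : ∀ x ∈ R, ∀ s ∈ (S : Subgroup G), Commute x s) (hRn : ∀ x ∈ R, n * x * n⁻¹ ∈ R)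
    (hRo : ∀ x ∈ R, Odd (orderOf x)) (hne : ∃ x ∈ R, x ∉ Subgroup.center G)
    (hfree : ∀ x ∈ R, x ∉ Subgroup.center G → n ∉ modCent x) :
    ∃ d ∈ R, d ∉ Subgroup.center G ∧ ∀ y : G, Commute y d → ∀ s ∈ (S : Subgroup G), Commute y s := by
  by_contra hno
  push Not at hno
  have hW : ∀ x ∈ R, x ∉ Subgroup.center G →
      ∃ v ∈ (S : Subgroup G), v ≠ 1 ∧ ∀ y : G, Commute y x ↔ Commute y v := by
    intro x hx hxc
    obtain ⟨y, hy, s, hs, hys⟩ := hno x hx hxc
    rcases centralizer_cases hsimp hperf hsub S hab htS ht1 htna (hRA x hx) hxc with h | h | h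
    · exact absurd (h y hy s hs) hys
    · exact h
    · exact absurd (centralizer_le_modCent x (Subgroup.mem_centralizer_singleton_iff.2 (h n hn).eq))
        (hfree x hx hxc)
  have heq := fun {u v : G} (hu : u ∈ (S : Subgroup G)) (hu1 : u ≠ 1) (hv : v ∈ (S : Subgroup G))
    (hv1 : v ≠ 1) (h : ∀ y : G, Commute y u → Commute y v) =>
    eq_of_centralizer_le hsimp hperf hsub S hab htS ht1 htna hu hu1 hv hv1 h
  obtain ⟨d1, hd1, hd1c⟩ := hne
  obtain ⟨a, ha, ha1, hC1⟩ := hW d1 hd1 hd1c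
  set d2 := n * d1 * n⁻¹ with hd2
  set b := n * a * n⁻¹ with hb'
  have hb : b ∈ (S : Subgroup G) := (Subgroup.mem_normalizer_iff.1 hn a).1 ha
  have hb1 : b ≠ 1 := fun e => ha1 (conj_eq_one_iff.1 e)
  have hba : a ≠ b := (hmove a ha ha1).symm
  have hC2 : ∀ y : G, Commute y d2 ↔ Commute y b := fun y => by
    have e1 := hC1 (n⁻¹ * y * n)
    have c1 : ∀ w : G, Commute (n⁻¹ * y * n) w ↔ Commute y (n * w * n⁻¹) := fun w => by
      rw [← Commute.conj_iff n, show n * (n⁻¹ * y * n) * n⁻¹ = y by group]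
    rwa [c1, c1] at e1
  have hsq : ∀ y : G, Commute y (d1 * d1) → Commute y d1 := fun y hy => by
    obtain ⟨k, hk⟩ := hRo d1 hd1
    have e : (d1 * d1) ^ (k + 1) = d1 := by
      rw [← pow_two, ← pow_mul, show 2 * (k + 1) = orderOf d1 + 1 by omega, pow_succ, pow_orderOf_eq_one,
        one_mul]
    exact e ▸ hy.pow_right _
  set m := d1 * d2 with hm
  set m' := d1 * (d1 * d2) with hm'
  have hm_mem : m ∈ R := mul_mem hd1 (hRn d1 hd1)
  have hm'_mem : m' ∈ R := mul_mem hd1 hm_mem
  have hmc : m ∉ Subgroup.center G := fun h => hba (heq ha ha1 hb hb1 fun y hy => (hC2 y).1 (by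
    rw [show d2 = d1⁻¹ * m by rw [hm, inv_mul_cancel_left]]
    exact ((hC1 y).2 hy).inv_right.mul_right (Subgroup.mem_center_iff.1 h y)))
  have hm'c : m' ∉ Subgroup.center G := fun h => hba (heq ha ha1 hb hb1 fun y hy => (hC2 y).1 (by
    rw [show d2 = d1⁻¹ * (d1⁻¹ * m') by rw [hm', inv_mul_cancel_left, inv_mul_cancel_left]]
    exact ((hC1 y).2 hy).inv_right.mul_right
      (((hC1 y).2 hy).inv_right.mul_right (Subgroup.mem_center_iff.1 h y))))
  obtain ⟨c, hc, hc1, hCm⟩ := hW m hm_mem hmc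
  obtain ⟨c', hc', hc'1, hCm'⟩ := hW m' hm'_mem hm'c
  have hca : c ≠ a := fun e => hba (heq ha ha1 hb hb1 fun y hy => (hC2 y).1 (by
    rw [show d2 = d1⁻¹ * m by rw [hm, inv_mul_cancel_left]]
    exact ((hC1 y).2 hy).inv_right.mul_right ((hCm y).2 (e ▸ hy))))
  have hcb : c ≠ b := fun e => hba (heq hb hb1 ha ha1 fun y hy => (hC1 y).1 (by
    rw [show d1 = m * d2⁻¹ by rw [hm, mul_inv_cancel_right]]
    exact ((hCm y).2 (e ▸ hy)).mul_right ((hC2 y).2 hy).inv_right)).symm
  have hc'a : c' ≠ a := fun e => hba (heq ha ha1 hb hb1 fun y hy => (hC2 y).1 (by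
    rw [show d2 = d1⁻¹ * (d1⁻¹ * m') by rw [hm', inv_mul_cancel_left, inv_mul_cancel_left]]
    exact ((hC1 y).2 hy).inv_right.mul_right (((hC1 y).2 hy).inv_right.mul_right ((hCm' y).2 (e ▸ hy)))))
  have hc'b : c' ≠ b := fun e => hba (heq hb hb1 ha ha1 fun y hy => (hC1 y).1 (hsq y (by
    rw [show d1 * d1 = m' * d2⁻¹ by rw [hm', ← mul_assoc, mul_inv_cancel_right]]
    exact ((hCm' y).2 (e ▸ hy)).mul_right ((hC2 y).2 hy).inv_right))).symm
  have hcc : c' = c :=
    (eq_mul_of_four hsimp hperf hsub S hab htS ht1 htna ha hb hc' ha1 hb1 hc'1 hba hc'a hc'b).trans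
      (eq_mul_of_four hsimp hperf hsub S hab htS ht1 htna ha hb hc ha1 hb1 hc1 hba hca hcb).symm
  exact hca (heq hc hc1 ha ha1 fun y hy => (hC1 y).1 (by
    rw [show d1 = m' * m⁻¹ by rw [hm', hm, mul_inv_cancel_right]]
    exact ((hCm' y).2 (hcc ▸ hy)).mul_right ((hCm y).2 hy).inv_right))

set_option maxHeartbeats 1000000 in
/-- No prime beyond two and three divides the image of `C(S)` (case II). -/
theorem case_two {r : ℕ} [Fact r.Prime] (hr : r ≠ 2) (hr3 : r ≠ 3) {d : G}
    (hd : ∀ s ∈ (S : Subgroup G), Commute d s) (hdc : d ∉ Subgroup.center G) {i : ℕ} (hi : d ^ r ^ i = 1) :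
    False := by
  classical
  haveI : Fact (Nat.Prime 2) := ⟨Nat.prime_two⟩
  have hr' := (Fact.out : r.Prime)
  obtain ⟨h4, hsq, ⟨n, hn, hmove⟩, -, hidx⟩ := four_group hsimp hperf hsub S hab htS ht1 htna
  have hnS : ¬ ∀ s ∈ (S : Subgroup G), Commute n s := fun h => hmove t htS ht1 (by
    rw [(h t htS).eq, mul_inv_cancel_right])
  have habA : ∀ {a b : G}, (∀ s ∈ (S : Subgroup G), Commute a s) → (∀ s ∈ (S : Subgroup G), Commute b s) →
      Commute a b := fun ha hb => abelian_centralizer_sylow hsimp hperf hsub S hab htS ht1 htna ha hb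
  let R : Subgroup G :=
    { carrier := {x | (∀ s ∈ (S : Subgroup G), Commute x s) ∧ ∃ k : ℕ, x ^ r ^ k = 1}
      one_mem' := ⟨fun s _ => Commute.one_left s, ⟨0, by simp⟩⟩
      mul_mem' := fun {a b} ha hb => ⟨fun s hs => (ha.1 s hs).mul_left (hb.1 s hs), by
        obtain ⟨k, hk⟩ := ha.2
        obtain ⟨l, hl⟩ := hb.2
        refine ⟨k + l, ?_⟩
        rw [(habA ha.1 hb.1).mul_pow, pow_add, pow_mul, hk, one_pow, one_mul, mul_comm (r ^ k), pow_mul, hl,
          one_pow]⟩
      inv_mem' := fun {a} ha => ⟨fun s hs => (ha.1 s hs).inv_left, by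
        obtain ⟨k, hk⟩ := ha.2
        exact ⟨k, by rw [inv_pow, hk, inv_one]⟩⟩ }
  have hRn : ∀ g ∈ Subgroup.normalizer ((S : Subgroup G) : Set G), ∀ x ∈ R, g * x * g⁻¹ ∈ R := by
    rintro g hg x ⟨hx, k, hk⟩
    refine ⟨fun s hs => ?_, k, by rw [conj_pow, hk, mul_one, mul_inv_cancel]⟩
    have h1 := (hx _ ((Subgroup.mem_normalizer_iff.1 ((Subgroup.normalizer _).inv_mem hg) s).1 hs)).map
      (MulAut.conj g).toMonoidHom
    simpa [mul_assoc] using h1
  have hRo : ∀ x ∈ R, Odd (orderOf x) := by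
    rintro x ⟨-, k, hk⟩
    exact ((hr'.odd_of_ne_two hr).pow).of_dvd_nat (orderOf_dvd_of_pow_eq_one hk)
  have hfree : ∀ x ∈ R, x ∉ Subgroup.center G → n ∉ modCent x := fun x hx hxc hnx => by
    obtain ⟨k, hk⟩ := hx.2
    exact false_of_fixed hsimp hperf hsub S hab htS ht1 htna hx.1 hxc hn hnS hr hr3 hk hnx
  obtain ⟨e, he, hec, heA⟩ := exists_cent_exact hsimp hperf hsub S hab htS ht1 htna hn hmove
    (R := R) (fun x hx => hx.1) (fun x hx => hRn n hn x hx) hRo ⟨d, ⟨hd, i, hi⟩, hdc⟩ hfree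
  -- fixing an element of `R` modulo the centre inside `N(S)` means centralising `S`
  have hsemiG : ∀ x ∈ R, x ∉ Subgroup.center G → ∀ g ∈ Subgroup.normalizer ((S : Subgroup G) : Set G),
      g ∈ modCent x → ∀ s ∈ (S : Subgroup G), Commute g s := fun x hx hxc g hg hgx => by
    by_contra hgS
    exact hfree x hx hxc (normalizer_le_modCent hsimp hperf hsub S hab htS ht1 htna hx.1 hxc hg hgS hgx hn)
  set π := QuotientGroup.mk' (Subgroup.center G) with hπ
  have hπs : Function.Surjective π := QuotientGroup.mk'_surjective _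
  have hπ1 : ∀ {a : G}, π a = 1 ↔ a ∈ Subgroup.center G := fun {a} => QuotientGroup.eq_one_iff a
  have hmc : ∀ {g x : G}, π g * π x = π x * π g → g ∈ modCent x := fun {g x} h => by
    rw [mem_modCent_iff, ← hπ1, map_mul, map_mul, map_mul, map_inv, map_inv, h, mul_inv_cancel_right,
      mul_inv_cancel]
  have hspan : ∀ {g : G}, π g ∈ Subgroup.normalizer ((R.map π : Subgroup _) : Set _) →
      g ∈ Subgroup.normalizer ((S : Subgroup G) : Set G) := fun {g} hg => by
    refine Subgroup.mem_normalizer_fintype fun s hs =>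
      mem_sylow_of_conj hsimp hperf hsub S hab htS ht1 htna hs (heA _ ?_)
    have hg' := inv_mem hg
    obtain ⟨x, hx, ex⟩ := (Subgroup.mem_normalizer_iff.1 hg' _).1 (Subgroup.mem_map_of_mem π he)
    rw [inv_inv, ← map_inv, ← map_mul, ← map_mul] at ex
    have hz : x⁻¹ * (g⁻¹ * e * g) ∈ Subgroup.center G := QuotientGroup.eq.1 ex
    have hc : Commute s (g⁻¹ * e * g) := by
      rw [← mul_inv_cancel_left x (g⁻¹ * e * g)]
      exact (hx.1 s hs).symm.mul_right (Subgroup.mem_center_iff.1 hz s)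
    have h1 := hc.map (MulAut.conj g).toMonoidHom
    simpa [mul_assoc] using h1
  have hRp : IsPGroup r R := fun x => by
    obtain ⟨k, hk⟩ := x.2.2
    exact ⟨k, Subtype.ext hk⟩
  obtain ⟨P, hRP⟩ := hRp.exists_le_sylow
  have hPR : R = (P : Subgroup G) := by
    by_contra hne
    obtain ⟨y, hyP, hyR, hyN⟩ := exists_normalizing P.isPGroup' hRP hne
    have hyS : y ∈ Subgroup.normalizer ((S : Subgroup G) : Set G) := hspan (by
      refine Subgroup.mem_normalizer_fintype ?_
      rintro _ ⟨x, hx, rfl⟩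
      exact ⟨y * x * y⁻¹, (Subgroup.mem_normalizer_iff.1 hyN x).1 hx, by simp⟩)
    obtain ⟨k, hk⟩ := P.isPGroup' ⟨y, hyP⟩
    have hk' : y ^ r ^ k = 1 := congrArg Subtype.val hk
    obtain ⟨q, hq⟩ := exists_pow_eq_self_of_coprime (x := y) (n := 3)
      ((((Nat.coprime_primes Nat.prime_three hr').2 hr3.symm).pow_right k).coprime_dvd_right
        (orderOf_dvd_of_pow_eq_one hk'))
    exact hyR ⟨fun s hs => hq ▸ (cube_cent hsimp hperf hsub S hab htS ht1 htna hyS s hs).pow_left q, k, hk'⟩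
  let RQ : Sylow r (G ⧸ Subgroup.center G) := P.mapSurjective hπs
  have hRQ : (RQ : Subgroup (G ⧸ Subgroup.center G)) = R.map π := by rw [hPR]; rfl
  let PQ : Sylow 2 (G ⧸ Subgroup.center G) := S.mapSurjective hπs
  have hinj : ∀ s ∈ (S : Subgroup G), π s = 1 → s = 1 := fun s hs h =>
    center_inf_eq_one S hab hperf hs (hπ1.1 h)
  have hcard : Nat.card (PQ : Subgroup (G ⧸ Subgroup.center G)) = 4 := by
    rw [show (PQ : Subgroup (G ⧸ Subgroup.center G)) = (S : Subgroup G).map π from rfl, ← h4]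
    refine Nat.card_congr (Equiv.ofBijective (π.subgroupMap (S : Subgroup G))
      ⟨(injective_iff_map_eq_one _).2 fun u hu => Subtype.ext (hinj u u.2 (congrArg Subtype.val hu)),
        MonoidHom.subgroupMap_surjective _ _⟩).symm
  have hsqQ : ∀ u : (PQ : Subgroup (G ⧸ Subgroup.center G)), u * u = 1 := fun u => by
    obtain ⟨s, hs, e⟩ := u.2
    refine Subtype.ext ?_
    show (u : G ⧸ Subgroup.center G) * u = 1
    rw [← e, ← map_mul, ← pow_two, hsq s hs, map_one]
  have hKlein : IsKleinFour (PQ : Subgroup (G ⧸ Subgroup.center G)) := by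
    refine ⟨hcard, ?_⟩
    haveI : Nontrivial (PQ : Subgroup (G ⧸ Subgroup.center G)) := Finite.one_lt_card_iff_nontrivial.1 (by omega)
    refine ((Nat.dvd_prime Nat.prime_two).1 (Monoid.exponent_dvd_of_forall_pow_eq_one fun u => by
      rw [pow_two, hsqQ u])).resolve_left fun h1 => ?_
    haveI := Monoid.exp_eq_one_iff.1 h1
    exact false_of_nontrivial_of_subsingleton (PQ : Subgroup (G ⧸ Subgroup.center G))
  have hconjt : ∀ u : G ⧸ Subgroup.center G, orderOf u = 2 → IsConj (π t) u := fun u hu => by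
    have hp : IsPGroup 2 (Subgroup.zpowers u) := IsPGroup.of_card (n := 1) (by
      rw [Nat.card_zpowers, hu, pow_one])
    obtain ⟨h, hh⟩ := CfsgLib.Transfer.exists_map_conj_le_sylow hp PQ
    obtain ⟨s, hs, e⟩ := hh ⟨u, Subgroup.mem_zpowers u, rfl⟩
    change π s = h * u * h⁻¹ at e
    have hs1 : s ≠ 1 := fun e0 => by
      rw [e0, map_one, eq_comm, conj_eq_one_iff] at e
      rw [e, orderOf_one] at hu
      omega
    obtain ⟨g, hg⟩ := exists_conj_eq hsimp hperf hsub S hab htS ht1 htna hn hmove hs hs1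
    refine isConj_iff.2 ⟨h⁻¹ * π g, ?_⟩
    rw [show h⁻¹ * π g * π t * (h⁻¹ * π g)⁻¹ = h⁻¹ * (π g * π t * (π g)⁻¹) * h by group, ← map_inv,
      ← map_mul, ← map_mul, hg, e]
    group
  have hπt : orderOf (π t) = 2 := orderOf_eq_prime (by rw [← map_pow, hsq t htS, map_one])
    fun h => ht1 (hinj t htS h)
  have hperfQ : commutator (G ⧸ Subgroup.center G) = ⊤ := by
    rw [commutator_def, ← Subgroup.map_top_of_surjective π hπs, ← Subgroup.map_commutator, ← commutator_def,
      hperf]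
  have hRQab : IsMulCommutative (RQ : Subgroup (G ⧸ Subgroup.center G)) := ⟨⟨fun u v => by
    obtain ⟨a, ha, ea⟩ : (u : G ⧸ Subgroup.center G) ∈ R.map π := hRQ ▸ u.2
    obtain ⟨b, hb, eb⟩ : (v : G ⧸ Subgroup.center G) ∈ R.map π := hRQ ▸ v.2
    refine Subtype.ext ?_
    show (u : G ⧸ Subgroup.center G) * v = v * u
    rw [← ea, ← eb, ← map_mul, ← map_mul, (habA ha.1 hb.1).eq]⟩⟩
  have hCR : Subgroup.centralizer ((RQ : Subgroup (G ⧸ Subgroup.center G)) : Set _) =
      (Subgroup.centralizer ((S : Subgroup G) : Set G)).map π := by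
    rw [hRQ]
    refine le_antisymm (fun q hq => ?_) ?_
    · obtain ⟨g, rfl⟩ := hπs q
      have hgN : g ∈ Subgroup.normalizer ((S : Subgroup G) : Set G) :=
        hspan (Subgroup.centralizer_le_normalizer _ hq)
      exact Subgroup.mem_map_of_mem π (Subgroup.mem_centralizer_iff.2 fun s hs => (hsemiG e he hec g hgN
        (hmc (Subgroup.mem_centralizer_iff.1 hq _ (Subgroup.mem_map_of_mem π he)).symm) s hs).eq.symm)
    · rintro _ ⟨g, hg, rfl⟩
      refine Subgroup.mem_centralizer_iff.2 ?_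
      rintro _ ⟨x, hx, rfl⟩
      rw [← map_mul, ← map_mul,
        (habA hx.1 fun s hs => (Subgroup.mem_centralizer_iff.1 hg s hs).symm).eq]
  have hNR : Subgroup.normalizer ((RQ : Subgroup (G ⧸ Subgroup.center G)) : Set _) =
      (Subgroup.normalizer ((S : Subgroup G) : Set G)).map π := by
    rw [hRQ]
    refine le_antisymm (fun q hq => ?_) ?_
    · obtain ⟨g, rfl⟩ := hπs q
      exact Subgroup.mem_map_of_mem π (hspan hq)
    · rintro _ ⟨g, hg, rfl⟩
      refine Subgroup.mem_normalizer_fintype ?_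
      rintro _ ⟨x, hx, rfl⟩
      exact ⟨g * x * g⁻¹, hRn g hg x hx, by simp⟩
  have hR1 : (RQ : Subgroup (G ⧸ Subgroup.center G)) ≠ ⊥ := fun h => hec (hπ1.1 (by
    rw [← Subgroup.mem_bot, ← h, hRQ]
    exact Subgroup.mem_map_of_mem π he))
  have hRJ : (RQ : Subgroup (G ⧸ Subgroup.center G)) ≤ Subgroup.centralizer ({π t} : Set _) := by
    rw [hRQ]
    rintro _ ⟨x, hx, rfl⟩
    exact Subgroup.mem_centralizer_singleton_iff.2 (by rw [← map_mul, ← map_mul, (hx.1 t htS).eq])
  have hRN : Subgroup.normalizer ((RQ : Subgroup (G ⧸ Subgroup.center G)) : Set _) ⊓ Subgroup.centralizer ({π t} : Set _) ≤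
      Subgroup.centralizer ((RQ : Subgroup (G ⧸ Subgroup.center G)) : Set _) := by
    rintro q ⟨hq1, hq2⟩
    rw [hNR] at hq1
    obtain ⟨g, hg, rfl⟩ := hq1
    rw [hCR]
    have hgt : Commute g t := commute_of_mod hsimp hperf hsub S hab htS ht1 htna htS (by
      rw [← mem_modCent_iff]
      exact hmc (Subgroup.mem_centralizer_singleton_iff.1 hq2))
    exact Subgroup.mem_map_of_mem π (Subgroup.mem_centralizer_iff.2 fun s hs =>
      (semiregular hsimp hperf hsub S hab htS ht1 hg hgt s hs).eq.symm)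
  have hsemi : ∀ u ∈ (RQ : Subgroup (G ⧸ Subgroup.center G)), u ≠ 1 →
      Subgroup.centralizer ({u} : Set _) ⊓ Subgroup.normalizer ((RQ : Subgroup (G ⧸ Subgroup.center G)) : Set _) ≤
        Subgroup.centralizer ((RQ : Subgroup (G ⧸ Subgroup.center G)) : Set _) := by
    intro u hu hu1
    rw [hRQ] at hu
    obtain ⟨x, hx, rfl⟩ := hu
    rintro q ⟨hq1, hq2⟩
    rw [hNR] at hq2
    obtain ⟨g, hg, rfl⟩ := hq2
    rw [hCR]
    exact Subgroup.mem_map_of_mem π (Subgroup.mem_centralizer_iff.2 fun s hs =>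
      (hsemiG x hx (fun h => hu1 (hπ1.2 h)) g hg
        (hmc (Subgroup.mem_centralizer_singleton_iff.1 hq1)) s hs).eq.symm)
  have hnpc : ∀ u ∈ (RQ : Subgroup (G ⧸ Subgroup.center G)), u ≠ 1 →
      Cfsg.HasNormalPComplement r (Subgroup.centralizer ({u} : Set (G ⧸ Subgroup.center G))) := by
    intro u hu hu1
    have hle : (RQ : Subgroup (G ⧸ Subgroup.center G)) ≤ Subgroup.centralizer ({u} : Set _) := fun v hv =>
      Subgroup.mem_centralizer_singleton_iff.2 (congrArg Subtype.val (hRQab.is_comm.comm ⟨v, hv⟩ ⟨u, hu⟩))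
    set P' := RQ.subtype hle with hP'
    have hN : Subgroup.normalizer ((P' : Subgroup (Subgroup.centralizer ({u} : Set (G ⧸ Subgroup.center G)))) :
          Set (Subgroup.centralizer ({u} : Set (G ⧸ Subgroup.center G)))) ≤
        Subgroup.centralizer ((P' : Subgroup (Subgroup.centralizer ({u} : Set (G ⧸ Subgroup.center G)))) :
          Set (Subgroup.centralizer ({u} : Set (G ⧸ Subgroup.center G)))) := by
      intro m hm
      have hm' : (m : G ⧸ Subgroup.center G) ∈ Subgroup.normalizer ((RQ : Subgroup (G ⧸ Subgroup.center G)) : Set _) :=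
        Subgroup.mem_normalizer_fintype fun v hv => (Subgroup.mem_normalizer_iff.1 hm ⟨v, hle hv⟩).1 hv
      exact Subgroup.mem_centralizer_iff.2 fun v hv =>
        Subtype.ext (Subgroup.mem_centralizer_iff.1 (hsemi u hu hu1 ⟨m.2, hm'⟩) v hv)
    exact ⟨P', (MonoidHom.transferSylow P' hN).ker, MonoidHom.normal_ker _,
      MonoidHom.ker_transferSylow_isComplement' P' hN⟩
  have he3 : (Subgroup.centralizer ((RQ : Subgroup (G ⧸ Subgroup.center G)) : Set (G ⧸ Subgroup.center G))).relIndex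
      (Subgroup.normalizer ((RQ : Subgroup (G ⧸ Subgroup.center G)) : Set (G ⧸ Subgroup.center G))) = 3 := by
    have hZA : Subgroup.center G ≤ Subgroup.centralizer ((S : Subgroup G) : Set G) :=
      Subgroup.center_le_centralizer _
    rw [hCR, hNR, Subgroup.relIndex_map_map, QuotientGroup.ker_mk', sup_eq_left.2 hZA,
      sup_eq_left.2 (hZA.trans (Subgroup.centralizer_le_normalizer _)), hidx]
  exact no_three_automizer hperfQ PQ hKlein (fun a b ha hb => (hconjt a ha).symm.trans (hconjt b hb))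
    (J := π t) (Subgroup.mem_map_of_mem π htS) hπt hr RQ hR1 hRQab hRJ hRN hnpc he3 hsemi

/-- A prime power lift. -/
theorem exists_pow_lift {K : Type*} [Group K] {r : ℕ} (hr : r.Prime) (φ : G →* K) {a : G}
    {k : ℕ} (ha : φ a ^ r ^ k = 1) : ∃ m j : ℕ, φ (a ^ m) = φ a ∧ (a ^ m) ^ r ^ j = 1 := by
  obtain ⟨i, u, hu, hou⟩ := Nat.exists_eq_pow_mul_and_not_dvd (orderOf_pos a).ne' r hr.ne_one
  obtain ⟨v, hv⟩ := exists_pow_eq_self_of_coprime (x := φ a) (n := u)
    (((hr.coprime_iff_not_dvd.2 hu).symm.pow_right k).coprime_dvd_right (orderOf_dvd_of_pow_eq_one ha))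
  refine ⟨u * v, i, by rw [map_pow, pow_mul, hv], ?_⟩
  rw [← pow_mul, show u * v * r ^ i = r ^ i * u * v by ring, ← hou, pow_mul, pow_orderOf_eq_one, one_pow]

set_option maxHeartbeats 1000000 in
/-- No element of order three in the image of `C(S)` (case I). -/
theorem case_one {d : G} (hd : ∀ s ∈ (S : Subgroup G), Commute d s) (hdc : d ∉ Subgroup.center G)
    {i : ℕ} (hi : d ^ 3 ^ i = 1) : False := by
  classical
  haveI : Fact (Nat.Prime 3) := ⟨Nat.prime_three⟩
  haveI : Fact (Nat.Prime 2) := ⟨Nat.prime_two⟩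
  obtain ⟨-, -, ⟨m, hm, hmove⟩, -, hidx⟩ := four_group hsimp hperf hsub S hab htS ht1 htna
  have hmS : ¬ ∀ s ∈ (S : Subgroup G), Commute m s := fun h => hmove t htS ht1 (by
    rw [(h t htS).eq, mul_inv_cancel_right])
  obtain ⟨l, u, hu, hlu⟩ := Nat.exists_eq_pow_mul_and_not_dvd (orderOf_pos m).ne' 3 (by norm_num)
  set n := m ^ u with hndef
  have hn : n ∈ Subgroup.normalizer ((S : Subgroup G) : Set G) := pow_mem hm u
  have hnS : ¬ ∀ s ∈ (S : Subgroup G), Commute n s := fun h => hmS fun s hs => by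
    have h3 := cube_cent hsimp hperf hsub S hab htS ht1 htna hm
    have hle : m ∈ Subgroup.centralizer ({s} : Set G) := by
      obtain ⟨a, b, hab'⟩ : ∃ a b : ℤ, (u : ℤ) * a + 3 * b = 1 := by
        have hc : Nat.Coprime u 3 := (Nat.prime_three.coprime_iff_not_dvd.2 hu).symm
        refine ⟨Nat.gcdA u 3, Nat.gcdB u 3, ?_⟩
        have := Nat.gcd_eq_gcd_ab u 3
        rw [hc.gcd_eq_one] at this
        exact_mod_cast this.symm
      have e : m = (m ^ u) ^ a * (m ^ 3) ^ b := by
        rw [← zpow_natCast m u, ← zpow_natCast m 3, ← zpow_mul, ← zpow_mul, ← zpow_add]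
        rw [show (u : ℤ) * a + ((3 : ℕ) : ℤ) * b = 1 by exact_mod_cast hab', zpow_one]
      rw [e]
      exact mul_mem (Subgroup.zpow_mem _ (Subgroup.mem_centralizer_singleton_iff.2 (h s hs).eq) a)
        (Subgroup.zpow_mem _ (Subgroup.mem_centralizer_singleton_iff.2 (h3 s hs).eq) b)
    exact Subgroup.mem_centralizer_singleton_iff.1 hle
  set π := QuotientGroup.mk' (Subgroup.center G) with hπ
  have hπs : Function.Surjective π := QuotientGroup.mk'_surjective _
  have hπ1 : ∀ {a : G}, π a = 1 ↔ a ∈ Subgroup.center G := fun {a} => QuotientGroup.eq_one_iff a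
  have hmc : ∀ {g x : G}, π g * π x = π x * π g → g ∈ modCent x := fun {g x} h => by
    rw [mem_modCent_iff, ← hπ1, map_mul, map_mul, map_mul, map_inv, map_inv, h, mul_inv_cancel_right,
      mul_inv_cancel]
  set A := (Subgroup.centralizer ((S : Subgroup G) : Set G)).map π with hA
  let V : Sylow 2 (G ⧸ Subgroup.center G) := S.mapSurjective hπs
  have hV : (V : Subgroup (G ⧸ Subgroup.center G)) = (S : Subgroup G).map π := rfl
  have hNV : Subgroup.normalizer ((V : Subgroup (G ⧸ Subgroup.center G)) : Set (G ⧸ Subgroup.center G)) =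
      (Subgroup.normalizer ((S : Subgroup G) : Set G)).map π := by
    ext q
    rw [hV]
    exact normalizer_map hsimp hperf hsub S hab htS ht1 htna
  have heA : A = Subgroup.centralizer ((V : Subgroup (G ⧸ Subgroup.center G)) : Set (G ⧸ Subgroup.center G)) := by
    rw [hA, hV]
    exact (centralizer_map hsimp hperf hsub S hab htS ht1 htna).symm
  have hcent : ∀ {a : G}, a ∈ Subgroup.centralizer ((S : Subgroup G) : Set G) →
      ∀ s ∈ (S : Subgroup G), Commute a s := fun ha s hs => (Subgroup.mem_centralizer_iff.1 ha s hs).symm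
  refine no_three_fixed ({
    V := V
    A := A
    n := π n
    eA := heA
    comm := ?_
    idx := ?_
    mem_n := hNV ▸ Subgroup.mem_map_of_mem π hn
    n_notMem := ?_
    n_three := ⟨l, by
      rw [hndef, ← map_pow, ← pow_mul, mul_comm, ← hlu, pow_orderOf_eq_one, map_one]⟩
    fix := ?_ } : ThreeCtx (G ⧸ Subgroup.center G)) ?_ ?_
  · rintro _ ⟨a, ha, rfl⟩ _ ⟨b, hb, rfl⟩
    rw [← map_mul, ← map_mul,
      (abelian_centralizer_sylow hsimp hperf hsub S hab htS ht1 htna (hcent ha) (hcent hb)).eq]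
  · have hZA : Subgroup.center G ≤ Subgroup.centralizer ((S : Subgroup G) : Set G) :=
      Subgroup.center_le_centralizer _
    rw [hNV, hA, Subgroup.relIndex_map_map, QuotientGroup.ker_mk', sup_eq_left.2 hZA,
      sup_eq_left.2 (hZA.trans (Subgroup.centralizer_le_normalizer _)), hidx]
  · rintro ⟨a, ha, e⟩
    refine hnS fun s hs => ?_
    have hz : a⁻¹ * n ∈ Subgroup.center G := QuotientGroup.eq.1 e
    rw [← mul_inv_cancel_left a n]
    have hzs : Commute (a⁻¹ * n) s := (Subgroup.mem_center_iff.1 hz s).symm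
    exact (hcent ha s hs).mul_left hzs
  · intro q hqA hq1 hq3 hqn
    obtain ⟨k, hk⟩ := hq3
    obtain ⟨a, ha, rfl⟩ := hqA
    obtain ⟨w, j, hw, hj⟩ := exists_pow_lift hsimp hperf hsub S hab htS ht1 htna Nat.prime_three π hk
    have hx : ∀ s ∈ (S : Subgroup G), Commute (a ^ w) s := fun s hs => (hcent ha s hs).pow_left w
    have hxc : a ^ w ∉ Subgroup.center G := fun h => hq1 (by rw [← hw]; exact hπ1.2 h)
    rw [← hw] at hqn ⊢
    have hnx : n ∈ modCent (a ^ w) := hmc hqn.eq.symm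
    refine ⟨?_, fun g hg => ?_⟩
    · rw [hNV]
      refine le_antisymm (fun q hq => ?_) ?_
      · obtain ⟨g, rfl⟩ := hπs q
        exact Subgroup.mem_map_of_mem π (modCent_le_normalizer hsimp hperf hsub S hab htS ht1 htna hx hxc hn hnS
          (by norm_num : (3 : ℕ) ≠ 2) hj hnx (hmc (Subgroup.mem_centralizer_singleton_iff.1 hq)))
      · rintro _ ⟨g, hg, rfl⟩
        exact Subgroup.mem_comap.1 (normalizer_le_modCent hsimp hperf hsub S hab htS ht1 htna hx hxc hn hnS hnx hg)
    · obtain ⟨g, rfl⟩ := hπs g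
      obtain ⟨z, hz⟩ := Subgroup.mem_zpowers_iff.1 hg
      rw [hNV]
      refine Subgroup.mem_map_of_mem π (modCent_le_normalizer hsimp hperf hsub S hab htS ht1 htna hx hxc hn hnS
        (by norm_num : (3 : ℕ) ≠ 2) hj hnx (mem_modCent_of_span hsimp hperf hsub S hab htS ht1 htna hx hxc hn hnS
          hnx ?_))
      have hc : ((a ^ w) ^ z)⁻¹ * (g * a ^ w * g⁻¹) ∈ Subgroup.center G := by
        rw [← hπ1, map_mul, map_inv, map_zpow, hz, map_mul, map_mul, map_inv, inv_mul_cancel]
      rw [← mul_inv_cancel_left ((a ^ w) ^ z) (g * a ^ w * g⁻¹)]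
      exact mul_mem (Subgroup.mem_sup_left (Subgroup.zpow_mem_zpowers _ z)) (Subgroup.mem_sup_right hc)
  · rw [commutator_def, ← Subgroup.map_top_of_surjective π hπs, ← Subgroup.map_commutator, ← commutator_def,
      hperf]
  · obtain ⟨j, -, hj⟩ := (Nat.dvd_prime_pow Nat.prime_three).1
      (orderOf_dvd_of_pow_eq_one (show π d ^ 3 ^ i = 1 by rw [← map_pow, hi, map_one]))
    have hj0 : j ≠ 0 := fun h => hdc (hπ1.1 (orderOf_eq_one_iff.1 (by rw [hj, h, pow_zero])))
    refine ⟨π d ^ (3 ^ (j - 1)), ?_, ?_⟩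
    · exact pow_mem (Subgroup.mem_map_of_mem π (Subgroup.mem_centralizer_iff.2 fun s hs => (hd s hs).eq.symm)) _
    · rw [orderOf_pow' _ (pow_ne_zero _ (by norm_num : (3 : ℕ) ≠ 0)), hj,
        Nat.gcd_eq_right (pow_dvd_pow 3 (by omega : j - 1 ≤ j)), Nat.pow_div (by omega) (by norm_num),
        show j - (j - 1) = 1 by omega, pow_one]

/-- (D) Elements of odd order centralising `S` are central. -/
theorem odd_centralizer_le_center :
    ∀ d : G, (∀ s ∈ (S : Subgroup G), Commute d s) → Odd (orderOf d) → d ∈ Subgroup.center G := by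
  intro d hd hodd
  by_contra hdc
  have hk : orderOf (QuotientGroup.mk' (Subgroup.center G) d) ≠ 1 := fun h =>
    hdc ((QuotientGroup.eq_one_iff d).1 (orderOf_eq_one_iff.1 h))
  obtain ⟨r, hr, hrd⟩ := Nat.exists_prime_and_dvd hk
  have hrd' : r ∣ orderOf d := hrd.trans (orderOf_map_dvd _ d)
  have hr2 : r ≠ 2 := fun h => (Nat.not_even_iff_odd.2 hodd) (even_iff_two_dvd.2 (h ▸ hrd'))
  obtain ⟨i, u, hu, hou⟩ := Nat.exists_eq_pow_mul_and_not_dvd (orderOf_pos d).ne' r hr.ne_one
  have hi : (d ^ u) ^ r ^ i = 1 := by rw [← pow_mul, mul_comm, ← hou, pow_orderOf_eq_one]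
  have hc : d ^ u ∉ Subgroup.center G := fun h => hu (hrd.trans (orderOf_dvd_of_pow_eq_one (by
    rw [← map_pow, QuotientGroup.mk'_apply, QuotientGroup.eq_one_iff]; exact h)))
  haveI := Fact.mk hr
  rcases eq_or_ne r 3 with rfl | hr3
  · exact case_one hsimp hperf hsub S hab htS ht1 htna (fun s hs => (hd s hs).pow_left u) hc hi
  · exact case_two hsimp hperf hsub S hab htS ht1 htna hr2 hr3 (fun s hs => (hd s hs).pow_left u) hc hi

end CfsgLib.MinNonCA
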