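import Cfsg.Agent.Lib.MinNonCA.AbelianShape
import Cfsg.Agent.Lib.Transfer.Basic
import Cfsg.Agent.S0508

/-!
In the abelian branch, when the elements of odd order centralising the Sylow 2-subgroup are central,
the central quotient is a two-dimensional projective special linear group in odd characteristic
(S4369).
-/

set_option autoImplicit false
set_option linter.style.haveILetI false
set_option linter.unusedSectionVars false

namespace CfsgLib.MinNonCA

variable {G : Type*} [Group G] [Finite G]
variable (hsimp : IsSimpleGroup (G ⧸ Subgroup.center G)) (hperf : commutator G = ⊤)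
variable (hsub : ∀ H : Subgroup G, H ≠ ⊤ →
  ∀ x : H, x ∉ Subgroup.center H → IsMulCommutative (Subgroup.centralizer ({x} : Set H)))
variable (S : Sylow 2 G) (hab : ∀ x ∈ (S : Subgroup G), ∀ y ∈ (S : Subgroup G), Commute x y)

include hperf hab in
/-- A central element squaring to one is trivial. -/
theorem center_sq_eq_one {z : G} (hz : z ∈ Subgroup.center G) (h : z ^ 2 = 1) : z = 1 :=
  center_inf_eq_one S hab hperf
    (mem_of_commute_all S (fun s _ => (mem_center_iff'.mp hz s).symm) (j := 1) (by simpa using h)) hz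

include hperf hab in
theorem center_eq_one_of_conj {y z : G} {s : G} (hs2 : s ^ 2 = 1) (hz : z ∈ Subgroup.center G)
    (h : s * y * s⁻¹ = y * z) : z = 1 := by
  refine center_sq_eq_one hperf S hab hz ?_
  have hss : s⁻¹ = s := inv_eq_of_mul_eq_one_right (by rw [← pow_two, hs2])
  have h2 : y = y * z * z := by
    calc y = s * (s * y * s⁻¹) * s⁻¹ := by
            conv_lhs => rw [show y = (s * s) * y * (s * s)⁻¹ by rw [← pow_two, hs2]; group]
            group
      _ = s * (y * z) * s⁻¹ := by rw [h]
      _ = s * y * s⁻¹ * z := by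
            rw [show s * (y * z) * s⁻¹ = s * y * (z * s⁻¹) by group, ← (mem_center_iff'.mp hz s⁻¹).eq]
            group
      _ = y * z * z := by rw [h]
  rw [pow_two]
  exact mul_left_cancel (show y * (z * z) = y * 1 by rw [← mul_assoc, ← h2, mul_one])

section Four

variable {t : G} (htS : t ∈ (S : Subgroup G)) (ht1 : t ≠ 1) (htna : ¬ AbelianCent t)
include hsimp hperf hsub hab htS ht1 htna

/-- The central quotient is a projective special linear group. -/
theorem psl_of_odd_central
    (hD : ∀ d : G, (∀ s ∈ (S : Subgroup G), Commute d s) → Odd (orderOf d) → d ∈ Subgroup.center G) :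
    ∃ (F : Type) (_ : Field F) (_ : Fintype F), Odd (Fintype.card F) ∧
      Nonempty ((G ⧸ Subgroup.center G) ≃* Matrix.ProjectiveSpecialLinearGroup (Fin 2) F) := by
  classical
  haveI : Fact (Nat.Prime 2) := ⟨Nat.prime_two⟩
  haveI := hsimp
  obtain ⟨h4, hsq, ⟨n, hn, hmove⟩, -, -⟩ := four_group hsimp hperf hsub S hab htS ht1 htna
  obtain ⟨O, hodd, hOt, hnorm, hdec⟩ := exists_core hsimp hperf hsub S hab htS ht1 htna
  have hZ2 : ∀ {z : G}, z ∈ Subgroup.center G → z ^ 2 = 1 → z = 1 := fun hz h =>
    center_sq_eq_one hperf S hab hz h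
  set π := QuotientGroup.mk' (Subgroup.center G) with hπ
  have hπ1 : ∀ {g : G}, π g = 1 ↔ g ∈ Subgroup.center G := QuotientGroup.eq_one_iff _
  have hπeq : ∀ {a b : G}, π a = π b → ∃ z ∈ Subgroup.center G, a = b * z := fun {a b} h =>
    ⟨b⁻¹ * a, QuotientGroup.eq.mp h.symm, (mul_inv_cancel_left b a).symm⟩
  have hsinj : ∀ {s : G}, s ∈ (S : Subgroup G) → π s = 1 → s = 1 := fun hs h =>
    center_inf_eq_one S hab hperf hs (hπ1.mp h)
  set u := n * t * n⁻¹ with hu
  have huS : u ∈ (S : Subgroup G) := (Subgroup.mem_normalizer_iff.mp hn t).mp htS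
  have hut : u ≠ t := hmove t htS ht1
  have hu1 : u ≠ 1 := fun h => ht1 (conj_eq_one_iff.mp h)
  have hu2 : u ^ 2 = 1 := hsq u huS
  have ht2 : t ^ 2 = 1 := hsq t htS
  have hS : ∀ s ∈ (S : Subgroup G), s = 1 ∨ s = t ∨ s = u ∨ s = t * u := by
    intro s hs
    let f : Fin 4 → (S : Subgroup G) := ![1, ⟨t, htS⟩, ⟨u, huS⟩, ⟨t * u, mul_mem htS huS⟩]
    have htu : t * u ≠ 1 := fun h => hut (by
      have := eq_inv_of_mul_eq_one_right h
      rwa [inv_eq_of_mul_eq_one_right (by rw [← pow_two, ht2] : t * t = 1)] at this)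
    have hf : Function.Injective f := by
      intro i j hij
      have e := congrArg Subtype.val hij
      fin_cases i <;> fin_cases j <;> first
        | rfl
        | (exfalso; simp [f] at e; first
            | exact ht1 e | exact ht1 e.symm | exact hu1 e | exact hu1 e.symm | exact hut e | exact hut e.symm
            | exact htu e | exact htu e.symm)
    obtain ⟨i, hi⟩ := ((Nat.bijective_iff_injective_and_card f).mpr ⟨hf, by rw [Nat.card_fin, h4]⟩).2 ⟨s, hs⟩
    have e := congrArg Subtype.val hi
    fin_cases i <;> simp [f] at e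
    exacts [Or.inl e.symm, Or.inr (Or.inl e.symm), Or.inr (Or.inr (Or.inl e.symm)), Or.inr (Or.inr (Or.inr e.symm))]
  set Ob := O.map π with hOb
  have hObodd : Odd (Nat.card Ob) := hodd.of_dvd_nat (Subgroup.card_map_dvd O π)
  -- fixed points of `u` on the core are central
  have hfix : ∀ o ∈ O, Commute o u → π o = 1 := by
    intro o ho hou
    refine hπ1.mpr (hD o (fun s hs => ?_) ?_)
    · rcases hS s hs with rfl | rfl | rfl | rfl
      · exact Commute.one_right o
      · exact hOt o ho
      · exact hou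
      · exact (hOt o ho).mul_right hou
    · exact hodd.of_dvd_nat (Subgroup.orderOf_dvd_natCard O ho)
  have huO : ∀ o ∈ O, u * o * u⁻¹ ∈ O := hnorm u (hab u huS t htS)
  -- `u` inverts the core modulo the centre
  have hinv : ∀ y ∈ Ob, π u * y * (π u)⁻¹ = y⁻¹ := by
    let φ : Ob →* Ob := MonoidHom.mk' (fun y => ⟨π u * y * (π u)⁻¹, by
      obtain ⟨o, ho, e⟩ := y.2
      exact ⟨u * o * u⁻¹, huO o ho, by rw [map_mul, map_mul, map_inv, e]⟩⟩)
      fun a b => Subtype.ext (by simp [mul_assoc])
    have hfpf : MonoidHom.FixedPointFree φ := by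
      rintro ⟨y, hy⟩ h
      obtain ⟨o, ho, rfl⟩ := hy
      have h' : π (u * o * u⁻¹) = π o := by
        rw [map_mul, map_mul, map_inv]; exact congrArg Subtype.val h
      obtain ⟨z, hz, e⟩ := hπeq h'
      rw [center_eq_one_of_conj hperf S hab hu2 hz e, mul_one] at e
      exact Subtype.ext (hfix o ho (mul_inv_eq_iff_eq_mul.mp e).symm)
    have hinvol : Function.Involutive φ := fun y => Subtype.ext (by
      show π u * (π u * y * (π u)⁻¹) * (π u)⁻¹ = y
      rw [show π u * (π u * y * (π u)⁻¹) * (π u)⁻¹ = (π u * π u) * y * (π u * π u)⁻¹ by group,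
        ← map_mul, ← pow_two, hu2, map_one]
      group)
    intro y hy
    exact congrArg Subtype.val (congrFun (hfpf.coe_eq_inv_of_involutive hinvol) ⟨y, hy⟩)
  have hObcomm : ∀ x ∈ Ob, ∀ y ∈ Ob, Commute x y := by
    intro x hx y hy
    have h := hinv (x * y) (mul_mem hx hy)
    rw [show π u * (x * y) * (π u)⁻¹ = (π u * x * (π u)⁻¹) * (π u * y * (π u)⁻¹) by group,
      hinv x hx, hinv y hy, mul_inv_rev] at h
    have h2 : Commute x⁻¹ y⁻¹ := h
    simpa using h2.inv_inv
  have hObt : ∀ y ∈ Ob, Commute y (π t) := by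
    rintro _ ⟨o, ho, rfl⟩
    exact (hOt o ho).map π
  have hTU : ∀ y ∈ Ob, π (t * u) * y * (π (t * u))⁻¹ = y⁻¹ := by
    intro y hy
    rw [map_mul, show π t * π u * y * (π t * π u)⁻¹ = π t * (π u * y * (π u)⁻¹) * (π t)⁻¹ by group,
      hinv y hy, ← (hObt _ (inv_mem hy)).eq, mul_inv_cancel_right]
  have hnotfix : ∀ y ∈ Ob, y = y⁻¹ → y = 1 := by
    intro y hy h
    have h2 : y ^ 2 = 1 := by
      rw [pow_two]; nth_rewrite 2 [h]; exact mul_inv_cancel y
    exact orderOf_eq_one_iff.mp (Nat.eq_one_of_dvd_coprimes (Nat.coprime_two_left.mpr hObodd)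
      (orderOf_dvd_of_pow_eq_one h2) (Subgroup.orderOf_dvd_natCard Ob hy))
  -- the Sylow subgroup of the quotient
  let SQ : Sylow 2 (G ⧸ Subgroup.center G) := S.mapSurjective (QuotientGroup.mk'_surjective _)
  have hSQ : (SQ : Subgroup (G ⧸ Subgroup.center G)) = (S : Subgroup G).map π := Sylow.coe_mapSurjective _ S
  have hrinj : Function.Injective (π.comp (S : Subgroup G).subtype) :=
    (injective_iff_map_eq_one _).mpr fun v hv => Subtype.ext (hsinj v.2 hv)
  have hSQc : Nat.card (SQ : Subgroup (G ⧸ Subgroup.center G)) = 4 := by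
    rw [hSQ, ← Subgroup.range_subtype (S : Subgroup G), ← MonoidHom.range_comp,
      ← Nat.card_congr (MonoidHom.ofInjective hrinj).toEquiv, h4]
  have hSQmem : ∀ {q}, q ∈ (SQ : Subgroup (G ⧸ Subgroup.center G)) → q = 1 ∨ q = π t ∨ q = π u ∨ q = π (t * u) := by
    intro q hq
    rw [hSQ] at hq
    obtain ⟨s, hs, rfl⟩ := hq
    rcases hS s hs with rfl | rfl | rfl | rfl
    · exact Or.inl (map_one π)
    · exact Or.inr (Or.inl rfl)
    · exact Or.inr (Or.inr (Or.inl rfl))
    · exact Or.inr (Or.inr (Or.inr rfl))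
  have hT : orderOf (π t) = 2 := orderOf_eq_prime (by rw [← map_pow, ht2, map_one]) fun h => ht1 (hsinj htS h)
  have hTS : π t ∈ (SQ : Subgroup (G ⧸ Subgroup.center G)) := hSQ.symm ▸ Subgroup.mem_map_of_mem π htS
  have hklein : IsKleinFour (SQ : Subgroup (G ⧸ Subgroup.center G)) := by
    refine ⟨hSQc, (Nat.dvd_prime Nat.prime_two).mp (Monoid.exponent_dvd_of_forall_pow_eq_one fun a => ?_)
      |>.resolve_left fun e => ?_⟩
    · refine Subtype.ext ?_
      obtain ⟨s, hs, hsa⟩ : (a : G ⧸ Subgroup.center G) ∈ (S : Subgroup G).map π := hSQ ▸ a.2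
      rw [Subgroup.coe_pow, ← hsa, ← map_pow, hsq s hs, map_one, Subgroup.coe_one]
    · have := congrArg Subtype.val ((Monoid.exp_eq_one_iff.mp e).elim ⟨π t, hTS⟩ 1)
      exact ht1 (hsinj htS this)
  haveI := hklein
  haveI : IsKleinFour (DihedralGroup 2) := DihedralGroup.instIsKleinFourOfNatNat
  -- the centraliser of `t` and its core
  set C := Subgroup.centralizer ({π t} : Set (G ⧸ Subgroup.center G)) with hC
  have hCmem : ∀ {g : G}, π g ∈ C → Commute g t := by
    intro g hg
    have h : π (g * t * g⁻¹) = π t := by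
      rw [map_mul, map_mul, map_inv, Subgroup.mem_centralizer_singleton_iff.mp hg, mul_inv_cancel_right]
    obtain ⟨z, hz, e⟩ := hπeq h
    have h2 : z ^ 2 = 1 := by
      have e2 : (t * z) ^ 2 = 1 := by rw [← e, conj_pow, ht2, mul_one, mul_inv_cancel]
      rwa [(mem_center_iff'.mp hz t).mul_pow, ht2, one_mul] at e2
    rw [hZ2 hz h2, mul_one] at e
    exact mul_inv_eq_iff_eq_mul.mp e
  have hObC : Ob ≤ C := fun y hy => Subgroup.mem_centralizer_singleton_iff.mpr (hObt y hy).eq
  have hObn : ∀ c ∈ C, ∀ y ∈ Ob, c * y * c⁻¹ ∈ Ob := by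
    intro c hc y hy
    obtain ⟨g, rfl⟩ := QuotientGroup.mk'_surjective (Subgroup.center G) c
    obtain ⟨o, ho, rfl⟩ := hy
    exact ⟨g * o * g⁻¹, hnorm g (hCmem hc) o ho, by rw [map_mul, map_mul, map_inv]⟩
  have hcore : Ob = (Cfsg.oddCore C).map C.subtype := by
    refine le_antisymm ?_ ?_
    · have hle : Ob.subgroupOf C ≤ Cfsg.oddCore C := by
        refine CfsgLib.Transfer.le_pPrimeCore ⟨fun y hy c => ?_⟩ ?_
        · exact Subgroup.mem_subgroupOf.mpr (hObn c c.2 y (Subgroup.mem_subgroupOf.mp hy))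
        · rw [Nat.card_congr (Subgroup.subgroupOfEquivOfLe hObC).toEquiv]
          exact Nat.coprime_two_right.mpr hObodd
      exact fun y hy => ⟨⟨y, hObC hy⟩, hle (Subgroup.mem_subgroupOf.mpr hy), rfl⟩
    · rintro _ ⟨⟨q, hq⟩, hqK, rfl⟩
      show q ∈ Ob
      haveI : (Cfsg.oddCore C).Normal := CfsgLib.Transfer.pPrimeCore_normal 2 C
      have hq2 : q ^ 2 ∈ Ob := by
        obtain ⟨g, rfl⟩ := QuotientGroup.mk'_surjective (Subgroup.center G) q
        obtain ⟨o, ho, s, hs, rfl⟩ := hdec g (hCmem hq)
        refine ⟨o * (s * o * s⁻¹), mul_mem ho (hnorm s (hab s hs t htS) o ho), ?_⟩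
        rw [← map_pow]
        congr 1
        rw [pow_two, show s⁻¹ = s from inv_eq_of_mul_eq_one_right (by rw [← pow_two, hsq s hs])]
        simp only [mul_assoc]
      have hqo : Odd (orderOf q) := by
        refine (Nat.coprime_two_right.mp (CfsgLib.Transfer.pPrimeCore_coprime (G := C) 2)).of_dvd_nat ?_
        rw [← Subgroup.orderOf_mk q hq]
        exact Subgroup.orderOf_dvd_natCard _ hqK
      obtain ⟨m, hm⟩ := exists_pow_eq_self_of_coprime (x := q) (n := 2) (Nat.coprime_two_left.mpr hqo)
      exact hm ▸ pow_mem hq2 m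
  -- centralisers in the core
  have hcs : ∀ q ∈ (SQ : Subgroup (G ⧸ Subgroup.center G)), q ∉ Subgroup.centralizer (Ob : Set _) →
      ∀ y ∈ Ob, q * y * q⁻¹ = y⁻¹ := by
    intro q hq hqc y hy
    rcases hSQmem hq with rfl | rfl | rfl | rfl
    · exact absurd (one_mem _) hqc
    · exact absurd (Subgroup.mem_centralizer_iff.mpr fun v hv => (hObt v hv).eq) hqc
    · exact hinv y hy
    · exact hTU y hy
  refine Cfsg.Agent.S0508.result SQ 2 le_rfl IsKleinFour.nonempty_mulEquiv (π t) hT hTS ?_ Ob hcore ?_ hcs ?_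
  · intro q hq
    rw [hSQ] at hq
    obtain ⟨s, hs, rfl⟩ := hq
    exact ((hab s hs t htS).map π).eq
  · intro hne
    have heq : (SQ : Subgroup (G ⧸ Subgroup.center G)) ⊓ Subgroup.centralizer (Ob : Set _) = Subgroup.zpowers (π t) := by
      refine le_antisymm (fun q hq => ?_) (Subgroup.zpowers_le.mpr
        ⟨hTS, Subgroup.mem_centralizer_iff.mpr fun y hy => (hObt y hy).eq⟩)
      obtain ⟨⟨y, hy⟩, hy1⟩ := Subgroup.ne_bot_iff_exists_ne_one.mp hne
      have hqy := Subgroup.mem_centralizer_iff.mp hq.2 y hy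
      have hbad : q * y * q⁻¹ = y⁻¹ → False := fun h => by
        rw [← hqy, mul_inv_cancel_right] at h
        exact hy1 (Subtype.ext (hnotfix y hy h))
      rcases hSQmem hq.1 with e | e | e | e
      · rw [e]; exact one_mem _
      · rw [e]; exact Subgroup.mem_zpowers _
      · exact (hbad (e ▸ hinv y hy)).elim
      · exact (hbad (e ▸ hTU y hy)).elim
    rw [heq]
    refine ⟨inferInstance, ?_⟩
    have h2 := Subgroup.relIndex_mul_relIndex ⊥ (Subgroup.zpowers (π t)) (SQ : Subgroup (G ⧸ Subgroup.center G))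
      bot_le (Subgroup.zpowers_le.mpr hTS)
    rw [Subgroup.relIndex_bot_left, Subgroup.relIndex_bot_left, Nat.card_zpowers, hT, hSQc] at h2
    omega
  · intro Y hY hY1 c hc
    -- noncentral elements of the core have abelian centralisers meeting the involutions in `t`
    have hkey : ∀ y ∈ O, y ∉ Subgroup.center G → ∀ v : G, v ^ 2 = 1 → v ≠ 1 → Commute v y → v = t := by
      intro y hy hyc v hv2 hv1 hvy
      set X := Subgroup.closure ({y} ∪ (Subgroup.center G : Set G)) with hX
      have hyX : y ∈ X := Subgroup.subset_closure (Or.inl rfl)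
      have hCy : Subgroup.centralizer ({y} : Set G) ≠ ⊤ := fun h =>
        hyc (mem_center_iff'.mpr fun g => Subgroup.mem_centralizer_singleton_iff.mp (h ▸ Subgroup.mem_top g))
      have hXne : X ≠ ⊤ := fun h => hCy (top_le_iff.mp (h.symm.le.trans ((Subgroup.closure_le _).mpr (by
        rintro g (rfl | hg)
        · exact Subgroup.mem_centralizer_singleton_iff.mpr rfl
        · exact Subgroup.mem_centralizer_singleton_iff.mpr (mem_center_iff'.mp hg y).symm.eq))))
      have hNne := normalizer_ne_top hsimp hperf hXne hyX hyc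
      have hcX : ∀ g : G, Commute g y → g ∈ Subgroup.normalizer (X : Set G) := by
        intro g hg
        refine Subgroup.mem_normalizer_fintype fun x hx => ?_
        have : g ∈ Subgroup.centralizer (X : Set G) := by
          rw [hX, Subgroup.centralizer_closure]
          refine Subgroup.mem_centralizer_iff.mpr ?_
          rintro w (rfl | hw)
          · exact hg.symm.eq
          · exact (mem_center_iff'.mp hw g).symm.eq
        rw [← Subgroup.mem_centralizer_iff.mp this x hx, mul_inv_cancel_right]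
        exact hx
      have hyu : ¬ Commute u y := fun h => hyc (hπ1.mp (hfix y hy h.symm))
      have huX : u ∈ Subgroup.normalizer (X : Set G) := by
        refine Subgroup.mem_normalizer_fintype fun x hx => ?_
        obtain ⟨z, hz, e⟩ := hπeq (show π (u * y * u⁻¹) = π y⁻¹ by
          rw [map_mul, map_mul, map_inv, map_inv]; exact hinv _ (Subgroup.mem_map_of_mem π hy))
        refine (show X.map (MulAut.conj u).toMonoidHom ≤ X from ?_) (Subgroup.mem_map_of_mem _ hx)
        rw [hX, MonoidHom.map_closure, Subgroup.closure_le]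
        rintro _ ⟨w, hw, rfl⟩
        rcases hw with rfl | hw
        · show u * w * u⁻¹ ∈ X
          rw [e]
          exact mul_mem (inv_mem hyX) (Subgroup.subset_closure (Or.inr hz))
        · show u * w * u⁻¹ ∈ X
          rw [(mem_center_iff'.mp hw u).eq, mul_inv_cancel_right]
          exact Subgroup.subset_closure (Or.inr hw)
      have hcomm : ∀ a b : G, Commute a y → Commute b y → Commute a b := fun a b ha hb =>
        commute_of_mem hsub hNne (hcX y (Commute.refl y)) huX hyu (hcX a ha) (hcX b hb) ha hb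
      have hvt : Commute v t := hcomm v t hvy (hOt y hy).symm
      obtain ⟨o, ho, s, hs, rfl⟩ := hdec v hvt
      have hoy : Commute (π o) (π y) := hObcomm _ (Subgroup.mem_map_of_mem π ho) _ (Subgroup.mem_map_of_mem π hy)
      have hsy : π s * π y * (π s)⁻¹ = π y := by
        have h := (hvy.map π).eq
        rw [map_mul, mul_assoc] at h
        have h2 : π o * (π s * π y) = π o * (π y * π s) := by
          rw [h, ← mul_assoc, ← mul_assoc, hoy.eq]
        rw [mul_left_cancel h2, mul_inv_cancel_right]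
      have hst : s = 1 ∨ s = t := by
        rcases hS s hs with e | e | e | e
        · exact Or.inl e
        · exact Or.inr e
        · exfalso
          rw [e, hinv _ (Subgroup.mem_map_of_mem π hy)] at hsy
          exact hyc (hπ1.mp (hnotfix _ (Subgroup.mem_map_of_mem π hy) hsy.symm))
        · exfalso
          rw [e, hTU _ (Subgroup.mem_map_of_mem π hy)] at hsy
          exact hyc (hπ1.mp (hnotfix _ (Subgroup.mem_map_of_mem π hy) hsy.symm))
      have hos : Commute o s := by
        rcases hst with e | e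
        · rw [e]; exact Commute.one_right o
        · rw [e]; exact hOt o ho
      rw [hos.mul_pow, hsq s hs, mul_one] at hv2
      have ho1 : o = 1 := orderOf_eq_one_iff.mp (Nat.eq_one_of_dvd_coprimes (Nat.coprime_two_left.mpr hodd)
        (orderOf_dvd_of_pow_eq_one hv2) (Subgroup.orderOf_dvd_natCard O ho))
      rcases hst with e | e
      · exact absurd (by rw [ho1, e, one_mul]) hv1
      · rw [ho1, e, one_mul]
    obtain ⟨⟨y, hy⟩, hy1⟩ := Subgroup.ne_bot_iff_exists_ne_one.mp hY1
    obtain ⟨o, ho, rfl⟩ := hY hy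
    have hoc : o ∉ Subgroup.center G := fun h => hy1 (Subtype.ext (hπ1.mpr h))
    obtain ⟨g, rfl⟩ := QuotientGroup.mk'_surjective (Subgroup.center G) c
    obtain ⟨o', ho', e⟩ := hY ((Subgroup.mem_normalizer_iff.mp hc (π o)).mp hy)
    rw [← map_inv, ← map_mul, ← map_mul] at e
    obtain ⟨z, hz, e'⟩ := hπeq e.symm
    -- `g o g⁻¹ = o' z`
    have hv : g⁻¹ * t * g = t := by
      refine hkey o ho hoc _ ?_ ?_ ?_
      · rw [pow_two, show g⁻¹ * t * g * (g⁻¹ * t * g) = g⁻¹ * (t * t) * g by group, ← pow_two, ht2]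
        group
      · intro h
        apply ht1
        have := congrArg (fun v => g * v * g⁻¹) h
        simpa [mul_assoc] using this
      · have h1 : Commute t (g * o * g⁻¹) :=
          e'.symm ▸ ((hOt o' ho').symm.mul_right (mem_center_iff'.mp hz t))
        have h2 := h1.map (MulAut.conj g⁻¹).toMonoidHom
        simpa [mul_assoc] using h2
    refine Subgroup.mem_centralizer_singleton_iff.mpr ?_
    have h3 : g * t = t * g := by
      calc g * t = g * (g⁻¹ * t * g) := by rw [hv]
        _ = t * g := by group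
    rw [← map_mul, ← map_mul, h3]

end Four

end CfsgLib.MinNonCA
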