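import Cfsg.Agent.Lib.MinNonCA.ElemCase
import Cfsg.Agent.Lib.Transfer.Focal
import Cfsg.Agent.Lib.Coprime.Generation
import Cfsg.Agent.S0949

/-!
An abelian Sylow 2-subgroup with a nonabelian involution centraliser is a four-group whose
normaliser permutes the three involutions cyclically (S4369, abelian branch).
-/

set_option autoImplicit false
set_option linter.style.haveILetI false
set_option linter.unusedSectionVars false

namespace CfsgLib.MinNonCA

open scoped commutatorElement

variable {G : Type*} [Group G] [Finite G]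

/-- The centraliser of an element is abelian. -/
def AbelianCent (a : G) : Prop := ∀ x y : G, Commute x a → Commute y a → Commute x y

section Burnside

variable (S : Sylow 2 G) (hab : ∀ x ∈ (S : Subgroup G), ∀ y ∈ (S : Subgroup G), Commute x y)
include hab

/-- A subgroup containing `S` whose elements normalising `S` centralise it is the product of a
normal subgroup of odd order and `S`. -/
theorem exists_complement {H : Subgroup G} (hSH : (S : Subgroup G) ≤ H)
    (h : ∀ n ∈ H, n ∈ Subgroup.normalizer ((S : Subgroup G) : Set G) →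
      ∀ s ∈ (S : Subgroup G), Commute n s) :
    ∃ O : Subgroup G, O ≤ H ∧ Odd (Nat.card O) ∧ (∀ x ∈ H, ∀ o ∈ O, x * o * x⁻¹ ∈ O) ∧
      ∀ x ∈ H, ∃ o ∈ O, ∃ s ∈ (S : Subgroup G), x = o * s := by
  haveI : Fact (Nat.Prime 2) := ⟨Nat.prime_two⟩
  set P := S.subtype hSH with hP
  have hmemP : ∀ {v : H}, v ∈ (P : Subgroup H) ↔ (v : G) ∈ (S : Subgroup G) := fun {v} => Iff.rfl
  have hN : Subgroup.normalizer ((P : Subgroup H) : Set H) ≤ Subgroup.centralizer ((P : Subgroup H) : Set H) := by
    intro n hn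
    have hnS : (n : G) ∈ Subgroup.normalizer ((S : Subgroup G) : Set G) :=
      Subgroup.mem_normalizer_fintype fun s hs =>
        hmemP.mp ((Subgroup.mem_normalizer_iff.mp hn ⟨s, hSH hs⟩).mp (hmemP.mpr hs))
    refine Subgroup.mem_centralizer_iff.mpr fun v hv => Subtype.ext ?_
    exact (h n n.2 hnS v (hmemP.mp hv)).symm.eq
  obtain ⟨K, hKn, hKodd, hKsup⟩ : ∃ K : Subgroup H, K.Normal ∧ Odd (Nat.card K) ∧ K ⊔ (P : Subgroup H) = ⊤ :=
    ⟨(MonoidHom.transferSylow P hN).ker, MonoidHom.normal_ker _,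
      Nat.not_even_iff_odd.mp fun he =>
        MonoidHom.not_dvd_card_ker_transferSylow P hN (even_iff_two_dvd.mp he),
      (MonoidHom.ker_transferSylow_isComplement' P hN).sup_eq_top⟩
  refine ⟨K.map H.subtype, Subgroup.map_subtype_le _, ?_, ?_, fun x hx => ?_⟩
  · rwa [Subgroup.card_map_of_injective H.subtype_injective]
  · rintro x hx _ ⟨o, ho, rfl⟩
    exact ⟨⟨x, hx⟩ * o * (⟨x, hx⟩ : H)⁻¹, hKn.conj_mem o ho _, rfl⟩
  · obtain ⟨o, ho, s, hs, hos⟩ := Subgroup.mem_sup_of_normal_left.mp
      (show (⟨x, hx⟩ : H) ∈ K ⊔ (P : Subgroup H) from hKsup.symm ▸ Subgroup.mem_top _)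
    exact ⟨o, Subgroup.mem_map_of_mem _ ho, s, hmemP.mp hs, (congrArg Subtype.val hos).symm⟩

/-- In a perfect group no nontrivial element of an abelian Sylow subgroup is fixed by its
normaliser. -/
theorem exists_normalizer_moving (hperf : commutator G = ⊤) {x : G} (hx : x ∈ (S : Subgroup G))
    (hx1 : x ≠ 1) : ∃ n ∈ Subgroup.normalizer ((S : Subgroup G) : Set G), ¬ Commute n x := by
  haveI : Fact (Nat.Prime 2) := ⟨Nat.prime_two⟩
  by_contra hno
  push Not at hno
  letI : CommGroup (S : Subgroup G) :=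
    { (inferInstance : Group (S : Subgroup G)) with mul_comm := fun a b => Subtype.ext (hab a a.2 b b.2).eq }
  obtain ⟨j, hj⟩ := IsPGroup.iff_orderOf.mp S.isPGroup' ⟨x, hx⟩
  rw [Subgroup.orderOf_mk] at hj
  refine CfsgLib.Transfer.notMem_commutator_of_controlled (MonoidHom.id (S : Subgroup G)) hx
    ⟨j, by rw [← hj, pow_orderOf_eq_one]⟩ (fun h => hx1 (congrArg Subtype.val h))
    (Nat.prime_two.coprime_iff_not_dvd.mpr S.not_dvd_index) ?_ (hperf ▸ Subgroup.mem_top x)
  intro k a h
  refine Subtype.ext ?_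
  show a⁻¹ * x ^ k * a = x ^ k
  obtain ⟨n, hn, e⟩ := CfsgLib.Transfer.exists_normalizer_conj_of_isMulCommutative S
    ⟨⟨fun a b => Subtype.ext (hab a a.2 b b.2).eq⟩⟩ (pow_mem hx k) a⁻¹ (by rwa [inv_inv])
  rw [inv_inv] at e
  rw [← e, ((hno n hn).pow_right k).eq, mul_inv_cancel_right]

theorem center_inf_eq_one (hperf : commutator G = ⊤) {x : G} (hx : x ∈ (S : Subgroup G))
    (hc : x ∈ Subgroup.center G) : x = 1 := by
  by_contra h
  obtain ⟨n, -, hn⟩ := exists_normalizer_moving S hab hperf hx h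
  exact hn (mem_center_iff'.mp hc n)

omit hab in
theorem mem_of_commute_all {x : G} (h : ∀ s ∈ (S : Subgroup G), Commute x s) {j : ℕ} (hj : x ^ 2 ^ j = 1) :
    x ∈ (S : Subgroup G) := by
  haveI : Fact (Nat.Prime 2) := ⟨Nat.prime_two⟩
  have hp : IsPGroup 2 (Subgroup.zpowers x) := by
    rintro ⟨_, i, rfl⟩
    exact ⟨j, Subtype.ext (by
      rw [Subgroup.coe_pow, ← zpow_natCast, ← zpow_mul, mul_comm, zpow_mul, zpow_natCast, hj, one_zpow,
        Subgroup.coe_one])⟩
  have hn : Subgroup.zpowers x ≤ Subgroup.normalizer ((S : Subgroup G) : Set G) := Subgroup.zpowers_le.mpr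
    (Subgroup.mem_normalizer_fintype fun s hs => by rw [(h s hs).eq, mul_inv_cancel_right]; exact hs)
  have he := S.is_maximal' (hp.to_sup_of_normal_right' S.isPGroup' hn) le_sup_right
  exact he ▸ Subgroup.mem_sup_left (Subgroup.mem_zpowers x)

end Burnside

variable (hsimp : IsSimpleGroup (G ⧸ Subgroup.center G)) (hperf : commutator G = ⊤)
variable (hsub : ∀ H : Subgroup G, H ≠ ⊤ →
  ∀ x : H, x ∉ Subgroup.center H → IsMulCommutative (Subgroup.centralizer ({x} : Set H)))
variable (S : Sylow 2 G) (hab : ∀ x ∈ (S : Subgroup G), ∀ y ∈ (S : Subgroup G), Commute x y)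

include hsimp hperf in
/-- A subgroup normalising a noncentral proper subgroup is proper. -/
theorem normalizer_ne_top {X : Subgroup G} (hX : X ≠ ⊤) {x : G} (hxX : x ∈ X)
    (hx : x ∉ Subgroup.center G) : Subgroup.normalizer (X : Set G) ≠ ⊤ := by
  intro h
  haveI := Subgroup.normalizer_eq_top_iff.mp h
  haveI := hsimp
  have hn : (X.map (QuotientGroup.mk' (Subgroup.center G))).Normal :=
    Subgroup.Normal.map inferInstance _ (QuotientGroup.mk'_surjective _)
  rcases hn.eq_bot_or_eq_top with e | e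
  · have := Subgroup.mem_map_of_mem (QuotientGroup.mk' (Subgroup.center G)) hxX
    rw [e, Subgroup.mem_bot] at this
    exact hx ((QuotientGroup.eq_one_iff x).mp this)
  · refine hX (top_le_iff.mp (hperf.symm.le.trans ?_))
    rw [commutator_eq_closure, Subgroup.closure_le]
    rintro v ⟨a, b, rfl⟩
    obtain ⟨a', ha', ea⟩ : QuotientGroup.mk' (Subgroup.center G) a ∈ X.map (QuotientGroup.mk' (Subgroup.center G)) :=
      e ▸ Subgroup.mem_top _
    obtain ⟨b', hb', eb⟩ : QuotientGroup.mk' (Subgroup.center G) b ∈ X.map (QuotientGroup.mk' (Subgroup.center G)) :=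
      e ▸ Subgroup.mem_top _
    have hza : a'⁻¹ * a ∈ Subgroup.center G := QuotientGroup.eq.mp ea
    have hzb : b'⁻¹ * b ∈ Subgroup.center G := QuotientGroup.eq.mp eb
    have hval : a * b * a⁻¹ * b⁻¹ = a' * b' * a'⁻¹ * b'⁻¹ := by
      set za := a'⁻¹ * a with hza'
      set zb := b'⁻¹ * b with hzb'
      have e1 : a = a' * za := by rw [hza']; group
      have e2 : b = b' * zb := by rw [hzb']; group
      clear_value za zb
      rw [e1, e2]
      calc a' * za * (b' * zb) * (a' * za)⁻¹ * (b' * zb)⁻¹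
          = a' * (za * (b' * zb)) * za⁻¹ * a'⁻¹ * zb⁻¹ * b'⁻¹ := by group
        _ = a' * b' * (zb * a'⁻¹) * zb⁻¹ * b'⁻¹ := by
            rw [← (mem_center_iff'.mp hza (b' * zb)).eq]; group
        _ = _ := by rw [← (mem_center_iff'.mp hzb a'⁻¹).eq]; group
    rw [SetLike.mem_coe, commutatorElement_def, hval]
    exact mul_mem (mul_mem (mul_mem ha' hb') (inv_mem ha')) (inv_mem hb')

include hperf hab in
theorem not_mem_center {x : G} (hx : x ∈ (S : Subgroup G)) (h1 : x ≠ 1) : x ∉ Subgroup.center G :=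
  fun h => h1 (center_inf_eq_one S hab hperf hx h)

include hsimp hperf hsub hab in
/-- `N(S)` acts semiregularly on the nontrivial elements of `S`. -/
theorem semiregular {x n : G} (hx : x ∈ (S : Subgroup G)) (hx1 : x ≠ 1)
    (hn : n ∈ Subgroup.normalizer ((S : Subgroup G) : Set G)) (hc : Commute n x) :
    ∀ s ∈ (S : Subgroup G), Commute n s := by
  intro s hs
  obtain ⟨m, hm, hmx⟩ := exists_normalizer_moving S hab hperf hx hx1
  have hStop : (S : Subgroup G) ≠ ⊤ := fun h =>
    modCent_ne_top hsimp hperf (not_mem_center hperf S hab hx hx1)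
      (top_le_iff.mp fun g _ => centralizer_le_modCent x (Subgroup.mem_centralizer_singleton_iff.mpr
        (hab g (h ▸ Subgroup.mem_top g) x hx).eq))
  exact commute_of_mem hsub
    (normalizer_ne_top hsimp hperf hStop hx (not_mem_center hperf S hab hx hx1))
    (Subgroup.le_normalizer hx) hm hmx hn (Subgroup.le_normalizer hs) hc (hab s hs x hx)

section Four

variable {t : G} (htS : t ∈ (S : Subgroup G)) (ht1 : t ≠ 1) (htna : ¬ AbelianCent t)

include hsimp hperf hsub hab htS ht1 htna

theorem centralizer_ne_top : Subgroup.centralizer ({t} : Set G) ≠ ⊤ := fun h =>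
  not_mem_center hperf S hab htS ht1 (mem_center_iff'.mpr fun g =>
    Subgroup.mem_centralizer_singleton_iff.mp (h ▸ Subgroup.mem_top g))

/-- A noncentral element centralising `C(t)` has the same centraliser. -/
theorem centralizer_eq_of_central {x : G} (hxc : x ∉ Subgroup.center G)
    (hxM : ∀ y : G, Commute y t → Commute y x) : ∀ y : G, Commute y x → Commute y t := by
  intro y hy
  have hne : Subgroup.centralizer ({x} : Set G) ≠ ⊤ := fun h => hxc (mem_center_iff'.mpr fun g =>
    Subgroup.mem_centralizer_singleton_iff.mp (h ▸ Subgroup.mem_top g))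
  have hmem : ∀ {g : G}, Commute g x → g ∈ Subgroup.centralizer ({x} : Set G) := fun h =>
    Subgroup.mem_centralizer_singleton_iff.mpr h.eq
  by_contra hyt
  exact htna fun a b ha hb => commute_of_mem hsub hne (hmem (hxM t (Commute.refl t))) (hmem hy) hyt
    (hmem (hxM a ha)) (hmem (hxM b hb)) ha hb

/-- Some element of `S` does not centralise `C(t)`. -/
theorem exists_not_central : ∃ s ∈ (S : Subgroup G), ∃ m : G, Commute m t ∧ ¬ Commute m s := by
  by_contra hno
  push Not at hno
  obtain ⟨n, hn, hnt⟩ := exists_normalizer_moving S hab hperf htS ht1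
  refine hnt ?_
  set s := n * t * n⁻¹ with hs
  have hsS : s ∈ (S : Subgroup G) := (Subgroup.mem_normalizer_iff.mp hn t).mp htS
  have hs1 : s ≠ 1 := fun h => ht1 (conj_eq_one_iff.mp h)
  have hle : ∀ y : G, Commute y s → Commute y t :=
    centralizer_eq_of_central hsimp hperf hsub S hab htS ht1 htna (not_mem_center hperf S hab hsS hs1)
      fun y hy => hno s hsS y hy
  -- conjugation by `n` preserves `C(t)`, hence fixes all elements of `S`
  have hiff : ∀ y : G, Commute y t ↔ Commute (n * y * n⁻¹) t := fun y => by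
    constructor
    · exact fun hy => hle _ (hy.map (MulAut.conj n).toMonoidHom)
    · intro hy
      have h1 := hno s hsS _ hy
      have h2 := h1.map (MulAut.conj n⁻¹).toMonoidHom
      simpa [hs, mul_assoc] using h2
  by_contra hne
  set M := Subgroup.centralizer ({t} : Set G) with hMdef
  have hmemM : ∀ {g : G}, g ∈ M ↔ Commute g t := Subgroup.mem_centralizer_singleton_iff
  have hnN : n ∈ Subgroup.normalizer (M : Set G) := Subgroup.mem_normalizer_fintype fun y hy =>
    hmemM.mpr ((hiff y).mp (hmemM.mp hy))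
  have hNne := normalizer_ne_top hsimp hperf (centralizer_ne_top hsimp hperf hsub S hab htS ht1 htna)
    (hmemM.mpr (Commute.refl t)) (not_mem_center hperf S hab htS ht1)
  refine htna fun a b ha hb => ?_
  exact commute_of_mem hsub hNne (Subgroup.le_normalizer (hmemM.mpr (Commute.refl t))) hnN hne
    (Subgroup.le_normalizer (hmemM.mpr ha)) (Subgroup.le_normalizer (hmemM.mpr hb)) ha hb

/-- The centraliser of `S` is abelian. -/
theorem abelian_centralizer_sylow {x y : G} (hx : ∀ s ∈ (S : Subgroup G), Commute x s)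
    (hy : ∀ s ∈ (S : Subgroup G), Commute y s) : Commute x y := by
  obtain ⟨s, hs, m, hm, hms⟩ := exists_not_central hsimp hperf hsub S hab htS ht1 htna
  exact commute_of_mem hsub (centralizer_ne_top hsimp hperf hsub S hab htS ht1 htna)
    (Subgroup.mem_centralizer_singleton_iff.mpr (hab s hs t htS).eq)
    (Subgroup.mem_centralizer_singleton_iff.mpr hm.eq) hms
    (Subgroup.mem_centralizer_singleton_iff.mpr (hx t htS).eq)
    (Subgroup.mem_centralizer_singleton_iff.mpr (hy t htS).eq) (hx s hs) (hy s hs)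

/-- `C(t)` is an odd normal subgroup extended by `S`. -/
theorem exists_core : ∃ O : Subgroup G, Odd (Nat.card O) ∧ (∀ o ∈ O, Commute o t) ∧
    (∀ x, Commute x t → ∀ o ∈ O, x * o * x⁻¹ ∈ O) ∧
    ∀ x, Commute x t → ∃ o ∈ O, ∃ s ∈ (S : Subgroup G), x = o * s := by
  obtain ⟨O, hO, hodd, hnorm, hdec⟩ := exists_complement S hab
    (H := Subgroup.centralizer ({t} : Set G))
    (fun s hs => Subgroup.mem_centralizer_singleton_iff.mpr (hab s hs t htS).eq)
    (fun n hn hnN => semiregular hsimp hperf hsub S hab htS ht1 hnN (Subgroup.mem_centralizer_singleton_iff.mp hn))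
  exact ⟨O, hodd, fun o ho => Subgroup.mem_centralizer_singleton_iff.mp (hO ho),
    fun x hx => hnorm x (Subgroup.mem_centralizer_singleton_iff.mpr hx.eq),
    fun x hx => hdec x (Subgroup.mem_centralizer_singleton_iff.mpr hx.eq)⟩

/-- Two distinct commuting involutions of `S`: one of the three centralises `C(t)`. -/
theorem four_meets_center {e f : G} (he : e ∈ (S : Subgroup G)) (hf : f ∈ (S : Subgroup G))
    (he2 : e ^ 2 = 1) (hf2 : f ^ 2 = 1) (he1 : e ≠ 1) (hf1 : f ≠ 1) (hef : e ≠ f) :
    ∃ g ∈ ({e, f, e * f} : Set G), ∀ y : G, Commute y t → Commute y g := by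
  classical
  haveI : Fact (Nat.Prime 2) := ⟨Nat.prime_two⟩
  by_contra hno
  push Not at hno
  obtain ⟨O, hodd, hOt, hnorm, hdec⟩ := exists_core hsimp hperf hsub S hab htS ht1 htna
  have hMne := centralizer_ne_top hsimp hperf hsub S hab htS ht1 htna
  have hmem : ∀ {g : G}, Commute g t → g ∈ Subgroup.centralizer ({t} : Set G) := fun h =>
    Subgroup.mem_centralizer_singleton_iff.mpr h.eq
  let E : Subgroup G :=
    { carrier := {g | g = 1 ∨ g = e ∨ g = f ∨ g = e * f}
      one_mem' := Or.inl rfl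
      mul_mem' := by
        have hc : f * e = e * f := (hab f hf e he).eq
        have he' : e * e = 1 := by rw [← pow_two, he2]
        have hf' : f * f = 1 := by rw [← pow_two, hf2]
        have a1 : e * (e * f) = f := by rw [← mul_assoc, he', one_mul]
        have a2 : e * f * e = f := by rw [mul_assoc, hc, a1]
        have a3 : e * f * f = e := by rw [mul_assoc, hf', mul_one]
        have a4 : f * (e * f) = e := by rw [← mul_assoc, hc, a3]
        have a5 : e * f * (e * f) = 1 := by rw [← mul_assoc, a2, hf']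
        rintro a b (rfl | rfl | rfl | rfl) (rfl | rfl | rfl | rfl) <;>
          simp only [Set.mem_ofPred_eq, one_mul, mul_one, hc, he', hf', a1, a2, a3, a4, a5] <;> simp
      inv_mem' := by
        rintro a (rfl | rfl | rfl | rfl)
        · simp
        · exact Or.inr (Or.inl (inv_eq_of_mul_eq_one_right (by rw [← pow_two, he2])))
        · exact Or.inr (Or.inr (Or.inl (inv_eq_of_mul_eq_one_right (by rw [← pow_two, hf2]))))
        · refine Or.inr (Or.inr (Or.inr (inv_eq_of_mul_eq_one_right ?_)))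
          rw [← pow_two, (hab e he f hf).mul_pow, he2, hf2, one_mul] }
  have hES : ∀ g ∈ E, g ∈ (S : Subgroup G) := by
    rintro g (rfl | rfl | rfl | rfl) <;> first | exact one_mem _ | assumption | exact mul_mem he hf
  haveI : IsMulCommutative E := ⟨⟨fun a b => Subtype.ext (hab a (hES a a.2) b (hES b b.2)).eq⟩⟩
  have hEnc : ¬ IsCyclic E := by
    intro h
    haveI := h
    refine hef (congrArg Subtype.val (CfsgLib.Transfer.eq_of_sq_eq_one_of_isCyclic
      (⟨e, Or.inr (Or.inl rfl)⟩ : E) ⟨f, Or.inr (Or.inr (Or.inl rfl))⟩ (Subtype.ext ?_) (Subtype.ext ?_)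
      (fun h => he1 (congrArg Subtype.val h)) (fun h => hf1 (congrArg Subtype.val h))))
    · show e * e = 1; rw [← pow_two, he2]
    · show f * f = 1; rw [← pow_two, hf2]
  have hEn : E ≤ Subgroup.normalizer (O : Set G) := fun g hg =>
    Subgroup.mem_normalizer_fintype fun o ho => hnorm g (hab g (hES g hg) t htS) o ho
  have hcop : (Nat.card E).Coprime (Nat.card O) := by
    obtain ⟨k, hk⟩ := (S.isPGroup'.to_le (show E ≤ (S : Subgroup G) from hES)).exists_card_eq
    rw [hk]
    exact Nat.Coprime.pow_left k (Nat.coprime_two_left.mpr hodd)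
  have hOC : O ≤ Subgroup.centralizer ((S : Subgroup G) : Set G) := by
    refine CfsgLib.Coprime.le_of_centralizer_le hEnc hEn hcop fun g hg hg1 o ho => ?_
    obtain ⟨y, hyt, hyg⟩ := hno g (by
      rcases hg with h | h | h | h
      · exact absurd h hg1
      · exact Or.inl h
      · exact Or.inr (Or.inl h)
      · exact Or.inr (Or.inr h))
    refine Subgroup.mem_centralizer_iff.mpr fun s hs => ?_
    exact (commute_of_mem hsub hMne (hmem (hab g (hES g hg) t htS)) (hmem hyt) hyg
      (hmem (hab s hs t htS)) (hmem (hOt o ho.1)) (hab s hs g (hES g hg))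
      (Subgroup.mem_centralizer_singleton_iff.mp ho.2)).eq
  refine htna fun a b ha hb => ?_
  have hall : ∀ x, Commute x t → ∀ s ∈ (S : Subgroup G), Commute x s := fun x hx s hs => by
    obtain ⟨o, ho, s', hs', rfl⟩ := hdec x hx
    have hso : Commute s o := Subgroup.mem_centralizer_iff.mp (hOC ho) s hs
    exact hso.symm.mul_left (hab s' hs' s hs)
  exact abelian_centralizer_sylow hsimp hperf hsub S hab htS ht1 htna (hall a ha) (hall b hb)

/-- No element of `N(S)` outside `C(S)` sends a nontrivial element centralising `C(t)` to another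
such element. -/
theorem not_both_central {n v : G} (hn : n ∈ Subgroup.normalizer ((S : Subgroup G) : Set G))
    (hnS : ¬ ∀ s ∈ (S : Subgroup G), Commute n s) (hv : v ∈ (S : Subgroup G)) (hv1 : v ≠ 1)
    (hvM : ∀ y : G, Commute y t → Commute y v) :
    ¬ ∀ y : G, Commute y t → Commute y (n * v * n⁻¹) := by
  intro h
  apply hnS
  have hMne := centralizer_ne_top hsimp hperf hsub S hab htS ht1 htna
  have hwS : n * v * n⁻¹ ∈ (S : Subgroup G) := (Subgroup.mem_normalizer_iff.mp hn v).mp hv
  have hw1 : n * v * n⁻¹ ≠ 1 := fun e => hv1 (conj_eq_one_iff.mp e)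
  have hCv := centralizer_eq_of_central hsimp hperf hsub S hab htS ht1 htna (not_mem_center hperf S hab hv hv1) hvM
  have hCw := centralizer_eq_of_central hsimp hperf hsub S hab htS ht1 htna (not_mem_center hperf S hab hwS hw1) h
  set M := Subgroup.centralizer ({t} : Set G) with hMdef
  have hmemM : ∀ {g : G}, g ∈ M ↔ Commute g t := Subgroup.mem_centralizer_singleton_iff
  have hnN : n ∈ Subgroup.normalizer (M : Set G) := Subgroup.mem_normalizer_fintype fun y hy =>
    hmemM.mpr (hCw _ ((hvM y (hmemM.mp hy)).map (MulAut.conj n).toMonoidHom))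
  have hNne := normalizer_ne_top hsimp hperf hMne (hmemM.mpr (Commute.refl t)) (not_mem_center hperf S hab htS ht1)
  refine semiregular hsimp hperf hsub S hab htS ht1 hn ?_
  by_contra hne
  refine htna fun a b ha hb => ?_
  exact commute_of_mem hsub hNne (Subgroup.le_normalizer (hmemM.mpr (Commute.refl t))) hnN hne
    (Subgroup.le_normalizer (hmemM.mpr ha)) (Subgroup.le_normalizer (hmemM.mpr hb)) ha hb

/-- There are three involutions in `S` and an element of `N(S)` permutes them without fixed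
point. -/
theorem exists_cycle : ∃ n ∈ Subgroup.normalizer ((S : Subgroup G) : Set G),
    (∀ s ∈ (S : Subgroup G), s ≠ 1 → n * s * n⁻¹ ≠ s) ∧
    ∃ v ∈ (S : Subgroup G), v ^ 2 = 1 ∧ v ≠ 1 ∧ (∀ y : G, Commute y t → Commute y v) ∧
      n * (n * v * n⁻¹) * n⁻¹ = v * (n * v * n⁻¹) ∧
      ∀ s ∈ (S : Subgroup G), s ^ 2 = 1 → s = 1 ∨ s = v ∨ s = n * v * n⁻¹ ∨ s = v * (n * v * n⁻¹) := by
  classical
  haveI : Fact (Nat.Prime 2) := ⟨Nat.prime_two⟩
  obtain ⟨n, hn, hnt⟩ := exists_normalizer_moving S hab hperf htS ht1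
  have hnS : ¬ ∀ s ∈ (S : Subgroup G), Commute n s := fun h => hnt (h t htS)
  have hmove : ∀ s ∈ (S : Subgroup G), s ≠ 1 → n * s * n⁻¹ ≠ s := fun s hs hs1 h =>
    hnS (semiregular hsimp hperf hsub S hab hs hs1 hn (mul_inv_eq_iff_eq_mul.mp h))
  -- an involution centralising `C(t)`
  obtain ⟨j, hj⟩ := IsPGroup.iff_orderOf.mp S.isPGroup' ⟨t, htS⟩
  rw [Subgroup.orderOf_mk] at hj
  have hj0 : j ≠ 0 := fun h => ht1 (orderOf_eq_one_iff.mp (by rw [hj, h, pow_zero]))
  set v := t ^ 2 ^ (j - 1) with hv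
  have hv2 : v ^ 2 = 1 := by
    rw [hv, ← pow_mul, ← pow_succ, Nat.sub_add_cancel (Nat.pos_of_ne_zero hj0), ← hj, pow_orderOf_eq_one]
  have hv1 : v ≠ 1 := pow_ne_one_of_lt_orderOf (by positivity) (by
    rw [hj]; exact Nat.pow_lt_pow_right one_lt_two (by omega))
  have hvS : v ∈ (S : Subgroup G) := pow_mem htS _
  have hvM : ∀ y : G, Commute y t → Commute y v := fun y hy => hy.pow_right _
  have hwS : n * v * n⁻¹ ∈ (S : Subgroup G) := (Subgroup.mem_normalizer_iff.mp hn v).mp hvS
  set w := n * v * n⁻¹ with hw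
  have hw2 : w ^ 2 = 1 := by rw [hw, conj_pow, hv2, mul_one, mul_inv_cancel]
  have hw1 : w ≠ 1 := fun h => hv1 (conj_eq_one_iff.mp h)
  have hwM : ¬ ∀ y : G, Commute y t → Commute y w :=
    not_both_central hsimp hperf hsub S hab htS ht1 htna hn hnS hvS hv1 hvM
  have hvw : v ≠ w := fun h => hwM (h ▸ hvM)
  have hvu : ∀ {a : G}, a * a = 1 → a⁻¹ = a := fun h => inv_eq_of_mul_eq_one_right h
  -- the involutions centralising `C(t)` are only `v`
  have honly : ∀ a ∈ (S : Subgroup G), a ^ 2 = 1 → a ≠ 1 → (∀ y : G, Commute y t → Commute y a) → a = v := by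
    intro a ha ha2 ha1 haM
    by_contra hav
    have hcase : ∀ g ∈ ({v, a, v * a} : Set G), (∀ y : G, Commute y t → Commute y g) ∧ g ≠ 1 ∧ g ∈ (S : Subgroup G) := by
      rintro g (rfl | rfl | rfl)
      · exact ⟨hvM, hv1, hvS⟩
      · exact ⟨haM, ha1, ha⟩
      · refine ⟨fun y hy => (hvM y hy).mul_right (haM y hy), fun h => hav ?_, mul_mem hvS ha⟩
        rw [← hvu (by rw [← pow_two, hv2] : v * v = 1)] at h
        exact (inv_mul_eq_one.mp h).symm
    have hconj : ∀ g ∈ ({v, a, v * a} : Set G), ¬ ∀ y : G, Commute y t → Commute y (n * g * n⁻¹) := fun g hg =>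
      not_both_central hsimp hperf hsub S hab htS ht1 htna hn hnS (hcase g hg).2.2 (hcase g hg).2.1 (hcase g hg).1
    obtain ⟨g, hg, hgM⟩ := four_meets_center hsimp hperf hsub S hab htS ht1 htna hwS
      ((Subgroup.mem_normalizer_iff.mp hn a).mp ha) hw2 (by rw [conj_pow, ha2, mul_one, mul_inv_cancel])
      hw1 (fun h => ha1 (conj_eq_one_iff.mp h))
      (fun h => hav (mul_left_cancel (mul_right_cancel h)).symm)
    rcases hg with rfl | rfl | rfl
    · exact hconj v (Or.inl rfl) hgM
    · exact hconj a (Or.inr (Or.inl rfl)) hgM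
    · refine hconj (v * a) (Or.inr (Or.inr rfl)) ?_
      rwa [show n * (v * a) * n⁻¹ = w * (n * a * n⁻¹) by rw [hw]; group]
  have hall : ∀ s ∈ (S : Subgroup G), s ^ 2 = 1 → s = 1 ∨ s = v ∨ s = w ∨ s = v * w := by
    intro s hs hs2
    by_cases h1 : s = 1
    · exact Or.inl h1
    by_cases h2 : s = w
    · exact Or.inr (Or.inr (Or.inl h2))
    obtain ⟨g, hg, hgM⟩ := four_meets_center hsimp hperf hsub S hab htS ht1 htna hwS hs hw2 hs2 hw1 h1 (Ne.symm h2)
    rcases hg with h | h | h
    · exact absurd (h ▸ hgM) hwM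
    · exact Or.inr (Or.inl (honly s hs hs2 h1 (h ▸ hgM)))
    · rw [Set.mem_singleton_iff.mp h] at hgM
      have h := honly (w * s) (mul_mem hwS hs) (by rw [(hab w hwS s hs).mul_pow, hw2, hs2, one_mul])
        (fun h => h2 (by rw [← hvu (by rw [← pow_two, hw2] : w * w = 1)] at h; exact (inv_mul_eq_one.mp h).symm)) hgM
      refine Or.inr (Or.inr (Or.inr ?_))
      rw [(hab v hvS w hwS).eq, ← h, ← mul_assoc, ← pow_two, hw2, one_mul]
  refine ⟨n, hn, hmove, v, hvS, hv2, hv1, hvM, ?_, hall⟩
  have hu : n * w * n⁻¹ ∈ (S : Subgroup G) := (Subgroup.mem_normalizer_iff.mp hn w).mp hwS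
  rcases hall _ hu (by rw [conj_pow, hw2, mul_one, mul_inv_cancel]) with h | h | h | h
  · exact absurd (conj_eq_one_iff.mp h) hw1
  · exfalso
    have hvwS : v * w ∈ (S : Subgroup G) := mul_mem hvS hwS
    refine hmove _ hvwS (fun h' => hvw ?_) ?_
    · rw [← hvu (by rw [← pow_two, hw2] : w * w = 1)] at h'
      exact mul_inv_eq_one.mp h'
    · calc n * (v * w) * n⁻¹ = (n * v * n⁻¹) * (n * w * n⁻¹) := by group
        _ = v * w := by rw [h, ← hw, (hab v hvS w hwS).eq]
  · exact absurd h (hmove w hwS hw1)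
  · exact h

/-- `S` is a four-group and all its involutions have nonabelian centralisers. -/
theorem four_group : Nat.card (S : Subgroup G) = 4 ∧ (∀ s ∈ (S : Subgroup G), s ^ 2 = 1) ∧
    (∃ n ∈ Subgroup.normalizer ((S : Subgroup G) : Set G),
      ∀ s ∈ (S : Subgroup G), s ≠ 1 → n * s * n⁻¹ ≠ s) ∧
    (∀ s ∈ (S : Subgroup G), s ≠ 1 → ¬ AbelianCent s) ∧
    (Subgroup.centralizer ((S : Subgroup G) : Set G)).relIndex
      (Subgroup.normalizer ((S : Subgroup G) : Set G)) = 3 := by
  classical
  haveI : Fact (Nat.Prime 2) := ⟨Nat.prime_two⟩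
  obtain ⟨n, hn, hmove, v, hvS, hv2, hv1, hvM, hcyc, hall⟩ := exists_cycle hsimp hperf hsub S hab htS ht1 htna
  set w := n * v * n⁻¹ with hw
  have hwS : w ∈ (S : Subgroup G) := (Subgroup.mem_normalizer_iff.mp hn v).mp hvS
  have hw1 : w ≠ 1 := fun h => hv1 (conj_eq_one_iff.mp h)
  have hw2 : w ^ 2 = 1 := by rw [hw, conj_pow, hv2, mul_one, mul_inv_cancel]
  have hvw : v ≠ w := fun h => hmove v hvS hv1 h.symm
  have hvw1 : v * w ≠ 1 := fun h => hvw (by
    rw [← inv_eq_of_mul_eq_one_right (by rw [← pow_two, hw2] : w * w = 1)] at h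
    exact mul_inv_eq_one.mp h)
  have hoT : ∀ g : G, Commute g v → Commute g t :=
    centralizer_eq_of_central hsimp hperf hsub S hab htS ht1 htna (not_mem_center hperf S hab hvS hv1) hvM
  have hnaV : ¬ AbelianCent v := fun h => htna fun a b ha hb => h a b (hvM a ha) (hvM b hb)
  have hnaconj : ∀ g : G, ¬ AbelianCent g → ∀ m : G, ¬ AbelianCent (m * g * m⁻¹) := by
    intro g hg m h
    refine hg fun a b ha hb => ?_
    have := (h _ _ (ha.map (MulAut.conj m).toMonoidHom) (hb.map (MulAut.conj m).toMonoidHom)).map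
      (MulAut.conj m⁻¹).toMonoidHom
    simpa [mul_assoc] using this
  -- the squaring map
  have hsq : ∀ s ∈ (S : Subgroup G), s ^ 2 = 1 := by
    by_contra hbad
    push Not at hbad
    obtain ⟨s₀, hs₀, hs₀2⟩ := hbad
    obtain ⟨x, hxmax⟩ := Finite.exists_max (fun y : (S : Subgroup G) => orderOf y)
    obtain ⟨k, hk⟩ := IsPGroup.iff_orderOf.mp S.isPGroup' x
    have hk2 : 2 ≤ k := by
      by_contra h
      push Not at h
      apply hs₀2
      obtain ⟨i, hi⟩ := IsPGroup.iff_orderOf.mp S.isPGroup' ⟨s₀, hs₀⟩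
      have hle := hxmax ⟨s₀, hs₀⟩
      rw [hi, hk] at hle
      have hik : i ≤ k := (Nat.pow_le_pow_iff_right (show 1 < 2 by norm_num)).mp hle
      have : orderOf s₀ ∣ 2 := by
        rw [← Subgroup.orderOf_mk s₀ hs₀, hi]
        exact (pow_dvd_pow 2 (show i ≤ 1 by omega)).trans (by norm_num)
      exact orderOf_dvd_iff_pow_eq_one.mp this
    have hexp : ∀ y : (S : Subgroup G), y ^ 2 ^ k = 1 := fun y => by
      obtain ⟨i, hi⟩ := IsPGroup.iff_orderOf.mp S.isPGroup' y
      have hle := hxmax y
      rw [hi, hk] at hle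
      exact orderOf_dvd_iff_pow_eq_one.mp
        (hi ▸ pow_dvd_pow 2 ((Nat.pow_le_pow_iff_right (show 1 < 2 by norm_num)).mp hle))
    haveI : IsMulCommutative (S : Subgroup G) := ⟨⟨fun a b => Subtype.ext (hab a a.2 b b.2).eq⟩⟩
    letI : CommGroup (S : Subgroup G) :=
      { (inferInstance : Group (S : Subgroup G)) with mul_comm := fun a b => Subtype.ext (hab a a.2 b b.2).eq }
    -- at most `4 ^ i` elements of exponent `2 ^ i`
    have hcount : ∀ i : ℕ, Nat.card (powMonoidHom (2 ^ i) : (S : Subgroup G) →* _).ker ≤ 4 ^ i := by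
      intro i
      induction i with
      | zero =>
        rw [pow_zero, pow_zero]
        refine le_of_eq (Subgroup.card_eq_one.mpr ?_)
        ext y
        simp
      | succ i ih =>
        let φ : ↥((powMonoidHom (2 ^ (i + 1)) : (S : Subgroup G) →* _).ker) →*
            ↥((powMonoidHom (2 ^ i) : (S : Subgroup G) →* _).ker) :=
          MonoidHom.mk' (fun y => ⟨(y : (S : Subgroup G)) ^ 2, by
            rw [MonoidHom.mem_ker, powMonoidHom_apply, ← pow_mul, ← pow_succ']
            exact y.2⟩) fun a b => Subtype.ext (mul_pow _ _ _)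
        have h1 : Nat.card φ.ker ≤ 4 := by
          let f : Fin 4 → G := ![1, v, w, v * w]
          have hf : ∀ y : φ.ker, ∃ l, f l = ((y.1.1 : (S : Subgroup G)) : G) := by
            intro y
            have h := congrArg (fun z : ↥((powMonoidHom (2 ^ i) : (S : Subgroup G) →* _).ker) => ((z : (S : Subgroup G)) : G))
              (MonoidHom.mem_ker.mp y.2)
            rcases hall _ (y.1.1).2 ((Subgroup.coe_pow _ _ _).symm.trans h) with h | h | h | h
            exacts [⟨0, h.symm⟩, ⟨1, h.symm⟩, ⟨2, h.symm⟩, ⟨3, h.symm⟩]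
          choose ι hι using hf
          refine le_trans (Nat.card_le_card_of_injective ι fun a b h => Subtype.ext (Subtype.ext (Subtype.ext ?_))) (by rw [Nat.card_fin])
          rw [← hι a, ← hι b, h]
        have h2 := (Subgroup.card_le_card_group φ.range).trans ih
        calc Nat.card _ = Nat.card φ.ker * Nat.card φ.range := by
              rw [← Subgroup.index_ker, φ.ker.card_mul_index]
          _ ≤ 4 * 4 ^ i := Nat.mul_le_mul h1 h2
          _ = 4 ^ (i + 1) := (pow_succ' 4 i).symm
    have hk1 : k - 1 + 1 = k := by omega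
    let c : (S : Subgroup G) →* (S : Subgroup G) :=
      MonoidHom.mk' (fun y => ⟨n * y * n⁻¹, (Subgroup.mem_normalizer_iff.mp hn y).mp y.2⟩) fun a b =>
        Subtype.ext (by simp [mul_assoc])
    set y := c x with hy
    have hyk : y ^ 2 ^ k = 1 := hexp y
    let χ : Multiplicative (ZMod (2 ^ k) × ZMod (2 ^ k)) →* (S : Subgroup G) :=
      MonoidHom.mk' (fun z => x ^ (Multiplicative.toAdd z).1.val * y ^ (Multiplicative.toAdd z).2.val) fun a b => by
        haveI : NeZero (2 ^ k) := ⟨(pow_pos two_pos k).ne'⟩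
        simp only [toAdd_mul, Prod.fst_add, Prod.snd_add, ZMod.val_add]
        rw [← pow_eq_pow_mod _ (hexp x), ← pow_eq_pow_mod _ hyk, pow_add, pow_add, mul_mul_mul_comm]
    have hinj : Function.Injective χ := by
      haveI : NeZero (2 ^ k) := ⟨(pow_pos two_pos k).ne'⟩
      rw [injective_iff_map_eq_one]
      intro z hz
      by_contra hz1
      haveI : Fintype (Multiplicative (ZMod (2 ^ k) × ZMod (2 ^ k))) := Fintype.ofFinite _
      -- an involution in the kernel
      have hzp : IsPGroup 2 χ.ker := (IsPGroup.of_card (n := k + k) (p := 2) (by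
        rw [Nat.card_congr Multiplicative.toAdd, Nat.card_prod, Nat.card_zmod, pow_add])).to_subgroup _
      haveI : Nontrivial χ.ker := ⟨⟨⟨z, hz⟩, 1, fun h => hz1 (congrArg Subtype.val h)⟩⟩
      obtain ⟨i, hi⟩ := hzp.exists_card_eq
      obtain ⟨q, hq⟩ := exists_prime_orderOf_dvd_card' 2 (show 2 ∣ Nat.card χ.ker by
        rw [hi]
        refine dvd_pow_self 2 fun h => ?_
        rw [h, pow_zero] at hi
        exact absurd hi (Finite.one_lt_card (α := χ.ker)).ne')
      rw [← Subgroup.orderOf_coe] at hq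
      have hq2 : (q : Multiplicative (ZMod (2 ^ k) × ZMod (2 ^ k))) ^ 2 = 1 := by
        have := pow_orderOf_eq_one (q : Multiplicative (ZMod (2 ^ k) × ZMod (2 ^ k)))
        rwa [hq] at this
      have hhalf : ∀ a : ZMod (2 ^ k), a + a = 0 → a.val = 0 ∨ a.val = 2 ^ (k - 1) := by
        intro a ha
        have h1 := congrArg ZMod.val ha
        rw [ZMod.val_add, ZMod.val_zero] at h1
        have h2 := ZMod.val_lt a
        have h3 : 2 ^ k = 2 * 2 ^ (k - 1) := by rw [← pow_succ', hk1]
        obtain ⟨d, hd⟩ := Nat.dvd_of_mod_eq_zero h1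
        rcases d with _ | _ | d
        · left; omega
        · right; omega
        · exfalso
          have : 2 ^ k * 2 ≤ 2 ^ k * (d + 1 + 1) := Nat.mul_le_mul_left _ (by omega)
          omega
      have hx0 : x ^ 2 ^ (k - 1) ≠ 1 := pow_ne_one_of_lt_orderOf (by positivity) (by
        rw [hk]; exact Nat.pow_lt_pow_right one_lt_two (by omega))
      have hy0 : y ^ 2 ^ (k - 1) = c (x ^ 2 ^ (k - 1)) := by rw [hy, map_pow]
      have hcne : ∀ u : (S : Subgroup G), u ≠ 1 → c u ≠ 1 ∧ c u ≠ u := fun u hu => by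
        have hu' : (u : G) ≠ 1 := fun h => hu (Subtype.ext h)
        exact ⟨fun h => hu' (conj_eq_one_iff.mp (congrArg Subtype.val h)),
          fun h => hmove u u.2 hu' (congrArg Subtype.val h)⟩
      have hsum := congrArg Multiplicative.toAdd hq2
      rw [toAdd_pow, toAdd_one, two_nsmul] at hsum
      have hker : χ q = 1 := q.2
      have hq1 : (q : Multiplicative (ZMod (2 ^ k) × ZMod (2 ^ k))) ≠ 1 := fun h => by
        rw [h, orderOf_one] at hq; omega
      rcases hhalf _ (congrArg Prod.fst hsum) with e1 | e1 <;>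
        rcases hhalf _ (congrArg Prod.snd hsum) with e2 | e2
      · exact hq1 (Multiplicative.toAdd.injective (Prod.ext ((ZMod.val_eq_zero _).mp e1) ((ZMod.val_eq_zero _).mp e2)))
      · rw [MonoidHom.mk'_apply, e1, e2, pow_zero, one_mul, hy0] at hker
        exact (hcne _ hx0).1 hker
      · rw [MonoidHom.mk'_apply, e1, e2, pow_zero, mul_one] at hker
        exact hx0 hker
      · rw [MonoidHom.mk'_apply, e1, e2, hy0] at hker
        refine (hcne _ hx0).2 ?_
        have hxx : x ^ 2 ^ (k - 1) * x ^ 2 ^ (k - 1) = 1 := by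
          rw [← pow_add, show 2 ^ (k - 1) + 2 ^ (k - 1) = 2 ^ k by rw [← two_mul, ← pow_succ', hk1]]
          exact hexp x
        exact (mul_left_cancel (hxx.trans hker.symm)).symm
    have hcardS : Nat.card (S : Subgroup G) ≤ Nat.card (Multiplicative (ZMod (2 ^ k) × ZMod (2 ^ k))) := by
      rw [Nat.card_congr Multiplicative.toAdd, Nat.card_prod, Nat.card_zmod, ← mul_pow]
      calc Nat.card (S : Subgroup G) = Nat.card (powMonoidHom (2 ^ k) : (S : Subgroup G) →* _).ker := by
            rw [show (powMonoidHom (2 ^ k) : (S : Subgroup G) →* _).ker = ⊤ from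
              top_le_iff.mp fun u _ => hexp u, Subgroup.card_top]
        _ ≤ 4 ^ k := hcount k
        _ = _ := by norm_num
    have hbij : Function.Bijective χ := (Nat.bijective_iff_injective_and_card χ).mpr
      ⟨hinj, le_antisymm (Nat.card_le_card_of_injective χ hinj) hcardS⟩
    set π := QuotientGroup.mk' (Subgroup.center G) with hπ
    let SQ : Sylow 2 (G ⧸ Subgroup.center G) := S.mapSurjective (QuotientGroup.mk'_surjective _)
    have hrinj : Function.Injective (π.comp (S : Subgroup G).subtype) :=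
      (injective_iff_map_eq_one _).mpr fun u hu =>
        Subtype.ext (center_inf_eq_one S hab hperf u.2 ((QuotientGroup.eq_one_iff _).mp hu))
    have hSQ : (SQ : Subgroup (G ⧸ Subgroup.center G)) = (S : Subgroup G).map π := Sylow.coe_mapSurjective _ S
    have hrr : (π.comp (S : Subgroup G).subtype).range = (SQ : Subgroup (G ⧸ Subgroup.center G)) := by
      rw [hSQ, MonoidHom.range_comp, Subgroup.range_subtype]
    let e₁ : (S : Subgroup G) ≃* (SQ : Subgroup (G ⧸ Subgroup.center G)) :=
      (MonoidHom.ofInjective hrinj).trans (MulEquiv.subgroupCongr hrr)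
    haveI := hsimp
    obtain ⟨hnorm, -, -⟩ := Cfsg.Agent.S0949.result SQ k hk2
      (e₁.symm.trans (MulEquiv.ofBijective χ hbij).symm) fun N hN hodd => by
        rcases hN.eq_bot_or_eq_top with h | h
        · exact h
        · exfalso
          subst h
          have h2 := Subgroup.orderOf_dvd_natCard (⊤ : Subgroup (G ⧸ Subgroup.center G)) (Subgroup.mem_top (π v))
          have hov : orderOf (π v) = 2 := orderOf_eq_prime (by rw [← map_pow, hv2, map_one])
            fun h => not_mem_center hperf S hab hvS hv1 ((QuotientGroup.eq_one_iff v).mp h)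
          rw [hov] at h2
          exact Nat.not_even_iff_odd.mpr hodd (even_iff_two_dvd.mpr h2)
    rcases hnorm.eq_bot_or_eq_top with h | h
    · have := (h ▸ (hSQ ▸ Subgroup.mem_map_of_mem π hvS) : π v ∈ (⊥ : Subgroup _))
      exact not_mem_center hperf S hab hvS hv1 ((QuotientGroup.eq_one_iff v).mp (Subgroup.mem_bot.mp this))
    · refine modCent_ne_top hsimp hperf (not_mem_center hperf S hab hvS hv1) (top_le_iff.mp fun g _ => ?_)
      have hg : π g ∈ (S : Subgroup G).map π := hSQ ▸ h ▸ Subgroup.mem_top _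
      obtain ⟨s, hs, hsg⟩ := hg
      refine Subgroup.mem_comap.mpr (Subgroup.mem_centralizer_singleton_iff.mpr ?_)
      show π g * π v = π v * π g
      rw [← hsg]
      exact ((hab s hs v hvS).map π).eq
  have hna : ∀ s ∈ (S : Subgroup G), s ≠ 1 → ¬ AbelianCent s := by
    intro s hs hs1
    rcases hall s hs (hsq s hs) with h | h | h | h
    · exact absurd h hs1
    · exact h ▸ hnaV
    · exact h ▸ hnaconj v hnaV n
    · rw [h, ← hcyc]
      exact hnaconj w (hnaconj v hnaV n) n
  have h4 : Nat.card (S : Subgroup G) = 4 := by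
    let f : Fin 4 → (S : Subgroup G) := ![1, ⟨v, hvS⟩, ⟨w, hwS⟩, ⟨v * w, mul_mem hvS hwS⟩]
    refine le_antisymm ?_ ?_
    · refine le_trans (Nat.card_le_card_of_surjective f fun s => ?_) (by rw [Nat.card_fin])
      rcases hall s s.2 (hsq s s.2) with h | h | h | h
      exacts [⟨0, Subtype.ext h.symm⟩, ⟨1, Subtype.ext h.symm⟩, ⟨2, Subtype.ext h.symm⟩, ⟨3, Subtype.ext h.symm⟩]
    · have hf : Function.Injective f := by
        intro i j hij
        have h := congrArg Subtype.val hij
        fin_cases i <;> fin_cases j <;> first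
          | rfl
          | (exfalso; simp [f] at h; first
              | exact hv1 h | exact hv1 h.symm | exact hw1 h | exact hw1 h.symm | exact hvw h | exact hvw h.symm
              | exact hvw1 h | exact hvw1 h.symm)
      have := Nat.card_le_card_of_injective f hf
      rwa [Nat.card_fin] at this
  refine ⟨h4, hsq, ⟨n, hn, hmove⟩, hna, ?_⟩
  set N := Subgroup.normalizer ((S : Subgroup G) : Set G) with hN
  set A := Subgroup.centralizer ((S : Subgroup G) : Set G) with hA
  have hfix : ∀ g ∈ N, g * v * g⁻¹ = v → g ∈ A := fun g hg h => Subgroup.mem_centralizer_iff.mpr fun s hs =>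
    (semiregular hsimp hperf hsub S hab hvS hv1 hg (mul_inv_eq_iff_eq_mul.mp h) s hs).symm.eq
  have hAv : ∀ g ∈ A, g * v * g⁻¹ = v := fun g hg => by
    rw [← (Subgroup.mem_centralizer_iff.mp hg v hvS), mul_inv_cancel_right]
  have horb : ∀ g ∈ N, g * v * g⁻¹ ∈ ({v, w, v * w} : Set G) := fun g hg => by
    rcases hall _ ((Subgroup.mem_normalizer_iff.mp hg v).mp hvS) (by rw [conj_pow, hv2, mul_one, mul_inv_cancel]) with h | h | h | h
    · exact absurd (conj_eq_one_iff.mp h) hv1
    · exact Or.inl h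
    · exact Or.inr (Or.inl h)
    · exact Or.inr (Or.inr h)
  let ψ : N ⧸ A.subgroupOf N → ({v, w, v * w} : Set G) :=
    Quotient.lift (fun g : N => (⟨(g : G) * v * (g : G)⁻¹, horb g g.2⟩ : ({v, w, v * w} : Set G))) (by
      intro a b hab'
      have hm := Subgroup.mem_subgroupOf.mp (QuotientGroup.leftRel_apply.mp hab')
      simp only [Subgroup.coe_mul, InvMemClass.coe_inv] at hm
      refine Subtype.ext ?_
      show (a : G) * v * (a : G)⁻¹ = (b : G) * v * (b : G)⁻¹
      calc (a : G) * v * (a : G)⁻¹ = a * ((a : G)⁻¹ * b * v * ((a : G)⁻¹ * b)⁻¹) * (a : G)⁻¹ := by rw [hAv _ hm]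
        _ = _ := by group)
  have hψ : Function.Bijective ψ := by
    constructor
    · intro p q
      refine Quotient.inductionOn₂' p q fun a b h => QuotientGroup.eq.mpr (Subgroup.mem_subgroupOf.mpr ?_)
      have h' : (a : G) * v * (a : G)⁻¹ = (b : G) * v * (b : G)⁻¹ := congrArg Subtype.val h
      refine hfix _ (mul_mem (inv_mem a.2) b.2) ?_
      simp only [Subgroup.coe_mul, InvMemClass.coe_inv]
      calc (a : G)⁻¹ * b * v * ((a : G)⁻¹ * b)⁻¹ = (a : G)⁻¹ * ((b : G) * v * (b : G)⁻¹) * a := by group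
        _ = v := by rw [← h']; group
    · rintro ⟨g, hg | hg | hg⟩
      · exact ⟨QuotientGroup.mk 1, Subtype.ext (by show (1 : G) * v * (1 : G)⁻¹ = g; simp [hg])⟩
      · exact ⟨QuotientGroup.mk ⟨n, hn⟩, Subtype.ext hg.symm⟩
      · refine ⟨QuotientGroup.mk ⟨n * n, mul_mem hn hn⟩, Subtype.ext ?_⟩
        show n * n * v * (n * n)⁻¹ = g
        rw [Set.mem_singleton_iff.mp hg, ← hcyc, hw]; group
  rw [Subgroup.relIndex, Subgroup.index, Nat.card_congr (Equiv.ofBijective ψ hψ), Nat.card_coe_set_eq,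
    Set.ncard_insert_of_notMem, Set.ncard_pair]
  · intro h; exact hv1 (mul_eq_right.mp h.symm)
  · rintro (h | h)
    · exact hvw h
    · exact hw1 (mul_eq_left.mp (Set.mem_singleton_iff.mp h).symm)

/-- Distinct involutions of `S` have distinct centralisers, none containing another. -/
theorem eq_of_centralizer_le {u v : G} (hu : u ∈ (S : Subgroup G)) (hu1 : u ≠ 1) (hv : v ∈ (S : Subgroup G))
    (hv1 : v ≠ 1) (h : ∀ y : G, Commute y u → Commute y v) : u = v := by
  classical
  by_contra huv
  obtain ⟨h4, -, -, hna, -⟩ := four_group hsimp hperf hsub S hab htS ht1 htna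
  obtain ⟨s, hs, m, hm, hms⟩ := exists_not_central hsimp hperf hsub S hab hu hu1 (hna u hu hu1)
  set K := (S : Subgroup G) ⊓ Subgroup.centralizer ({y : G | Commute y u} : Set G) with hK
  have hmemK : ∀ {g : G}, g ∈ (S : Subgroup G) → (∀ y : G, Commute y u → Commute y g) → g ∈ K := fun hg hgc =>
    ⟨hg, Subgroup.mem_centralizer_iff.mpr fun y hy => (hgc y hy).eq⟩
  have hdvd : Nat.card K ∣ 4 := h4 ▸ Subgroup.card_dvd_of_le inf_le_left
  have h3 : 3 ≤ Nat.card K := by
    let f : Fin 3 → K := ![1, ⟨u, hmemK hu fun y hy => hy⟩, ⟨v, hmemK hv h⟩]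
    have hf : Function.Injective f := by
      intro i j hij
      have e := congrArg Subtype.val hij
      fin_cases i <;> fin_cases j <;> first
        | rfl
        | (exfalso; simp [f] at e; first
            | exact hu1 e | exact hu1 e.symm | exact hv1 e | exact hv1 e.symm | exact huv e | exact huv e.symm)
    simpa using Nat.card_le_card_of_injective f hf
  have hK4 : Nat.card K = 4 := by
    have := Nat.le_of_dvd (by norm_num) hdvd
    rcases (show Nat.card K = 3 ∨ Nat.card K = 4 by omega) with e | e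
    · rw [e] at hdvd; norm_num at hdvd
    · exact e
  have hsK : s ∈ K := by
    have e : K = (S : Subgroup G) :=
      Subgroup.eq_of_le_of_card_ge (inf_le_left : K ≤ (S : Subgroup G)) (by rw [h4, hK4])
    rwa [e]
  exact hms (Subgroup.mem_centralizer_iff.mp hsK.2 m hm)

/-- The centraliser of a noncentral element of `C(S)` is `C(S)`, or the centraliser of an involution
of `S`, or contains `N(S)`. -/
theorem centralizer_cases {d : G} (hd : ∀ s ∈ (S : Subgroup G), Commute d s) (hdc : d ∉ Subgroup.center G) :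
    (∀ y : G, Commute y d → ∀ s ∈ (S : Subgroup G), Commute y s) ∨
      (∃ v ∈ (S : Subgroup G), v ≠ 1 ∧ ∀ y : G, Commute y d ↔ Commute y v) ∨
      ∀ y ∈ Subgroup.normalizer ((S : Subgroup G) : Set G), Commute y d := by
  classical
  haveI : Fact (Nat.Prime 2) := ⟨Nat.prime_two⟩
  obtain ⟨h4, hsq, ⟨n, hn, hmove⟩, hna, hidx⟩ := four_group hsimp hperf hsub S hab htS ht1 htna
  set H := Subgroup.centralizer ({d} : Set G) with hHdef
  have hmem : ∀ {g : G}, g ∈ H ↔ Commute g d := Subgroup.mem_centralizer_singleton_iff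
  have hHne : H ≠ ⊤ := fun h => hdc (mem_center_iff'.mpr fun g => hmem.mp (h ▸ Subgroup.mem_top g))
  have hA : ∀ y : G, (∀ s ∈ (S : Subgroup G), Commute y s) → Commute y d := fun y hy =>
    abelian_centralizer_sylow hsimp hperf hsub S hab htS ht1 htna hy hd
  have hSH : (S : Subgroup G) ≤ H := fun s hs => hmem.mpr (hd s hs).symm
  by_cases hbig : ∃ y ∈ Subgroup.normalizer ((S : Subgroup G) : Set G), Commute y d ∧
      ¬ ∀ s ∈ (S : Subgroup G), Commute y s
  · refine Or.inr (Or.inr fun g hg => ?_)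
    obtain ⟨y, hyN, hyd, hyS⟩ := hbig
    set N := Subgroup.normalizer ((S : Subgroup G) : Set G) with hN
    set A := Subgroup.centralizer ((S : Subgroup G) : Set G) with hAdef
    have hAK : A ≤ N ⊓ H := fun a ha => by
      have hac : ∀ s ∈ (S : Subgroup G), Commute a s := fun s hs => (Subgroup.mem_centralizer_iff.mp ha s hs).symm
      exact ⟨Subgroup.mem_normalizer_fintype fun s hs => by rw [(hac s hs).eq, mul_inv_cancel_right]; exact hs,
        hmem.mpr (hA a hac)⟩
    have hmul := Subgroup.relIndex_mul_relIndex A (N ⊓ H) N hAK inf_le_left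
    rw [hidx] at hmul
    have h1 : A.relIndex (N ⊓ H) ≠ 1 := fun h => hyS fun s hs =>
      ((Subgroup.mem_centralizer_iff.mp ((Subgroup.relIndex_eq_one.mp h) ⟨hyN, hmem.mpr hyd⟩) s hs)).symm
    have h2 : (N ⊓ H).relIndex N = 1 := by
      rcases (Nat.dvd_prime Nat.prime_three).mp (hmul ▸ Dvd.intro_left _ rfl : (N ⊓ H).relIndex N ∣ 3) with e | e
      · exact e
      · rw [e] at hmul; omega
    exact hmem.mp ((Subgroup.relIndex_eq_one.mp h2) hg).2
  push Not at hbig
  by_cases hv : ∃ v ∈ (S : Subgroup G), v ≠ 1 ∧ ∀ y : G, Commute y d → Commute y v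
  · obtain ⟨v, hvS, hv1, hle⟩ := hv
    by_cases hall : ∀ y : G, Commute y v → Commute y d
    · exact Or.inr (Or.inl ⟨v, hvS, hv1, fun y => ⟨hle y, hall y⟩⟩)
    · push Not at hall
      obtain ⟨m, hmv, hmd⟩ := hall
      refine Or.inl fun y hy s hs => ?_
      have hmv' : ∀ {g : G}, Commute g v → g ∈ Subgroup.centralizer ({v} : Set G) := fun h =>
        Subgroup.mem_centralizer_singleton_iff.mpr h.eq
      exact commute_of_mem hsub (centralizer_ne_top hsimp hperf hsub S hab hvS hv1 (hna v hvS hv1))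
        (hmv' (hle d (Commute.refl d))) (hmv' hmv) hmd
        (hmv' (hle y hy)) (hmv' (hab s hs v hvS)) hy (hd s hs).symm
  push Not at hv
  left
  obtain ⟨O, hOH, hodd, hnorm, hdec⟩ := exists_complement S hab hSH
    (fun g hg hgN => hbig g hgN (hmem.mp hg))
  haveI : IsMulCommutative (S : Subgroup G) := ⟨⟨fun a b => Subtype.ext (hab a a.2 b b.2).eq⟩⟩
  have hSnc : ¬ IsCyclic (S : Subgroup G) := by
    intro h
    haveI := h
    have hnt : n * t * n⁻¹ ∈ (S : Subgroup G) := (Subgroup.mem_normalizer_iff.mp hn t).mp htS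
    exact hmove t htS ht1 (congrArg Subtype.val (CfsgLib.Transfer.eq_of_sq_eq_one_of_isCyclic
      (⟨n * t * n⁻¹, hnt⟩ : (S : Subgroup G)) ⟨t, htS⟩
      (Subtype.ext (show n * t * n⁻¹ * (n * t * n⁻¹) = 1 by rw [← pow_two]; exact hsq _ hnt))
      (Subtype.ext (show t * t = 1 by rw [← pow_two]; exact hsq _ htS))
      (fun h => ht1 (conj_eq_one_iff.mp (congrArg Subtype.val h))) (fun h => ht1 (congrArg Subtype.val h))))
  have hSn : (S : Subgroup G) ≤ Subgroup.normalizer (O : Set G) := fun g hg =>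
    Subgroup.mem_normalizer_fintype fun o ho => hnorm g (hSH hg) o ho
  have hcop : (Nat.card (S : Subgroup G)).Coprime (Nat.card O) := by
    rw [h4]
    exact Nat.Coprime.pow_left 2 (Nat.coprime_two_left.mpr hodd)
  have hOC : O ≤ Subgroup.centralizer ((S : Subgroup G) : Set G) := by
    refine CfsgLib.Coprime.le_of_centralizer_le hSnc hSn hcop fun g hg hg1 o ho => ?_
    obtain ⟨y, hyd, hyg⟩ := hv g hg hg1
    refine Subgroup.mem_centralizer_iff.mpr fun s hs => ?_
    exact (commute_of_mem hsub hHne (hSH hg) (hmem.mpr hyd) hyg (hSH hs) (hOH ho.1) (hab s hs g hg)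
      (Subgroup.mem_centralizer_singleton_iff.mp ho.2)).eq
  intro y hy s hs
  obtain ⟨o, ho, s', hs', rfl⟩ := hdec y (hmem.mpr hy)
  have hso : Commute s o := Subgroup.mem_centralizer_iff.mp (hOC ho) s hs
  exact hso.symm.mul_left (hab s' hs' s hs)


end Four

end CfsgLib.MinNonCA
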