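import Mathlib
import Cfsg.Agent.Lib.Classical.Transvection
import Cfsg.Agent.Lib.SL2.PSL
import Cfsg.Agent.Lib.StemExt.Basic
import Cfsg.Agent.Lib.OrthMinDegree.OddLevi
import Cfsg.Agent.Lib.Schur.SLTwo
import Cfsg.Agent.Lib.Schur.SLTwoNine

/-!
A perfect group whose central quotient is a two-dimensional projective special linear group in odd
characteristic is a quotient of the special linear group, up to the exceptional multiplier for nine
elements (S4369).
-/

set_option autoImplicit false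
set_option linter.style.haveILetI false

namespace CfsgLib.MinNonCA

open Cfsg
open scoped commutatorElement

universe u

/-- The kernel of a stem extension in any universe divides the order of a cyclic multiplier. -/
theorem card_ker_dvd_multiplier {H : Type} [Group H] {n : ℕ} (h : HasCyclicSchurMultiplier H n)
    {Δ : Type u} [Group Δ] [Finite Δ] (σ : Δ →* H) (hσ : IsStemExtension σ) :
    Nat.card σ.ker ∣ n := by
  let ι : Δ →* Equiv.Perm (Fin (Nat.card Δ)) :=
    (Finite.equivFin Δ).permCongrHom.toMonoidHom.comp (MulAction.toPermHom Δ Δ)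
  have hι : Function.Injective ι :=
    (Finite.equivFin Δ).permCongrHom.injective.comp MulAction.toPerm_injective
  let f : Δ ≃* ι.range := MonoidHom.ofInjective hι
  have hker : (σ.comp f.symm.toMonoidHom).ker = σ.ker.map f.toMonoidHom := by
    rw [Subgroup.map_equiv_eq_comap_symm', ← MonoidHom.comap_ker]
  obtain ⟨π, hπ⟩ := h.2 ι.range (σ.comp f.symm.toMonoidHom) (by
    refine ⟨hσ.1.comp f.symm.surjective, ?_, ?_⟩
    · rw [hker]
      rintro _ ⟨a, ha, rfl⟩
      rw [Subgroup.mem_center_iff]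
      intro b
      obtain ⟨b', rfl⟩ := f.surjective b
      show f b' * f a = f a * f b'
      rw [← map_mul, ← map_mul, Subgroup.mem_center_iff.1 (hσ.2.1 ha) b']
    · rw [hker]
      refine (Subgroup.map_mono hσ.2.2).trans (le_of_eq ?_)
      rw [commutator_def, commutator_def, Subgroup.map_commutator,
        Subgroup.map_top_of_surjective f.toMonoidHom f.surjective])
  have := Subgroup.card_dvd_of_surjective π hπ
  rwa [hker, ← Nat.card_congr (Subgroup.equivMapOfInjective σ.ker f.toMonoidHom f.injective).toEquiv,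
    Nat.card_congr Multiplicative.toAdd, Nat.card_zmod] at this

variable {G : Type u} [Group G] [Finite G] {F : Type} [Field F] [Fintype F]

/-- The common cover: a stem extension of the special linear group mapping onto `G`. -/
theorem exists_stem_cover (hperf : commutator G = ⊤) (h4 : 4 ≤ Fintype.card F)
    (e : (G ⧸ Subgroup.center G) ≃* Matrix.ProjectiveSpecialLinearGroup (Fin 2) F) :
    ∃ (Γ : Subgroup (G × Matrix.SpecialLinearGroup (Fin 2) F)),
      IsStemExtension ((MonoidHom.snd G (Matrix.SpecialLinearGroup (Fin 2) F)).comp Γ.subtype) ∧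
      Function.Surjective ((MonoidHom.fst G (Matrix.SpecialLinearGroup (Fin 2) F)).comp Γ.subtype) := by
  set π : G →* Matrix.ProjectiveSpecialLinearGroup (Fin 2) F :=
    e.toMonoidHom.comp (QuotientGroup.mk' (Subgroup.center G)) with hπ
  have hπs : Function.Surjective π := e.surjective.comp (QuotientGroup.mk'_surjective _)
  set fst := MonoidHom.fst G (Matrix.SpecialLinearGroup (Fin 2) F) with hfst
  set snd := MonoidHom.snd G (Matrix.SpecialLinearGroup (Fin 2) F) with hsnd
  set Γ0 := MonoidHom.eqLocus (π.comp fst) (SL2.proj.comp snd) with hΓ0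
  set Γ := ⁅Γ0, Γ0⁆ with hΓ
  have f0 : Γ0.map fst = ⊤ := top_le_iff.1 fun g _ => by
    obtain ⟨s, hs⟩ := SL2.proj_surjective (π g)
    exact ⟨(g, s), hs.symm, rfl⟩
  have s0 : Γ0.map snd = ⊤ := top_le_iff.1 fun s _ => by
    obtain ⟨g, hg⟩ := hπs (SL2.proj s)
    exact ⟨(g, s), hg, rfl⟩
  have f1 : Γ.map fst = ⊤ := by rw [hΓ, Subgroup.map_commutator, f0, ← commutator_def, hperf]
  have s1 : Γ.map snd = ⊤ := by
    rw [hΓ, Subgroup.map_commutator, s0, ← commutator_def, OrthMinDegree.sl2_perfect h4]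
  have hle : Γ ≤ Γ0 := Subgroup.commutator_le_self Γ0
  have hz : ∀ a ∈ Γ0, ∃ b ∈ Γ, ∃ c ∈ Subgroup.center (G × Matrix.SpecialLinearGroup (Fin 2) F),
      a = b * c := by
    intro a ha
    obtain ⟨b, hb, hba⟩ : snd a ∈ Γ.map snd := s1 ▸ Subgroup.mem_top _
    refine ⟨b, hb, b⁻¹ * a, ?_, (mul_inv_cancel_left b a).symm⟩
    have h2 : snd (b⁻¹ * a) = 1 := by rw [map_mul, map_inv, hba, inv_mul_cancel]
    have h1 : π (fst (b⁻¹ * a)) = 1 := by
      have := mul_mem (inv_mem (hle hb)) ha
      change π (fst (b⁻¹ * a)) = SL2.proj (snd (b⁻¹ * a)) at this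
      rwa [h2, map_one] at this
    rw [hπ, MonoidHom.comp_apply, MulEquiv.coe_toMonoidHom, EmbeddingLike.map_eq_one_iff,
      QuotientGroup.mk'_apply, QuotientGroup.eq_one_iff] at h1
    rw [Subgroup.mem_center_iff]
    intro c
    exact Prod.ext (Subgroup.mem_center_iff.1 h1 c.1)
      (show c.2 * snd (b⁻¹ * a) = snd (b⁻¹ * a) * c.2 by rw [h2, mul_one, one_mul])
  have hperfΓ : Γ ≤ ⁅Γ, Γ⁆ := by
    conv_lhs => rw [hΓ]
    refine Subgroup.commutator_le.2 fun a ha b hb => ?_
    obtain ⟨a', ha', c, hc, rfl⟩ := hz a ha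
    obtain ⟨b', hb', d, hd, rfl⟩ := hz b hb
    have ec : ∀ x, Commute x c := Subgroup.mem_center_iff.1 hc
    have ed : ∀ x, Commute x d := Subgroup.mem_center_iff.1 hd
    have : ⁅a' * c, b' * d⁆ = ⁅a', b'⁆ := by
      have h1 : a' * c * (b' * d) * (a' * c)⁻¹ = a' * (b' * d) * a'⁻¹ := by
        rw [mul_assoc a' c, ← (ec (b' * d)).eq]
        group
      rw [commutatorElement_def, commutatorElement_def, h1, mul_assoc a', mul_assoc b',
        ← (ed a'⁻¹).eq]
      group
    rw [this]
    exact Subgroup.commutator_mem_commutator ha' hb'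
  refine ⟨Γ, ⟨fun s => ?_, fun a ha => ?_, fun a _ => ?_⟩, fun g => ?_⟩
  · obtain ⟨b, hb, hbs⟩ : s ∈ Γ.map snd := s1 ▸ Subgroup.mem_top _
    exact ⟨⟨b, hb⟩, hbs⟩
  · obtain ⟨b, hb, c, hc, hbc⟩ := hz _ (hle a.2)
    rw [Subgroup.mem_center_iff]
    intro x
    have h1 : π (fst (a : G × _)) = 1 := by
      have := hle a.2
      change π (fst (a : G × _)) = SL2.proj (snd (a : G × _)) at this
      rwa [show snd (a : G × _) = 1 from ha, map_one] at this
    rw [hπ, MonoidHom.comp_apply, MulEquiv.coe_toMonoidHom, EmbeddingLike.map_eq_one_iff,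
      QuotientGroup.mk'_apply, QuotientGroup.eq_one_iff] at h1
    refine Subtype.ext (Prod.ext (Subgroup.mem_center_iff.1 h1 _) ?_)
    change snd (x : G × _) * snd (a : G × _) = snd (a : G × _) * snd (x : G × _)
    rw [show snd (a : G × _) = 1 from ha, mul_one, one_mul]
  · have : (commutator Γ).map Γ.subtype = ⁅Γ, Γ⁆ := Subgroup.map_subtype_commutator Γ
    obtain ⟨a', ha', he⟩ : (a : G × _) ∈ (commutator Γ).map Γ.subtype := this ▸ hperfΓ a.2
    rwa [← Subtype.ext he]
  · obtain ⟨b, hb, hbs⟩ : g ∈ Γ.map fst := f1 ▸ Subgroup.mem_top _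
    exact ⟨⟨b, hb⟩, hbs⟩

omit [Finite G] in
theorem card_SL_eq_two_mul (hodd : Odd (Fintype.card F))
    (e : (G ⧸ Subgroup.center G) ≃* Matrix.ProjectiveSpecialLinearGroup (Fin 2) F) :
    Nat.card (Matrix.SpecialLinearGroup (Fin 2) F) = 2 * Nat.card (G ⧸ Subgroup.center G) := by
  obtain ⟨k, hk⟩ := hodd
  rw [CfsgLib.Classical.card_SL_eq_gcd_mul_card_PSL, Nat.card_congr e.toEquiv, Fintype.card_fin,
    Nat.card_eq_fintype_card (α := F), hk, Nat.gcd_eq_left ⟨k, by omega⟩]

/-- The centre divides twice the multiplier. -/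
theorem card_center_dvd (hperf : commutator G = ⊤) (hodd : Odd (Fintype.card F))
    (h3 : 3 < Fintype.card F)
    (e : (G ⧸ Subgroup.center G) ≃* Matrix.ProjectiveSpecialLinearGroup (Fin 2) F) {n : ℕ}
    (hn : HasCyclicSchurMultiplier (Matrix.SpecialLinearGroup (Fin 2) F) n) :
    Nat.card (Subgroup.center G) ∣ 2 * n := by
  obtain ⟨Γ, hstem, hfst⟩ := exists_stem_cover hperf h3 e
  have hk := card_ker_dvd_multiplier hn _ hstem
  have h1 := Subgroup.card_dvd_of_surjective _ hfst
  rw [Subgroup.card_eq_card_quotient_mul_card_subgroup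
      ((MonoidHom.snd G (Matrix.SpecialLinearGroup (Fin 2) F)).comp Γ.subtype).ker,
    Nat.card_congr (QuotientGroup.quotientKerEquivOfSurjective _ hstem.1).toEquiv,
    card_SL_eq_two_mul hodd e, Subgroup.card_eq_card_quotient_mul_card_subgroup (Subgroup.center G),
    mul_right_comm, mul_comm (2 * _)] at h1
  exact ((Nat.mul_dvd_mul_iff_left Nat.card_pos).1 h1).trans (Nat.mul_dvd_mul_left 2 hk)

/-- Away from nine elements an even centre makes the group special linear. -/
theorem nonempty_sl2_equiv (hperf : commutator G = ⊤) (hodd : Odd (Fintype.card F))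
    (h3 : 3 < Fintype.card F) (h9 : Fintype.card F ≠ 9)
    (e : (G ⧸ Subgroup.center G) ≃* Matrix.ProjectiveSpecialLinearGroup (Fin 2) F)
    (h2 : 2 ∣ Nat.card (Subgroup.center G)) :
    Nonempty (Matrix.SpecialLinearGroup (Fin 2) F ≃* G) := by
  have h4 : Fintype.card F ≠ 4 := fun h => by rw [h] at hodd; exact absurd hodd (by decide)
  have hm := CfsgLib.Schur.hasTrivialMultiplier_SL_two h4 h9
  obtain ⟨Γ, hstem, hfst⟩ := exists_stem_cover hperf h3 e
  have hc : Nat.card (Subgroup.center G) = 2 := Nat.dvd_antisymm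
    (by simpa using card_center_dvd hperf hodd h3 e hm) h2
  have hinj := (MonoidHom.ker_eq_bot_iff _).1
    (Subgroup.eq_bot_of_card_eq _ (Nat.dvd_one.1 (card_ker_dvd_multiplier hm _ hstem)))
  let f := MulEquiv.ofBijective _ ⟨hinj, hstem.1⟩
  refine ⟨MulEquiv.ofBijective
    (((MonoidHom.fst G (Matrix.SpecialLinearGroup (Fin 2) F)).comp Γ.subtype).comp f.symm.toMonoidHom)
    ((Nat.bijective_iff_surjective_and_card _).2 ⟨hfst.comp f.symm.surjective, ?_⟩)⟩
  rw [card_SL_eq_two_mul hodd e, Subgroup.card_eq_card_quotient_mul_card_subgroup (Subgroup.center G),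
    hc, mul_comm]

/-- Odd primes in the centre. -/
theorem odd_center_part (hperf : commutator G = ⊤) (hodd : Odd (Fintype.card F))
    (h3 : 3 < Fintype.card F)
    (e : (G ⧸ Subgroup.center G) ≃* Matrix.ProjectiveSpecialLinearGroup (Fin 2) F)
    {p : ℕ} (hp : p.Prime) (hp2 : p ≠ 2) {z : G} (hz : z ∈ Subgroup.center G) (ho : orderOf z = p) :
    Fintype.card F = 9 ∧ p = 3 := by
  have h4 : Fintype.card F ≠ 4 := fun h => by rw [h] at hodd; exact absurd hodd (by decide)
  have hd : p ∣ Nat.card (Subgroup.center G) := ho ▸ Subgroup.orderOf_dvd_natCard _ hz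
  by_cases h9 : Fintype.card F = 9
  · refine ⟨h9, ?_⟩
    have h6 := hd.trans (card_center_dvd hperf hodd h3 e (CfsgLib.Schur.SLTwoNine.multiplier_sl_two_nine h9))
    rcases (Nat.Prime.dvd_mul hp).1 h6 with h | h
    · exact absurd ((Nat.prime_dvd_prime_iff_eq hp Nat.prime_two).1 h) hp2
    · exact (Nat.prime_dvd_prime_iff_eq hp Nat.prime_three).1 h
  · have h2 := hd.trans (card_center_dvd hperf hodd h3 e (CfsgLib.Schur.hasTrivialMultiplier_SL_two h4 h9))
    exact absurd ((Nat.prime_dvd_prime_iff_eq hp Nat.prime_two).1 (by simpa using h2)) hp2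

end CfsgLib.MinNonCA
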