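import Cfsg.Agent.Lib.MinNonCA.Isolated
import Cfsg.Agent.Lib.MinNonCA.Multiplier
import Cfsg.Agent.Lib.CAMinimal.HC
import Cfsg.Agent.Lib.SL2.Klein
import Cfsg.Agent.Lib.SL2.Centralizer

/-!
A quasisimple group with proper CA-subgroups, nonabelian Sylow 2-subgroup and two-dimensional
linear central quotient is itself a CA-group (S4369).
-/

set_option autoImplicit false
set_option linter.style.haveILetI false

namespace CfsgLib.MinNonCA

open CfsgLib.SL2
open scoped MatrixGroups

/-- When `-1` is a square every element of `SL_2` is conjugate to its inverse. -/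
theorem exists_conj_eq_inv {F : Type*} [Field F] {i : F} (hi : i * i = -1) (g : SL(2, F)) :
    ∃ k : SL(2, F), k * g * k⁻¹ = g⁻¹ := by
  by_cases hns : NonScalar (g : Matrix (Fin 2) (Fin 2) F)
  · obtain ⟨P, hP, hPg⟩ := exists_companion _ hns
    rw [g.det_coe] at hPg
    set t := (g : Matrix (Fin 2) (Fin 2) F).trace with ht
    set C : Matrix (Fin 2) (Fin 2) F := !![0, -1; 1, t] with hC
    set D : Matrix (Fin 2) (Fin 2) F := !![-i, -i * t; 0, i] with hD
    have hu : IsUnit P.det := isUnit_iff_ne_zero.2 hP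
    have hdet : (P * D * P⁻¹).det = 1 := by
      rw [Matrix.det_mul, Matrix.det_mul, Matrix.det_nonsing_inv, mul_right_comm,
        Ring.mul_inverse_cancel _ hu, one_mul, hD, Matrix.det_fin_two_of]
      linear_combination -hi
    have hCD : C * D * C = D := by
      ext a b
      fin_cases a <;> fin_cases b <;> simp [hC, hD, Matrix.mul_apply, Fin.sum_univ_two] <;>
        first | ring1 | (left; ring1)
    obtain ⟨k, hk⟩ : ∃ k : SL(2, F), (k : Matrix (Fin 2) (Fin 2) F) = P * D * P⁻¹ :=
      ⟨⟨_, hdet⟩, rfl⟩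
    have hgP : (g : Matrix (Fin 2) (Fin 2) F) = P * C * P⁻¹ := by
      rw [← hPg, Matrix.mul_assoc, Matrix.mul_nonsing_inv P hu, mul_one]
    have key : g * k * g = k := by
      apply Subtype.ext
      rw [Matrix.SpecialLinearGroup.coe_mul, Matrix.SpecialLinearGroup.coe_mul, hk]
      calc (g : Matrix (Fin 2) (Fin 2) F) * (P * D * P⁻¹) * (g : Matrix (Fin 2) (Fin 2) F)
          = P * C * (P⁻¹ * P) * D * (P⁻¹ * P) * C * P⁻¹ := by
            rw [hgP]; simp only [Matrix.mul_assoc]
        _ = P * (C * D * C) * P⁻¹ := by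
            rw [Matrix.nonsing_inv_mul P hu]; simp only [Matrix.mul_assoc, one_mul]
        _ = P * D * P⁻¹ := by rw [hCD]
    exact ⟨k, by rw [mul_inv_eq_iff_eq_mul, eq_inv_mul_iff_mul_eq, ← mul_assoc, key]⟩
  · exact ⟨1, by
      rcases eq_one_or_eq_neg_one_of_mem_center g ((mem_center_iff_not_nonScalar g).2 hns) with h | h <;>
        rw [h] <;> simp⟩

variable {G : Type*} [Group G] [Finite G]
variable (hsimp : IsSimpleGroup (G ⧸ Subgroup.center G)) (hperf : commutator G = ⊤)
variable (hsub : ∀ H : Subgroup G, H ≠ ⊤ →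
  ∀ x : H, x ∉ Subgroup.center H → IsMulCommutative (Subgroup.centralizer ({x} : Set H)))

include hsimp hperf hsub

/-- Nonabelian Sylow 2-subgroup and linear central quotient force a CA-group. -/
theorem isCA_of_psl_nonabelian (S : Sylow 2 G)
    (hnab : ∃ x ∈ (S : Subgroup G), ∃ y ∈ (S : Subgroup G), ¬ Commute x y)
    {F : Type} [Field F] [Fintype F] (hodd : Odd (Fintype.card F)) (h3 : 3 < Fintype.card F)
    (e : (G ⧸ Subgroup.center G) ≃* Matrix.ProjectiveSpecialLinearGroup (Fin 2) F) :
    ∀ x : G, x ∉ Subgroup.center G → IsMulCommutative (Subgroup.centralizer ({x} : Set G)) := by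
  intro x hx
  suffices h : ∀ u ∈ Subgroup.centralizer ({x} : Set G), ∀ v ∈ Subgroup.centralizer ({x} : Set G),
      Commute u v from ⟨⟨fun a b => Subtype.ext (h _ a.2 _ b.2)⟩⟩
  obtain ⟨u0, hu0, v0, hv0, huv⟩ := hnab
  have hnab' : ∃ x ∈ (S : Subgroup G), ∃ y ∈ (S : Subgroup G), ¬ Commute x y :=
    ⟨u0, hu0, v0, hv0, huv⟩
  have hZS := sylow_center_le hsimp hperf hsub S hnab'
  haveI : Fact (Nat.Prime 2) := ⟨Nat.prime_two⟩
  haveI : Nontrivial (S : Subgroup G) :=
    ⟨⟨⟨u0, hu0⟩, ⟨v0, hv0⟩, fun h => huv (by rw [show u0 = v0 from congrArg Subtype.val h])⟩⟩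
  by_cases h9 : Fintype.card F = 9
  · obtain ⟨i, hi⟩ : IsSquare (-1 : F) := FiniteField.isSquare_neg_one_iff.2 (by omega)
    have hmax := CfsgLib.CAMinimal.le_center_of_normal hsimp hperf
    set π : G →* G ⧸ Subgroup.center G := QuotientGroup.mk' (Subgroup.center G) with hπ
    have hπ1 : ∀ a : G, π a = 1 ↔ a ∈ Subgroup.center G := fun a => QuotientGroup.eq_one_iff a
    by_cases hsq : π x * π x = 1
    · -- a central involution of a Sylow subgroup of the quotient is moved
      haveI : Nontrivial ((S : Subgroup G).map π) := (Subgroup.nontrivial_iff_ne_bot _).2 fun hb =>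
        huv (Subgroup.mem_center_iff.1
          ((hπ1 v0).1 ((Subgroup.mem_bot).1 (hb ▸ Subgroup.mem_map_of_mem π hv0))) u0)
      have hp : IsPGroup 2 ((S : Subgroup G).map π) := S.isPGroup'.map π
      haveI := hp.center_nontrivial
      obtain ⟨m, hm0, hm⟩ := (hp.to_subgroup (Subgroup.center _)).nontrivial_iff_card.1 this
      obtain ⟨c, hc⟩ := exists_prime_orderOf_dvd_card' 2 (hm ▸ dvd_pow_self 2 hm0.ne')
      obtain ⟨t, htS, htc⟩ := (c : ((S : Subgroup G).map π)).2
      have ho : orderOf (π t) = 2 := by rw [htc, Subgroup.orderOf_coe, Subgroup.orderOf_coe, hc]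
      have htZ : t ∉ Subgroup.center G := fun h => by simp [(hπ1 t).2 h] at ho
      obtain ⟨s, hs, hst⟩ : ∃ s ∈ (S : Subgroup G), ¬ Commute t s := by
        by_contra hall
        push Not at hall
        exact htZ (hZS t htS hall)
      have hinv : ∀ a : G ⧸ Subgroup.center G, a * a = 1 → a ≠ 1 → Invol (e a) := fun a h1 h2 =>
        ⟨by rw [← map_mul, h1, map_one], fun h => h2 (e.map_eq_one_iff.1 h)⟩
      obtain ⟨k, hk⟩ := invol_conj (F := F) (by rwa [Nat.card_eq_fintype_card])
        (hinv (π t) (by rw [← pow_two, ← ho, pow_orderOf_eq_one]) (fun h => htZ ((hπ1 t).1 h)))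
        (hinv (π x) hsq (fun h => hx ((hπ1 x).1 h)))
      obtain ⟨q, rfl⟩ := e.surjective k
      obtain ⟨h, rfl⟩ := QuotientGroup.mk'_surjective (Subgroup.center G) q
      rw [← map_inv, ← map_mul, ← map_mul] at hk
      have hxh : π (h * t * h⁻¹) = π x := by
        rw [map_mul, map_mul, map_inv]; exact e.injective hk
      have hz : (h * t * h⁻¹)⁻¹ * x ∈ Subgroup.center G := by
        rw [← hπ1, map_mul, map_inv, hxh, inv_mul_cancel]
      set c' := (h * t * h⁻¹)⁻¹ * x with hc'
      have hx' : x = h * t * h⁻¹ * c' := by rw [hc', mul_inv_cancel_left]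
      refine fun a ha b hb => abelian_centralizer_of_moved hsimp hperf hsub (g := h * s * h⁻¹) ?_ ?_ a b
        (Subgroup.mem_centralizer_singleton_iff.1 ha) (Subgroup.mem_centralizer_singleton_iff.1 hb)
      · rw [mem_modCent_iff, ← hπ1]
        have hcs : Commute (π t) (π s) := by
          have := Subgroup.mem_center_iff.1 (c : Subgroup.center ((S : Subgroup G).map π)).2
            ⟨π s, Subgroup.mem_map_of_mem π hs⟩
          rw [htc]
          exact (congrArg Subtype.val this).symm
        simp only [map_mul, map_inv, ← hxh]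
        rw [show π h * π s * (π h)⁻¹ * (π h * π t * (π h)⁻¹) * (π h * π s * (π h)⁻¹)⁻¹ *
          (π h * π t * (π h)⁻¹)⁻¹ = π h * (π s * π t * (π s)⁻¹ * (π t)⁻¹) * (π h)⁻¹ by group,
          ← hcs.eq, mul_inv_cancel_right, mul_inv_cancel, mul_one, mul_inv_cancel]
      · intro hcomm
        have h1 : Commute (h * s * h⁻¹) (h * t * h⁻¹) := by
          have := hcomm.mul_right ((Subgroup.mem_center_iff.1 (inv_mem hz) (h * s * h⁻¹) : Commute _ c'⁻¹))
          rwa [hx', mul_inv_cancel_right] at this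
        exact hst (show Commute t s from (Commute.conj_iff h).1 h1.symm)
    · obtain ⟨g0, hg0⟩ := SL2.proj_surjective (e (π x))
      obtain ⟨k, hk⟩ := exists_conj_eq_inv hi.symm g0
      obtain ⟨q, hq⟩ := e.surjective (SL2.proj k)
      obtain ⟨g, rfl⟩ := QuotientGroup.mk'_surjective (Subgroup.center G) q
      have hgx : π (g * x * g⁻¹) = (π x)⁻¹ := e.injective (by
        rw [map_mul, map_mul, map_inv, map_mul, map_mul, map_inv, hq, ← hg0, ← map_inv, ← map_mul,
          ← map_mul, hk, map_inv, hg0, map_inv])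
      have hz : x * (g * x * g⁻¹) ∈ Subgroup.center G := by
        rw [← hπ1, map_mul, hgx, mul_inv_cancel]
      refine CfsgLib.CAMinimal.comm_of_conj hsub hmax hx (g := g) ?_ fun h => hsq ?_
      · have := mul_mem (Subgroup.mem_sup_left (T := Subgroup.center G) (inv_mem (Subgroup.mem_zpowers x)))
          (Subgroup.mem_sup_right (S := Subgroup.zpowers x) hz)
        rwa [inv_mul_cancel_left] at this
      · rw [h] at hgx
        nth_rw 2 [hgx]
        exact mul_inv_cancel _
  · have h2 : 2 ∣ Nat.card (Subgroup.center G) := by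
      haveI := S.isPGroup'.center_nontrivial
      obtain ⟨m, hm0, hm⟩ := (S.isPGroup'.to_subgroup (Subgroup.center _)).nontrivial_iff_card.1 this
      obtain ⟨c, hc⟩ := exists_prime_orderOf_dvd_card' 2 (hm ▸ dvd_pow_self 2 hm0.ne')
      have hcz : ((c : (S : Subgroup G)) : G) ∈ Subgroup.center G :=
        hZS _ (c : (S : Subgroup G)).2 fun s hs =>
          (congrArg Subtype.val (Subgroup.mem_center_iff.1 c.2 ⟨s, hs⟩)).symm
      have hd := Subgroup.orderOf_dvd_natCard _ hcz
      rwa [Subgroup.orderOf_coe, Subgroup.orderOf_coe, hc] at hd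
    obtain ⟨f⟩ := nonempty_sl2_equiv hperf hodd h3 h9 e h2
    have hns : NonScalar ((f.symm x : SL(2, F)) : Matrix (Fin 2) (Fin 2) F) := by
      by_contra hn
      have hm := Subgroup.mem_center_iff.1 ((mem_center_iff_not_nonScalar _).2 hn)
      exact hx (Subgroup.mem_center_iff.2 fun b => f.symm.injective (by rw [map_mul, map_mul, hm]))
    intro u hu v hv
    have mem : ∀ w ∈ Subgroup.centralizer ({x} : Set G), f.symm w ∈ cent (f.symm x) := fun w hw =>
      mem_cent_iff.2 (by rw [← map_mul, ← map_mul, Subgroup.mem_centralizer_singleton_iff.1 hw])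
    exact f.symm.injective (by rw [map_mul, map_mul, cent_comm hns (mem u hu) (mem v hv)])

end CfsgLib.MinNonCA
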