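import Cfsg.Agent.Lib.MinNonCA.NonAbelian
import Cfsg.Agent.Lib.MinNonCA.IsCA
import Cfsg.Agent.Lib.MinNonCA.AbelianPSL
import Cfsg.Agent.Lib.MinNonCA.AbelianD
import Cfsg.Agent.Lib.MinNonCA.Multiplier
import Cfsg.Agent.Lib.Invol.AICSplit
import Cfsg.Agent.S5748
import Cfsg.Agent.S0205

/-!
A quasisimple group all of whose proper subgroups are CA, and which is not CA itself, is a simple
linear group of dimension two with Sylow 2-subgroups of order four (S4369).
-/

set_option autoImplicit false
set_option linter.style.haveILetI false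
set_option linter.unusedSectionVars false

namespace CfsgLib.MinNonCA

variable {G : Type*} [Group G] [Finite G]

theorem not_solvable_of_perfect (hperf : commutator G = ⊤) {u v : G} (huv : ¬ Commute u v) :
    ¬ Group.IsSolvable G := fun hs => by
  haveI := hs
  haveI : Nontrivial G := ⟨⟨u, 1, fun h => huv (h ▸ Commute.one_left v)⟩⟩
  exact (Group.IsSolvable.commutator_lt_top_of_nontrivial G).ne hperf

/-- A simple linear group which is the central quotient of a perfect group has degree over three. -/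
theorem three_lt_card (hperf : commutator G = ⊤)
    {u v : G} (huv : ¬ Commute u v) {F : Type} [Field F] [Fintype F] (hodd : Odd (Fintype.card F))
    (e : (G ⧸ Subgroup.center G) ≃* Matrix.ProjectiveSpecialLinearGroup (Fin 2) F) :
    3 < Fintype.card F := by
  by_contra hlt
  have h2 : 2 ≤ Fintype.card F := Fintype.one_lt_card
  have h3 : Fintype.card F = 3 := by
    obtain ⟨j, hj⟩ := hodd
    omega
  have hc := CfsgLib.SL2.card_PSL (F := F)
  rw [← Nat.card_congr e.toEquiv, Nat.card_eq_fintype_card (α := F), h3] at hc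
  norm_num at hc
  have hsol := Cfsg.Agent.S0144.result (G := G ⧸ Subgroup.center G) 2 3 2 1 Nat.prime_two Nat.prime_three (by omega)
  haveI := hsol
  haveI : Group.IsSolvable (Subgroup.center G) :=
    Group.isSolvable_of_comm fun a b => Subtype.ext (Subgroup.mem_center_iff.mp b.2 a.1)
  exact not_solvable_of_perfect hperf huv (Group.isSolvable_of_ker_le_range (Subgroup.center G).subtype
    (QuotientGroup.mk' (Subgroup.center G)) (by simp))

/-- With an abelian Sylow 2-subgroup some involution has a nonabelian centraliser. -/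
theorem exists_nonabelian_invol (hsimp : IsSimpleGroup (G ⧸ Subgroup.center G)) (hperf : commutator G = ⊤)
    (S : Sylow 2 G) (hab : ∀ x ∈ (S : Subgroup G), ∀ y ∈ (S : Subgroup G), Commute x y)
    (hnCA : ∃ x : G, x ∉ Subgroup.center G ∧
      ∃ u v : G, Commute u x ∧ Commute v x ∧ ¬ Commute u v) :
    ∃ t ∈ (S : Subgroup G), t ≠ 1 ∧ ¬ AbelianCent t := by
  classical
  haveI : Fact (Nat.Prime 2) := ⟨Nat.prime_two⟩
  obtain ⟨x, hx, u, v, hu, hv, huv⟩ := hnCA
  by_contra hno
  push Not at hno
  have hns := not_solvable_of_perfect hperf huv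
  -- every involution has abelian centraliser
  have hI : CfsgLib.Invol.AIC.AbInvCent G := by
    intro t a b ht ht1 ha hb
    obtain ⟨g, hg⟩ := CfsgLib.Transfer.exists_map_conj_le_sylow
      (IsPGroup.of_card (n := 1) (by rw [Nat.card_zpowers, orderOf_eq_prime (by rw [pow_two]; exact ht) ht1, pow_one]) :
        IsPGroup 2 (Subgroup.zpowers t)) S
    have htS : g * t * g⁻¹ ∈ (S : Subgroup G) := hg ⟨t, Subgroup.mem_zpowers t, rfl⟩
    have h := hno _ htS (fun e => ht1 (conj_eq_one_iff.mp e))
      (MulAut.conj g a) (MulAut.conj g b) (ha.map (MulAut.conj g).toMonoidHom) (hb.map (MulAut.conj g).toMonoidHom)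
    exact (MulAut.conj g).injective (by rw [map_mul, map_mul]; exact h.eq)
  -- the Sylow subgroup is neither trivial, cyclic nor normal
  obtain ⟨t, htS, ht⟩ : ∃ t ∈ (S : Subgroup G), orderOf t = 2 := by
    have heven : 2 ∣ Nat.card G := by
      by_contra h
      exact hns (Cfsg.Agent.S0205.result (Nat.not_even_iff_odd.mp fun he => h he.two_dvd))
    obtain ⟨t₀, ht₀⟩ := exists_prime_orderOf_dvd_card' 2 heven
    obtain ⟨g, hg⟩ := CfsgLib.Transfer.exists_map_conj_le_sylow
      (IsPGroup.of_card (n := 1) (by rw [Nat.card_zpowers, ht₀, pow_one]) :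
        IsPGroup 2 (Subgroup.zpowers t₀)) S
    exact ⟨g * t₀ * g⁻¹, hg ⟨t₀, Subgroup.mem_zpowers t₀, rfl⟩, by
      rw [← MulAut.conj_apply, MulEquiv.orderOf_eq, ht₀]⟩
  have ht1 : t ≠ 1 := fun e => by rw [e, orderOf_one] at ht; omega
  have hnc : ¬ IsCyclic (S : Subgroup G) := by
    intro hc
    obtain ⟨n, hn, hnt⟩ := exists_normalizer_moving S hab hperf htS ht1
    refine hnt (mul_inv_eq_iff_eq_mul.mp ?_)
    haveI := hc
    haveI : Fintype (S : Subgroup G) := Fintype.ofFinite _
    by_contra hne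
    have hsS : n * t * n⁻¹ ∈ (S : Subgroup G) := (Subgroup.mem_normalizer_iff.mp hn t).mp htS
    have ht2 : t ^ 2 = 1 := by rw [← ht]; exact pow_orderOf_eq_one t
    have hT : ({1, ⟨t, htS⟩, ⟨_, hsS⟩} : Finset (S : Subgroup G)) ⊆ Finset.univ.filter (fun r => r ^ 2 = 1) := by
      intro r hr
      simp only [Finset.mem_insert, Finset.mem_singleton] at hr
      refine Finset.mem_filter.2 ⟨Finset.mem_univ _, ?_⟩
      rcases hr with rfl | rfl | rfl
      · exact one_pow 2
      · exact Subtype.ext ht2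
      · exact Subtype.ext (by show (n * t * n⁻¹) ^ 2 = 1; rw [conj_pow, ht2, mul_one, mul_inv_cancel])
    have h3 : ({1, ⟨t, htS⟩, ⟨_, hsS⟩} : Finset (S : Subgroup G)).card = 3 := Finset.card_eq_three.2
      ⟨_, _, _, fun e => ht1 (congrArg Subtype.val e).symm,
        fun e => ht1 (conj_eq_one_iff.mp (congrArg Subtype.val e).symm),
        fun e => hne (congrArg Subtype.val e).symm, rfl⟩
    have := (Finset.card_le_card hT).trans (IsCyclic.card_pow_eq_one_le (by norm_num))
    omega
  have hnn : ¬ (S : Subgroup G).Normal := by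
    intro hN
    by_cases hS : (S : Subgroup G) = ⊤
    · refine huv ?_
      exact hab u (hS ▸ Subgroup.mem_top u) v (hS ▸ Subgroup.mem_top v)
    · exact ht1 (center_inf_eq_one S hab hperf htS
        (CfsgLib.CAMinimal.le_center_of_normal hsimp hperf _ hN hS htS))
  obtain ⟨F, _, _, A, _, _, _, -, ⟨e⟩⟩ :=
    CfsgLib.Invol.AIC.IsOddCover.split (CfsgLib.Invol.AIC.isOddCover hI S hnc hnn)
  -- the abelian factor is trivial
  set φ := (MonoidHom.snd (Matrix.SpecialLinearGroup (Fin 2) F) A).comp e.toMonoidHom with hφ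
  have hker : commutator G ≤ φ.ker := Abelianization.commutator_subset_ker φ
  rw [hperf] at hker
  have hsnd : ∀ g : G, (e g).2 = 1 := fun g => hker (Subgroup.mem_top g)
  have hns2 : CfsgLib.SL2.NonScalar (((e x).1 : Matrix.SpecialLinearGroup (Fin 2) F) : Matrix (Fin 2) (Fin 2) F) := by
    by_contra hn
    have h1 := (CfsgLib.SL2.mem_center_iff_not_nonScalar _).2 hn
    refine hx (Subgroup.mem_center_iff.mpr fun g => e.injective ?_)
    rw [map_mul, map_mul]
    exact Prod.ext (Subgroup.mem_center_iff.mp h1 _) (by simp [hsnd])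
  refine huv ?_
  have hc : ∀ w, Commute w x → (e w).1 ∈ CfsgLib.SL2.cent (e x).1 := fun w hw =>
    CfsgLib.SL2.mem_cent_iff.2 ((hw.map e.toMonoidHom).map (MonoidHom.fst _ _)).eq.symm
  have h12 := CfsgLib.SL2.cent_comm hns2 (hc u hu) (hc v hv)
  exact e.injective (by rw [map_mul, map_mul]; exact Prod.ext h12 (by simp [hsnd]))

theorem exists_psl (hsimp : IsSimpleGroup (G ⧸ Subgroup.center G)) (hperf : commutator G = ⊤)
    (hsub : ∀ H : Subgroup G, H ≠ ⊤ →
      ∀ x : H, x ∉ Subgroup.center H → IsMulCommutative (Subgroup.centralizer ({x} : Set H)))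
    (hnCA : ∃ x : G, x ∉ Subgroup.center G ∧ ¬ IsMulCommutative (Subgroup.centralizer ({x} : Set G))) :
    ∃ (F : Type) (_ : Field F) (_ : Fintype F), Odd (Fintype.card F) ∧ 3 < Fintype.card F ∧
      ¬ 8 ∣ Nat.card G ∧ Nonempty (G ≃* Matrix.ProjectiveSpecialLinearGroup (Fin 2) F) := by
  classical
  haveI : Fact (Nat.Prime 2) := ⟨Nat.prime_two⟩
  obtain ⟨x, hx, hxc⟩ := hnCA
  obtain ⟨u, v, hu, hv, huv⟩ : ∃ u v : G, Commute u x ∧ Commute v x ∧ ¬ Commute u v := by
    by_contra hcon
    push Not at hcon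
    exact hxc ⟨⟨fun a b => Subtype.ext (hcon a b (Subgroup.mem_centralizer_singleton_iff.mp a.2)
      (Subgroup.mem_centralizer_singleton_iff.mp b.2)).eq⟩⟩
  obtain ⟨S⟩ : Nonempty (Sylow 2 G) := inferInstance
  by_cases hab : ∀ x ∈ (S : Subgroup G), ∀ y ∈ (S : Subgroup G), Commute x y
  swap
  · push Not at hab
    obtain ⟨F, _, _, hodd, h3, ⟨e⟩⟩ := exists_psl_of_nonabelian hsimp hperf hsub S hab
    exact absurd (isCA_of_psl_nonabelian hsimp hperf hsub S hab hodd h3 e x hx) hxc
  obtain ⟨t, htS, ht1, htna⟩ := exists_nonabelian_invol hsimp hperf S hab ⟨x, hx, u, v, hu, hv, huv⟩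
  have hD' := odd_centralizer_le_center hsimp hperf hsub S hab htS ht1 htna
  obtain ⟨F, iF, iF', hodd, ⟨e⟩⟩ := psl_of_odd_central hsimp hperf hsub S hab htS ht1 htna hD'
  obtain ⟨h4, -⟩ := four_group hsimp hperf hsub S hab htS ht1 htna
  have h8 : ¬ 8 ∣ Nat.card G := by
    intro h
    have h1 := S.pow_dvd_card_of_pow_dvd_card (n := 3) (by norm_num; exact h)
    rw [h4] at h1
    norm_num at h1
  have h3 := three_lt_card hperf huv hodd e
  have hbot : Subgroup.center G = ⊥ := by
    rw [Subgroup.eq_bot_iff_forall]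
    intro z hz
    by_contra hz1
    obtain ⟨p, hp, hpd⟩ := Nat.exists_prime_and_dvd (n := orderOf z) (fun h => hz1 (orderOf_eq_one_iff.1 h))
    have ho : orderOf (z ^ (orderOf z / p)) = p := orderOf_pow_orderOf_div (orderOf_pos z).ne' hpd
    have hw := pow_mem hz (orderOf z / p)
    by_cases hp2 : p = 2
    · subst hp2
      have h1 := center_sq_eq_one hperf S hab hw (by nth_rewrite 2 [← ho]; exact pow_orderOf_eq_one _)
      rw [h1, orderOf_one] at ho
      omega
    · obtain ⟨h9, -⟩ := odd_center_part hperf hodd h3 e hp hp2 hw ho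
      have hc := CfsgLib.SL2.card_PSL (F := F)
      rw [← Nat.card_congr e.toEquiv, Nat.card_eq_fintype_card (α := F), h9] at hc
      norm_num at hc
      refine h8 (dvd_trans ?_ (Subgroup.card_quotient_dvd_card (Subgroup.center G)))
      omega
  exact ⟨F, iF, iF', hodd, h3, h8,
    ⟨((QuotientGroup.quotientBot (G := G)).symm.trans (QuotientGroup.quotientMulEquivOfEq hbot.symm)).trans e⟩⟩

end CfsgLib.MinNonCA
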