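import Mathlib
import Cfsg.Agent.Lib.Transfer.Thompson

/-!
Quasisimple groups all of whose proper subgroups are CA-groups: elements moved into their
translates by the centre, and the shape of a nonabelian Sylow 2-subgroup modulo the centre (S4369).
-/

set_option autoImplicit false
set_option linter.style.haveILetI false
set_option linter.unusedSectionVars false

namespace CfsgLib.MinNonCA

variable {G : Type*} [Group G]

/-- The elements commuting with `a` modulo the centre. -/
def modCent (a : G) : Subgroup G :=
  (Subgroup.centralizer ({QuotientGroup.mk' (Subgroup.center G) a} : Set (G ⧸ Subgroup.center G))).comap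
    (QuotientGroup.mk' (Subgroup.center G))

theorem mem_modCent_iff {a g : G} :
    g ∈ modCent a ↔ g * a * g⁻¹ * a⁻¹ ∈ Subgroup.center G := by
  rw [modCent, Subgroup.mem_comap, Subgroup.mem_centralizer_singleton_iff,
    QuotientGroup.mk'_apply, QuotientGroup.mk'_apply, ← QuotientGroup.mk_mul, ← QuotientGroup.mk_mul,
    QuotientGroup.eq]
  constructor
  · intro h
    have e : g * a * g⁻¹ * a⁻¹ = g * a * ((g * a)⁻¹ * (a * g))⁻¹ * (g * a)⁻¹ := by group
    rw [e]
    exact (inferInstance : (Subgroup.center G).Normal).conj_mem _ (inv_mem h) (g * a)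
  · intro h
    have e : (g * a)⁻¹ * (a * g) = (g * a)⁻¹ * (g * a * g⁻¹ * a⁻¹)⁻¹ * (g * a) := by group
    rw [e]
    simpa using (inferInstance : (Subgroup.center G).Normal).conj_mem _ (inv_mem h) (g * a)⁻¹

theorem centralizer_le_modCent (a : G) : Subgroup.centralizer ({a} : Set G) ≤ modCent a := fun g hg => by
  rw [mem_modCent_iff, Subgroup.mem_centralizer_singleton_iff.mp hg, mul_inv_cancel_right, mul_inv_cancel]
  exact one_mem _

theorem self_mem_modCent (a : G) : a ∈ modCent a :=
  centralizer_le_modCent a (Subgroup.mem_centralizer_singleton_iff.mpr rfl)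

theorem mem_center_iff' {z : G} : z ∈ Subgroup.center G ↔ ∀ g : G, Commute g z :=
  Subgroup.mem_center_iff

/-- `modCent` does not change modulo the centre. -/
theorem commute_of_mul_center {g a z : G} (hz : z ∈ Subgroup.center G) (h : Commute g a) :
    Commute g (a * z) := h.mul_right (mem_center_iff'.mp hz g)

variable (hsimp : IsSimpleGroup (G ⧸ Subgroup.center G)) (hperf : commutator G = ⊤)

include hsimp hperf

theorem modCent_ne_top {a : G} (ha : a ∉ Subgroup.center G) : modCent a ≠ ⊤ := by
  intro h
  haveI := hsimp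
  have hc : QuotientGroup.mk' (Subgroup.center G) a ∈ Subgroup.center (G ⧸ Subgroup.center G) := by
    rw [Subgroup.mem_center_iff]
    intro q
    obtain ⟨g, rfl⟩ := QuotientGroup.mk'_surjective (Subgroup.center G) q
    exact Subgroup.mem_centralizer_singleton_iff.mp (Subgroup.mem_comap.mp (h ▸ Subgroup.mem_top g : g ∈ modCent a))
  rcases (inferInstance : (Subgroup.center (G ⧸ Subgroup.center G)).Normal).eq_bot_or_eq_top with e | e
  · rw [e, Subgroup.mem_bot, QuotientGroup.mk'_apply, QuotientGroup.eq_one_iff] at hc
    exact ha hc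
  · have hle : commutator G ≤ Subgroup.center G := by
      rw [commutator_eq_closure, Subgroup.closure_le]
      rintro x ⟨p, q, rfl⟩
      rw [SetLike.mem_coe, ← QuotientGroup.eq_one_iff, ← QuotientGroup.mk'_apply, map_commutatorElement,
        commutatorElement_eq_one_iff_commute]
      exact mem_center_iff'.mp (e ▸ Subgroup.mem_top _) _
    rw [hperf, top_le_iff] at hle
    exact ha (hle ▸ Subgroup.mem_top a)

variable (hsub : ∀ H : Subgroup G, H ≠ ⊤ →
  ∀ x : H, x ∉ Subgroup.center H → IsMulCommutative (Subgroup.centralizer ({x} : Set H)))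

include hsub

/-- An element moved into a translate by the centre has an abelian centraliser. -/
theorem abelian_centralizer_of_moved {a g : G} (hg : g ∈ modCent a) (hga : ¬ Commute g a) :
    ∀ x y : G, Commute x a → Commute y a → Commute x y := by
  have ha : a ∉ Subgroup.center G := fun h => hga (mem_center_iff'.mp h g)
  have hne := modCent_ne_top hsimp hperf ha
  intro x y hx hy
  have hxm := centralizer_le_modCent a (Subgroup.mem_centralizer_singleton_iff.mpr hx.eq)
  have hym := centralizer_le_modCent a (Subgroup.mem_centralizer_singleton_iff.mpr hy.eq)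
  have hnc : (⟨a, self_mem_modCent a⟩ : modCent a) ∉ Subgroup.center (modCent a) := fun h =>
    hga (congrArg Subtype.val (Subgroup.mem_center_iff.mp h ⟨g, hg⟩))
  have hab := hsub (modCent a) hne _ hnc
  exact congrArg (Subgroup.subtype (modCent a)) (congrArg Subtype.val
    (hab.is_comm.comm ⟨⟨x, hxm⟩, Subgroup.mem_centralizer_singleton_iff.mpr (Subtype.ext hx.eq)⟩
      ⟨⟨y, hym⟩, Subgroup.mem_centralizer_singleton_iff.mpr (Subtype.ext hy.eq)⟩))

omit hsimp hperf in
/-- In a proper subgroup two elements commuting with a third noncentral one commute. -/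
theorem commute_of_mem {H : Subgroup G} (hH : H ≠ ⊤) {a g x y : G} (ha : a ∈ H) (hgH : g ∈ H)
    (hga : ¬ Commute g a) (hx : x ∈ H) (hy : y ∈ H) (hxa : Commute x a) (hya : Commute y a) :
    Commute x y := by
  have hnc : (⟨a, ha⟩ : H) ∉ Subgroup.center H := fun h =>
    hga (congrArg Subtype.val (Subgroup.mem_center_iff.mp h ⟨g, hgH⟩))
  exact congrArg (Subgroup.subtype H) (congrArg Subtype.val ((hsub H hH _ hnc).is_comm.comm
    ⟨⟨x, hx⟩, Subgroup.mem_centralizer_singleton_iff.mpr (Subtype.ext hxa.eq)⟩
    ⟨⟨y, hy⟩, Subgroup.mem_centralizer_singleton_iff.mpr (Subtype.ext hya.eq)⟩))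

end CfsgLib.MinNonCA
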