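import Cfsg.Agent.S0042
import Cfsg.Agent.S0205
import Cfsg.Agent.S0223
import Cfsg.Agent.S1225
import Cfsg.Agent.Lib.Invol.AIC
import Cfsg.Agent.Lib.Transfer.Sylow
import Cfsg.Agent.Lib.Fitting.Basic
import Cfsg.Agent.Lib.Groups.SelfCentPrime

/-!
In a quasisimple minimal non-CA group with a nonabelian Sylow 2-subgroup `S` whose image in the
central quotient is a four group or dihedral, the part `D` of the odd core `O` of the centraliser of
the central involution that commutes with a second involution of the four group is central.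
-/

set_option autoImplicit false
set_option linter.style.haveILetI false
set_option linter.unusedSectionVars false

namespace CfsgLib.MinNonCA

open scoped commutatorElement

universe u

/-- A group with a regular abelian odd subgroup on its involutions, as it would arise from the
strongly embedded centraliser, does not exist. -/
theorem regular_false {Q : Type u} [Group Q] [Finite Q] (R : Subgroup Q) (z x : Q)
    (hz : z * z = 1) (hz1 : z ≠ 1) (hx : x * x = 1) (hx1 : x ≠ 1) (hxz : x ≠ z) (hxzc : Commute x z)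
    (hab : ∀ r ∈ R, ∀ r' ∈ R, Commute r r') (hodd : Odd (Nat.card R))
    (hreg : ∀ r ∈ R, Commute r z → r = 1)
    (htrans : ∀ i : Q, i * i = 1 → i ≠ 1 → ∃ r ∈ R, r * z * r⁻¹ = i)
    (hTI : ∀ q : Q, ∀ e ∈ R, e ≠ 1 → q * e * q⁻¹ ∈ R → ∀ r ∈ R, ∀ r' ∈ R,
      Commute (q * r * q⁻¹) r')
    (hnorm : ∀ o c : Q, Odd (orderOf o) → Commute o z → Commute c z →
      c * o * c⁻¹ ∈ Subgroup.zpowers o)
    (hO : ∀ N : Subgroup Q, N.Normal → Odd (Nat.card N) → N = ⊥)
    (hO2 : ∀ N : Subgroup Q, N.Normal → IsPGroup 2 N → N = ⊥) : False := by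
  classical
  have odd_of_mem : ∀ r ∈ R, Odd (orderOf r) := fun r hr =>
    hodd.of_dvd_nat (Subgroup.orderOf_dvd_natCard R hr)
  have eq_one_of_sq : ∀ r : Q, Odd (orderOf r) → r * r = 1 → r = 1 := fun r ho h =>
    CfsgLib.Invol.AIC.eq_one_of_odd ho h
  have hzinv : z⁻¹ = z := inv_eq_of_mul_eq_one_right hz
  -- no involution normalises `R`
  have hnoinv : ∀ i : Q, i * i = 1 → i ≠ 1 → i ∉ Subgroup.normalizer (R : Set Q) := by
    intro i hi hi1 hin
    obtain ⟨r₀, hr₀, rfl⟩ := htrans i hi hi1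
    have hzn : z ∈ Subgroup.normalizer (R : Set Q) := by
      have h := mul_mem (mul_mem (inv_mem (Subgroup.le_normalizer hr₀)) hin)
        (Subgroup.le_normalizer hr₀)
      rwa [show r₀⁻¹ * (r₀ * z * r₀⁻¹) * r₀ = z by group] at h
    have hinv : ∀ r ∈ R, z * r * z⁻¹ = r⁻¹ := by
      intro r hr
      have hzr : z * r * z⁻¹ ∈ R := (Subgroup.mem_normalizer_iff.mp hzn r).mp hr
      have hw : Commute (z * r * z⁻¹ * r) z := by
        show z * r * z⁻¹ * r * z = z * (z * r * z⁻¹ * r)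
        rw [(hab _ hzr _ hr).eq]
        calc r * (z * r * z⁻¹) * z = r * z * r := by group
          _ = z * (z⁻¹ * r * z * r) := by group
          _ = z * (z * r * z⁻¹ * r) := by rw [hzinv]
          _ = _ := by rw [(hab _ hzr _ hr).eq]
      exact eq_inv_of_mul_eq_one_left (hreg _ (mul_mem hzr hr) hw)
    obtain ⟨r, hr, hrx⟩ := htrans x hx hx1
    have h1 : z * r⁻¹ = r * z := by
      calc z * r⁻¹ = z * r⁻¹ * z⁻¹ * z := by group
        _ = (z * r * z⁻¹)⁻¹ * z := by group
        _ = r * z := by rw [hinv r hr, inv_inv]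
    have h2 : x = r * r * z := by rw [← hrx, mul_assoc, h1, mul_assoc]
    have h3 : x * z = r * r := by rw [h2, mul_assoc, hz, mul_one]
    have h4 : x * z * (x * z) = 1 := by
      rw [hxzc.symm.mul_mul_mul_comm, hx, hz, one_mul]
    have h5 : r * r = 1 :=
      eq_one_of_sq _ (odd_of_mem _ (mul_mem hr hr)) (by rw [← h3]; exact h4)
    exact hxz (by rw [h2, h5, one_mul])
  -- the normalizer of `R` is `R`
  have hN : ∀ g ∈ Subgroup.normalizer (R : Set Q), g ∈ R := by
    intro g hg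
    have hgi : g * z * g⁻¹ * (g * z * g⁻¹) = 1 := by
      rw [show g * z * g⁻¹ * (g * z * g⁻¹) = g * (z * z) * g⁻¹ by group, hz, mul_one,
        mul_inv_cancel]
    obtain ⟨r, hr, hrg⟩ := htrans _ hgi (fun h => hz1 (conj_eq_one_iff.mp h))
    set c := r⁻¹ * g with hc
    have hcn : c ∈ Subgroup.normalizer (R : Set Q) :=
      mul_mem (inv_mem (Subgroup.le_normalizer hr)) hg
    have hcz : Commute c z := by
      show r⁻¹ * g * z = z * (r⁻¹ * g)
      calc r⁻¹ * g * z = r⁻¹ * (g * z * g⁻¹) * g := by group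
        _ = r⁻¹ * (r * z * r⁻¹) * g := by rw [hrg]
        _ = z * (r⁻¹ * g) := by group
    suffices hc1 : c = 1 by
      rw [hc, inv_mul_eq_one] at hc1
      rw [← hc1]; exact hr
    have hcodd : Odd (orderOf c) := by
      rw [← Nat.not_even_iff_odd]
      intro he
      obtain ⟨k, hk⟩ := he
      have hk0 : k ≠ 0 := by
        have := orderOf_pos c
        omega
      refine hnoinv (c ^ k) (by rw [← pow_add, ← hk, pow_orderOf_eq_one]) ?_ (pow_mem hcn k)
      intro h
      have := Nat.le_of_dvd (Nat.pos_of_ne_zero hk0) (orderOf_dvd_of_pow_eq_one h)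
      omega
    set C := Subgroup.zpowers c with hC
    have hCN : C ≤ Subgroup.normalizer (R : Set Q) := Subgroup.zpowers_le.mpr hcn
    have hle : Subgroup.normalClosure ({c} : Set Q) ≤ C ⊔ R := by
      refine (Subgroup.closure_le _).mpr ?_
      intro w hw
      obtain ⟨c', hc', hconj⟩ := Group.mem_conjugatesOfSet_iff.mp hw
      rw [Set.mem_singleton_iff] at hc'
      obtain ⟨q, hq⟩ := isConj_iff.mp hconj
      rw [hc'] at hq
      have hqi : q * z * q⁻¹ * (q * z * q⁻¹) = 1 := by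
        rw [show q * z * q⁻¹ * (q * z * q⁻¹) = q * (z * z) * q⁻¹ by group, hz, mul_one,
          mul_inv_cancel]
      obtain ⟨r₁, hr₁, hr₁q⟩ := htrans _ hqi (fun h => hz1 (conj_eq_one_iff.mp h))
      have hcz' : Commute (r₁⁻¹ * q) z := by
        show r₁⁻¹ * q * z = z * (r₁⁻¹ * q)
        calc r₁⁻¹ * q * z = r₁⁻¹ * (q * z * q⁻¹) * q := by group
          _ = r₁⁻¹ * (r₁ * z * r₁⁻¹) * q := by rw [hr₁q]
          _ = z * (r₁⁻¹ * q) := by group
      have h := hnorm c (r₁⁻¹ * q) hcodd hcz hcz'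
      rw [SetLike.mem_coe, ← hq, show q * c * q⁻¹ =
        r₁ * (r₁⁻¹ * q * c * (r₁⁻¹ * q)⁻¹) * r₁⁻¹ by group]
      exact mul_mem (mul_mem (le_sup_right (a := C) hr₁) (le_sup_left (b := R) h))
        (le_sup_right (a := C) (inv_mem hr₁))
    have hcard : Odd (Nat.card ↥(C ⊔ R)) := by
      have h1 : Nat.card ↥(C ⊔ R) ∣ Nat.card C * Nat.card R := by
        set N := Subgroup.normalizer (R : Set Q)
        haveI : (R.subgroupOf N).Normal := Subgroup.normal_in_normalizer
        have hC' : (C.subgroupOf N).map N.subtype = C := by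
          rw [Subgroup.subgroupOf_map_subtype, inf_eq_left.mpr hCN]
        have hR' : (R.subgroupOf N).map N.subtype = R := by
          rw [Subgroup.subgroupOf_map_subtype, inf_eq_left.mpr Subgroup.le_normalizer]
        have h2 := CfsgLib.SelfCent.card_sup_dvd_mul (C.subgroupOf N) (R.subgroupOf N)
        have hc : ∀ X : Subgroup N, Nat.card X = Nat.card (X.map N.subtype) := fun X =>
          (Subgroup.card_map_of_injective N.subtype_injective).symm
        rwa [hc, hc (C.subgroupOf N), hc (R.subgroupOf N),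
          Subgroup.map_sup, hC', hR'] at h2
      refine Odd.of_dvd_nat (Odd.mul ?_ hodd) h1
      rwa [hC, Nat.card_zpowers]
    have hbot := hO _ Subgroup.normalClosure_normal
      (hcard.of_dvd_nat (Subgroup.card_dvd_of_le hle))
    have h := Subgroup.subset_normalClosure (s := ({c} : Set Q)) rfl
    rw [hbot] at h
    exact Subgroup.mem_bot.mp h
  -- a Frobenius complement
  have hFC : Cfsg.IsFrobeniusComplement R := by
    refine ⟨fun h => ?_, fun h => ?_, fun g hg => ?_⟩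
    · obtain ⟨r, hr, hrx⟩ := htrans x hx hx1
      rw [h, Subgroup.mem_bot] at hr
      rw [hr, one_mul, inv_one, mul_one] at hrx
      exact hxz hrx.symm
    · exact hz1 (eq_one_of_sq z (odd_of_mem z (h ▸ Subgroup.mem_top z)) hz)
    · rw [Subgroup.eq_bot_iff_forall]
      intro e he
      obtain ⟨he1, he2⟩ := Subgroup.mem_inf.mp he
      rw [Subgroup.mem_pointwise_smul_iff_inv_smul_mem] at he2
      by_contra hne
      have he3 : g⁻¹ * e * g ∈ R := by simpa [MulAut.smul_def, mul_assoc] using he2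
      refine hg (hN g ?_)
      refine Subgroup.mem_normalizer_fintype fun r hr => hN _ ?_
      have hc := hTI g (g⁻¹ * e * g) he3 (fun h => hne (by
        rw [show e = g * (g⁻¹ * e * g) * g⁻¹ by group, h, mul_one, mul_inv_cancel]))
        (by rw [show g * (g⁻¹ * e * g) * g⁻¹ = e by group]; exact he1) r hr
      refine Subgroup.mem_normalizer_fintype fun r' hr' => ?_
      show g * r * g⁻¹ * r' * (g * r * g⁻¹)⁻¹ ∈ R
      rw [(hc r' hr').eq, mul_inv_cancel_right]
      exact hr'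
  obtain ⟨K, hK, hKn, hKnil⟩ := Cfsg.Agent.S0042.result R hFC
  have hzK : z ∈ K := by
    rw [← SetLike.mem_coe, hK]
    refine Or.inr fun g hg => hz1 ?_
    rw [Subgroup.mem_pointwise_smul_iff_inv_smul_mem] at hg
    have hg' : g⁻¹ * z * g ∈ R := by simpa [MulAut.smul_def, mul_assoc] using hg
    have := eq_one_of_sq _ (odd_of_mem _ hg') (by
      rw [show g⁻¹ * z * g * (g⁻¹ * z * g) = g⁻¹ * (z * z) * g by group, hz, mul_one,
        inv_mul_cancel])
    rw [show z = g * (g⁻¹ * z * g) * g⁻¹ by group, this, mul_one, mul_inv_cancel]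
  haveI := hKn
  haveI := hKnil
  obtain ⟨T, hT⟩ := (IsPGroup.of_card (p := 2) (n := 1) (by
    rw [Nat.card_zpowers, pow_one]
    exact orderOf_eq_prime (by rw [pow_two]; exact Subtype.ext hz)
      (fun h => hz1 (congrArg Subtype.val h))) :
    IsPGroup 2 (Subgroup.zpowers (⟨z, hzK⟩ : K))).exists_le_sylow
  haveI hTn : (T : Subgroup K).Normal := inferInstance
  haveI : (T : Subgroup K).Characteristic := Sylow.characteristic_of_normal T hTn
  have hbot := hO2 ((T : Subgroup K).map K.subtype) inferInstance (T.2.map _)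
  have h : z ∈ (T : Subgroup K).map K.subtype := ⟨⟨z, hzK⟩, hT (Subgroup.mem_zpowers _), rfl⟩
  rw [hbot] at h
  exact hz1 (Subgroup.mem_bot.mp h)

variable {G : Type u} [Group G] [Finite G]

/-- In a proper CA subgroup two elements commuting with a non-central element commute. -/
theorem commute_of_noncentral
    (hsub : ∀ H : Subgroup G, H ≠ ⊤ → ∀ h : H, h ∉ Subgroup.center H →
      IsMulCommutative ↥(Subgroup.centralizer ({h} : Set H)))
    {H : Subgroup G} (hH : H ≠ ⊤) {h w g g' : G} (hh : h ∈ H) (hw : w ∈ H) (hhw : ¬ Commute h w)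
    (hg : g ∈ H) (hgh : Commute g h) (hg' : g' ∈ H) (hg'h : Commute g' h) : Commute g g' := by
  have hnc : (⟨h, hh⟩ : H) ∉ Subgroup.center H := fun hc =>
    hhw (congrArg Subtype.val (Subgroup.mem_center_iff.mp hc ⟨w, hw⟩)).symm
  haveI := hsub H hH ⟨h, hh⟩ hnc
  exact congrArg (fun v : Subgroup.centralizer ({(⟨h, hh⟩ : H)} : Set H) => ((v : H) : G))
    (mul_comm'
      (⟨⟨g, hg⟩, Subgroup.mem_centralizer_singleton_iff.mpr (Subtype.ext hgh.eq)⟩ :
        Subgroup.centralizer ({(⟨h, hh⟩ : H)} : Set H))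
      ⟨⟨g', hg'⟩, Subgroup.mem_centralizer_singleton_iff.mpr (Subtype.ext hg'h.eq)⟩)

set_option maxHeartbeats 4000000 in
/-- `D` is central: the case excluded by strong embedding. -/
theorem central_of_commute (hsimp : IsSimpleGroup (G ⧸ Subgroup.center G))
    (hna : ¬ ∀ g h : G, g * h * g⁻¹ * h⁻¹ ∈ Subgroup.center G)
    (hsub : ∀ H : Subgroup G, H ≠ ⊤ → ∀ h : H, h ∉ Subgroup.center H →
      IsMulCommutative ↥(Subgroup.centralizer ({h} : Set H)))
    (S : Sylow 2 G)
    (hZS : ∀ s ∈ (S : Subgroup G), (∀ t ∈ (S : Subgroup G), Commute s t) → s ∈ Subgroup.center G)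
    (a x : G) (haS : a ∈ (S : Subgroup G)) (hxS : x ∈ (S : Subgroup G))
    (ha2 : a * a ∈ Subgroup.center G) (hx2 : x * x ∈ Subgroup.center G)
    (haZ : a ∉ Subgroup.center G) (hxZ : x ∉ Subgroup.center G) (haxZ : a * x ∉ Subgroup.center G)
    (hax : ¬ Commute a x) (hax' : a * x * a⁻¹ * x⁻¹ ∈ Subgroup.center G)
    (hSa : ∀ s ∈ (S : Subgroup G), s * a * s⁻¹ * a⁻¹ ∈ Subgroup.center G)
    (hone : ∀ s ∈ (S : Subgroup G), s * s ∈ Subgroup.center G → s ∉ Subgroup.center G →
      ∃ g : G, g * s * g⁻¹ * a⁻¹ ∈ Subgroup.center G)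
    (hCS : ∀ s ∈ (S : Subgroup G), s * x * s⁻¹ * x⁻¹ ∈ Subgroup.center G →
      s ∈ Subgroup.closure ({a, x} : Set G) ⊔ Subgroup.center G)
    (O : Subgroup G) (hOodd : Odd (Nat.card O)) (hOab : ∀ o ∈ O, ∀ o' ∈ O, Commute o o')
    (hOa : ∀ o ∈ O, Commute a o) (hOx : ∀ o ∈ O, x * o * x⁻¹ ∈ O)
    (hNa : ∀ g : G, g * a * g⁻¹ * a⁻¹ ∈ Subgroup.center G →
      ∃ o ∈ O, ∃ s ∈ (S : Subgroup G), g = o * s)
    (hS : ∀ s ∈ (S : Subgroup G), (∀ o ∈ O, Commute s o) ∨ (∀ o ∈ O, Commute (x * s) o))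
    (hUniq : ∀ g : G, Commute g a → g * g ∈ Subgroup.center G → g ∉ Subgroup.center G →
      g * a⁻¹ ∈ Subgroup.center G)
    {d : G} (hd : d ∈ O) (hdx : Commute x d) : d ∈ Subgroup.center G := by
  classical
  by_contra hdZ
  set Z := Subgroup.center G with hZdef
  have hZc : ∀ z ∈ Z, ∀ g : G, Commute g z := fun z hz g => Subgroup.mem_center_iff.mp hz g
  set mkG := QuotientGroup.mk' Z with hmkG
  have hmk : ∀ g h : G, mkG g = mkG h ↔ g * h⁻¹ ∈ Z := fun g h => by
    rw [← mul_inv_eq_one, ← map_inv, ← map_mul]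
    exact QuotientGroup.eq_one_iff _
  have hmk1 : ∀ g : G, mkG g = 1 ↔ g ∈ Z := fun g => QuotientGroup.eq_one_iff g
  have hZ_proper : ∀ H : Subgroup G, (∃ s ∈ H, s ∉ Z) → (∀ g : G, ∀ h ∈ H, g * h * g⁻¹ ∈ H) →
      Z ≤ H → H = ⊤ := by
    intro H hs hn hZH
    haveI : H.Normal := ⟨fun h hh g => hn g h hh⟩
    rcases hsimp.eq_bot_or_eq_top_of_normal (H.map mkG)
      (Subgroup.Normal.map inferInstance _ (QuotientGroup.mk'_surjective Z)) with h | h
    · obtain ⟨s, hs, hsZ⟩ := hs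
      exact absurd ((hmk1 s).mp (Subgroup.mem_bot.mp (h ▸ Subgroup.mem_map_of_mem mkG hs))) hsZ
    · rw [← Subgroup.comap_map_eq_self (f := mkG) (H := H)
        (by rw [hmkG, QuotientGroup.ker_mk']; exact hZH), h, Subgroup.comap_top]
  -- `D` and its centraliser `M`
  set D : Subgroup G := O ⊓ Subgroup.centralizer ({x} : Set G) with hDdef
  have hDmem : ∀ δ : G, δ ∈ D ↔ δ ∈ O ∧ Commute x δ := fun δ => by
    rw [hDdef, Subgroup.mem_inf, Subgroup.mem_centralizer_singleton_iff]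
    exact ⟨fun h => ⟨h.1, h.2.symm⟩, fun h => ⟨h.1, h.2.symm⟩⟩
  set M : Subgroup G := Subgroup.centralizer (D : Set G) with hMdef
  have hMmem : ∀ g : G, g ∈ M ↔ ∀ δ ∈ D, Commute g δ := fun g => by
    rw [hMdef, Subgroup.mem_centralizer_iff]
    exact ⟨fun h δ hδ => (h δ hδ).symm, fun h δ hδ => (h δ hδ).symm⟩
  have haM : a ∈ M := (hMmem a).mpr fun δ hδ => hOa δ ((hDmem δ).mp hδ).1
  have hxM : x ∈ M := (hMmem x).mpr fun δ hδ => ((hDmem δ).mp hδ).2
  have hOM : O ≤ M := fun o ho => (hMmem o).mpr fun δ hδ => hOab o ho δ ((hDmem δ).mp hδ).1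
  have hdD : d ∈ D := (hDmem d).mpr ⟨hd, hdx⟩
  have hMtop : M ≠ ⊤ := fun h => hdZ (Subgroup.mem_center_iff.mpr fun g =>
    ((hMmem g).mp (h ▸ Subgroup.mem_top g) d hdD).eq)
  have hZM : Z ≤ M := fun z hz => (hMmem z).mpr fun δ _ => (hZc z hz δ).symm
  -- a proper subgroup containing `a` and `x` normalised data lies in `M`
  have hmax : ∀ H : Subgroup G, H ≠ ⊤ → a ∈ H → x ∈ H → D ≤ H → H ≤ M := by
    intro H hH haH hxH hDH h hh
    refine (hMmem h).mpr fun δ hδ => ?_
    by_contra hne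
    exact hax (commute_of_noncentral hsub hH (hDH hδ) hh (fun e => hne e.symm) haH
      (hOa δ ((hDmem δ).mp hδ).1) hxH ((hDmem δ).mp hδ).2)
  have hV : ∀ v ∈ ({a, x, a * x} : Set G), v ∉ Z ∧ v * v ∈ Z ∧ v * a * v⁻¹ * a⁻¹ ∈ Z ∧
      v * x * v⁻¹ * x⁻¹ ∈ Z ∧ v ∈ M ∧ (∀ δ ∈ D, Commute v δ) := by
    have hxa : x * a * x⁻¹ * a⁻¹ ∈ Z := by
      have h := inv_mem hax'
      rwa [show (a * x * a⁻¹ * x⁻¹)⁻¹ = x * a * x⁻¹ * a⁻¹ by group] at h
    rintro v (rfl | rfl | rfl)
    · exact ⟨haZ, ha2, by simp, hax', haM, (hMmem _).mp haM⟩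
    · exact ⟨hxZ, hx2, hxa, by simp, hxM, (hMmem _).mp hxM⟩
    · refine ⟨haxZ, ?_, ?_, ?_, mul_mem haM hxM, (hMmem _).mp (mul_mem haM hxM)⟩
      · rw [← hmk1, map_mul, map_mul]
        have h1 : Commute (mkG a) (mkG x) := by
          have h := (hmk1 _).mpr hax'
          simp only [map_mul, map_inv] at h
          exact mul_inv_eq_iff_eq_mul.mp (mul_inv_eq_one.mp h)
        rw [h1.symm.mul_mul_mul_comm, ← map_mul, ← map_mul, ← map_mul, hmk1]
        exact mul_mem ha2 hx2
      · rw [show a * x * a * (a * x)⁻¹ * a⁻¹ = a * (x * a * x⁻¹ * a⁻¹) * a⁻¹ by group,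
          (hZc _ hxa a).eq, mul_inv_cancel_right]
        exact hxa
      · rw [show a * x * x * (a * x)⁻¹ * x⁻¹ = a * x * a⁻¹ * x⁻¹ by group]
        exact hax'
  have hVax : a ∈ ({a, x, a * x} : Set G) := Or.inl rfl
  have hVxx : x ∈ ({a, x, a * x} : Set G) := Or.inr (Or.inl rfl)
  -- `g ↦ [g, v]` preimages of centralisers
  have hNv : ∀ v ∈ ({a, x, a * x} : Set G), ∀ g : G, g * v * g⁻¹ * v⁻¹ ∈ Z → g ∈ M := by
    intro v hv g hg
    obtain ⟨hvZ, -, hva, hvx, -, hvD⟩ := hV v hv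
    set H : Subgroup G := (Subgroup.centralizer ({mkG v} : Set (G ⧸ Z))).comap mkG with hHdef
    have hHmem : ∀ h : G, h ∈ H ↔ h * v * h⁻¹ * v⁻¹ ∈ Z := fun h => by
      rw [hHdef, Subgroup.mem_comap, Subgroup.mem_centralizer_singleton_iff, ← map_mul, ← map_mul,
        hmk, show h * v * (v * h)⁻¹ = h * v * h⁻¹ * v⁻¹ by group]
    have hH : H ≠ ⊤ := by
      intro h
      have hvc : mkG v ∈ Subgroup.center (G ⧸ Z) := by
        refine Subgroup.mem_center_iff.mpr fun q => ?_
        obtain ⟨w, rfl⟩ := QuotientGroup.mk'_surjective Z q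
        have hw : w ∈ H := h ▸ Subgroup.mem_top w
        rw [hHdef, Subgroup.mem_comap, Subgroup.mem_centralizer_singleton_iff] at hw
        exact hw
      rcases hsimp.eq_bot_or_eq_top_of_normal (Subgroup.center (G ⧸ Z)) inferInstance with h1 | h1
      · exact hvZ ((hmk1 v).mp (Subgroup.mem_bot.mp (h1 ▸ hvc)))
      · refine hna fun g h => (hmk1 _).mp ?_
        rw [map_mul, map_mul, map_mul, map_inv, map_inv,
          Subgroup.mem_center_iff.mp (h1 ▸ Subgroup.mem_top (mkG h)) (mkG g),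
          mul_inv_cancel_right, mul_inv_cancel]
    refine hmax H hH ((hHmem a).mpr ?_) ((hHmem x).mpr ?_) (fun δ hδ => (hHmem δ).mpr ?_)
      ((hHmem g).mpr hg)
    · have h := inv_mem hva
      rwa [show (v * a * v⁻¹ * a⁻¹)⁻¹ = a * v * a⁻¹ * v⁻¹ by group] at h
    · have h := inv_mem hvx
      rwa [show (v * x * v⁻¹ * x⁻¹)⁻¹ = x * v * x⁻¹ * v⁻¹ by group] at h
    · rw [← (hvD δ hδ).eq, mul_inv_cancel_right, mul_inv_cancel]
      exact one_mem _
  have hSM : (S : Subgroup G) ≤ M := fun s hs => hNv a hVax s (hSa s hs)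
  have hW : ∀ h ∈ Subgroup.closure ({a, x} : Set G) ⊔ Z, h ∈ M := fun h hh =>
    sup_le ((Subgroup.closure_le M).mpr (by rintro w (rfl | rfl) <;> assumption)) hZM hh
  -- two-elements central in `M` are central in `G`
  have hzM : ∀ c ∈ M, (∀ w ∈ M, Commute c w) → ∀ k : ℕ, c ^ 2 ^ k = 1 → c ∈ Z := by
    intro c _ hc k hk
    refine hZS c ?_ fun t ht => hc t (hSM ht)
    exact CfsgLib.Invol.AIC.mem_sylow_of_commute (fun t ht => hc t (hSM ht)) hk
  set Q := ↥M ⧸ Subgroup.center ↥M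
  set π := QuotientGroup.mk' (Subgroup.center ↥M) with hπ
  have hπ1 : ∀ m : ↥M, π m = 1 ↔ ∀ w ∈ M, Commute (m : G) w := fun m => by
    rw [hπ, QuotientGroup.mk'_apply, QuotientGroup.eq_one_iff, Subgroup.mem_center_iff]
    exact ⟨fun h w hw => (congrArg Subtype.val (h ⟨w, hw⟩)).symm,
      fun h w => Subtype.ext (h w w.2).symm.eq⟩
  have hπeq : ∀ m n : ↥M, π m = π n ↔ π (m * n⁻¹) = 1 := fun m n => by
    rw [map_mul, map_inv, mul_inv_eq_one]
  have hπD : ∀ m : ↥M, (m : G) ∈ D → π m = 1 := fun m hm =>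
    (hπ1 m).mpr fun w hw => ((hMmem w).mp hw _ hm).symm
  have hπZ : ∀ m : ↥M, (m : G) ∈ Z → π m = 1 := fun m hm =>
    (hπ1 m).mpr fun w _ => (hZc _ hm w).symm
  have two_pow : ∀ s ∈ (S : Subgroup G), ∃ k : ℕ, s ^ 2 ^ k = 1 := fun s hs => by
    obtain ⟨k, hk⟩ := S.2 ⟨s, hs⟩
    exact ⟨k, congrArg Subtype.val hk⟩
  have hπS : ∀ m : ↥M, (m : G) ∈ (S : Subgroup G) → π m = 1 → (m : G) ∈ Z := fun m hm h => by
    obtain ⟨k, hk⟩ := two_pow _ hm
    exact hzM m m.2 ((hπ1 m).mp h) k hk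
  -- commutation modulo `Z(M)` with an element of order two modulo `Z`
  have hexact : ∀ (g v : ↥M), (v : G) * v ∈ Z → π (g * v * g⁻¹ * v⁻¹) = 1 →
      (g : G) * v * (g : G)⁻¹ * (v : G)⁻¹ ∈ Z := by
    intro g v hv h
    set c : G := (g : G) * v * (g : G)⁻¹ * (v : G)⁻¹ with hc
    have hcm : ∀ w ∈ M, Commute c w := by simpa [hc] using (hπ1 _).mp h
    have hgv : (g : G) * v * (g : G)⁻¹ = c * v := by rw [hc, inv_mul_cancel_right]
    have h1 : c * v * (c * v) = (v : G) * v := by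
      rw [← hgv, show (g : G) * v * (g : G)⁻¹ * ((g : G) * v * (g : G)⁻¹) =
        g * ((v : G) * v) * (g : G)⁻¹ by group, (hZc _ hv g).eq, mul_inv_cancel_right]
    rw [(hcm v v.2).symm.mul_mul_mul_comm, mul_eq_right] at h1
    exact hzM c (mul_mem (mul_mem (mul_mem g.2 v.2) (inv_mem g.2)) (inv_mem v.2)) hcm 1
      (by rw [pow_one, pow_two]; exact h1)
  -- odd elements: commutation modulo `Z(M)` is commutation
  have hexact_odd : ∀ (p v : ↥M), Odd (orderOf p) → (v : G) * v ∈ Z →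
      π (v * p * v⁻¹ * p⁻¹) = 1 → Commute (v : G) (p : G) := by
    intro p v hp hv h
    set c : G := (v : G) * p * (v : G)⁻¹ * (p : G)⁻¹ with hc
    have hcm : ∀ w ∈ M, Commute c w := by simpa [hc] using (hπ1 _).mp h
    have hvp : (v : G) * p * (v : G)⁻¹ = c * p := by rw [hc, inv_mul_cancel_right]
    have h1 : c * c = 1 := by
      have h2 : (v : G) * (c * p) * (v : G)⁻¹ = p := by
        rw [← hvp, show (v : G) * ((v : G) * p * (v : G)⁻¹) * (v : G)⁻¹ =
          ((v : G) * v) * p * ((v : G) * v)⁻¹ by group, ← (hZc _ hv p).eq, mul_inv_cancel_right]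
      rw [show (v : G) * (c * p) * (v : G)⁻¹ = ((v : G) * c) * p * (v : G)⁻¹ by group,
        ← (hcm v v.2).eq, show c * (v : G) * p * (v : G)⁻¹ = c * ((v : G) * p * (v : G)⁻¹) by group,
        hvp, ← mul_assoc, mul_eq_right] at h2
      exact h2
    have h3 : c ^ orderOf p = 1 := by
      have h4 : (c * p) ^ orderOf p = 1 := by
        rw [← hvp, conj_pow, ← Subgroup.orderOf_coe, pow_orderOf_eq_one, mul_one, mul_inv_cancel]
      rwa [(hcm p p.2).mul_pow, ← Subgroup.orderOf_coe, pow_orderOf_eq_one, mul_one,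
        Subgroup.orderOf_coe] at h4
    obtain ⟨k, hk⟩ := hp
    rw [hk, pow_succ, pow_mul, pow_two, h1, one_pow, one_mul] at h3
    show (v : G) * p = p * v
    rw [h3, one_mul] at hvp
    exact mul_inv_eq_iff_eq_mul.mp hvp
  let qa : Q := π ⟨a, haM⟩
  let qx : Q := π ⟨x, hxM⟩
  have hqa2 : qa * qa = 1 := by
    show π ⟨a, haM⟩ * π ⟨a, haM⟩ = 1
    rw [← map_mul]; exact hπZ _ ha2
  have hqx2 : qx * qx = 1 := by
    show π ⟨x, hxM⟩ * π ⟨x, hxM⟩ = 1
    rw [← map_mul]; exact hπZ _ hx2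
  have hqa1 : qa ≠ 1 := fun h => haZ (hπS _ haS h)
  have hqx1 : qx ≠ 1 := fun h => hxZ (hπS _ hxS h)
  have hqxa : Commute qx qa := by
    have h : π ⟨a * x * a⁻¹ * x⁻¹, hZM hax'⟩ = 1 := hπZ _ hax'
    have h' : qa * qx * qa⁻¹ * qx⁻¹ = 1 := by
      show π _ * π _ * (π _)⁻¹ * (π _)⁻¹ = 1
      rw [← map_inv, ← map_inv, ← map_mul, ← map_mul, ← map_mul]; exact h
    exact (mul_inv_eq_iff_eq_mul.mp (mul_inv_eq_one.mp h')).symm
  have hqne : qx ≠ qa := fun h => by
    refine haxZ ?_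
    have h1 : π (⟨a, haM⟩ * ⟨x, hxM⟩) = 1 := by
      rw [map_mul]; show qa * qx = 1; rw [h, hqa2]
    exact hπS _ (mul_mem haS hxS) h1
  -- fusion of the involutions of `S` inside `M`
  have hfus : ∀ v ∈ (S : Subgroup G), v * v ∈ Z → v ∉ Z →
      ∃ m ∈ M, m * v * m⁻¹ * a⁻¹ ∈ Z := by
    intro v hvS hv2 hvZ
    by_cases hva0 : v * a⁻¹ ∈ Z
    · exact ⟨1, one_mem M, by simpa using hva0⟩
    have hnva : ¬ Commute v a := fun h => hva0 (hUniq v h hv2 hvZ)
    obtain ⟨g, hg⟩ := hone v hvS hv2 hvZ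
    have hva : v * a * v⁻¹ * a⁻¹ ∈ Z := hSa v hvS
    have hmg : mkG (g * v * g⁻¹) = mkG a := (hmk _ _).mpr hg
    set y := g * a * g⁻¹ with hy
    have hy2 : y * y ∈ Z := by
      rw [hy, show g * a * g⁻¹ * (g * a * g⁻¹) = g * (a * a) * g⁻¹ by group, (hZc _ ha2 g).eq,
        mul_inv_cancel_right]
      exact ha2
    have hya : y * a * y⁻¹ * a⁻¹ ∈ Z := by
      rw [← hmk1, map_mul, map_mul, map_mul, map_inv, map_inv, ← hmg, hy, ← map_inv, ← map_inv,
        ← map_mul, ← map_mul, ← map_mul, hmk1,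
        show g * a * g⁻¹ * (g * v * g⁻¹) * (g * a * g⁻¹)⁻¹ * (g * v * g⁻¹)⁻¹ =
          g * (v * a * v⁻¹ * a⁻¹)⁻¹ * g⁻¹ by group, (hZc _ (inv_mem hva) g).eq,
        mul_inv_cancel_right]
      exact inv_mem hva
    -- move `y` into `S` inside the preimage of `C(ā)`
    obtain ⟨o, ho, s, hs, hys⟩ := hNa y hya
    obtain ⟨c, hcM, hca, hcy⟩ : ∃ c ∈ M, c * a * c⁻¹ * a⁻¹ ∈ Z ∧
        ∃ s' ∈ (S : Subgroup G), c * y * c⁻¹ * s'⁻¹ ∈ Z := by
      set N : Subgroup G := (Subgroup.centralizer ({mkG a} : Set (G ⧸ Z))).comap mkG with hNdef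
      have hNmem : ∀ h : G, h ∈ N ↔ h * a * h⁻¹ * a⁻¹ ∈ Z := fun h => by
        rw [hNdef, Subgroup.mem_comap, Subgroup.mem_centralizer_singleton_iff, ← map_mul,
          ← map_mul, hmk, show h * a * (a * h)⁻¹ = h * a * h⁻¹ * a⁻¹ by group]
      have hSN : (S : Subgroup G) ≤ N := fun t ht => (hNmem t).mpr (hSa t ht)
      -- the two-part of `y`
      obtain ⟨k, j, hj, hkj⟩ := Nat.exists_eq_pow_mul_and_not_dvd (orderOf_pos y).ne' 2 (by norm_num)
      have hjo : Odd j := Nat.not_even_iff_odd.mp fun h => hj h.two_dvd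
      have hy' : (y ^ j) ^ 2 ^ k = 1 := by
        rw [← pow_mul, mul_comm, ← hkj, pow_orderOf_eq_one]
      have hyj : y ^ j * y⁻¹ ∈ Z := by
        obtain ⟨l, hl⟩ := hjo
        rw [hl, pow_succ, mul_inv_cancel_right, pow_mul, pow_two]
        exact pow_mem hy2 l
      have hyN : y ^ j ∈ N := pow_mem ((hNmem y).mpr hya) j
      obtain ⟨c, hc⟩ := CfsgLib.Transfer.exists_map_conj_le_sylow
        (CfsgLib.Transfer.isPGroup_zpowers (p := 2) (x := (⟨y ^ j, hyN⟩ : N))
          (by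
            obtain ⟨i, -, hi⟩ := (Nat.dvd_prime_pow Nat.prime_two).mp
              (orderOf_dvd_of_pow_eq_one hy')
            exact ⟨i, by rw [← Subgroup.orderOf_coe]; exact hi⟩)) (S.subtype hSN)
      have hcS : (c : G) * y ^ j * (c : G)⁻¹ ∈ (S : Subgroup G) :=
        hc ⟨_, Subgroup.mem_zpowers _, rfl⟩
      refine ⟨c, hNv a hVax c ((hNmem c).mp c.2), (hNmem c).mp c.2, _, hcS, ?_⟩
      rw [show (c : G) * y * (c : G)⁻¹ * ((c : G) * y ^ j * (c : G)⁻¹)⁻¹ =
        c * (y ^ j * y⁻¹)⁻¹ * (c : G)⁻¹ by group, (hZc _ (inv_mem hyj) c).eq, mul_inv_cancel_right]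
      exact inv_mem hyj
    obtain ⟨s', hs', hcy'⟩ := hcy
    have hs'2 : s' * s' ∈ Z := by
      rw [← hmk1, map_mul, ← (hmk _ _).mpr hcy', ← map_mul, hmk1,
        show c * y * c⁻¹ * (c * y * c⁻¹) = c * (y * y) * c⁻¹ by group, (hZc _ hy2 c).eq,
        mul_inv_cancel_right]
      exact hy2
    have hs'Z : s' ∉ Z := fun h => by
      have h1 : c * y * c⁻¹ ∈ Z := by simpa using mul_mem hcy' h
      refine haZ ?_
      have h2 : (c * g) * a * (c * g)⁻¹ ∈ Z := by
        rw [show (c * g) * a * (c * g)⁻¹ = c * y * c⁻¹ by rw [hy]; group]; exact h1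
      have h3 := Subgroup.Normal.conj_mem (inferInstance : Z.Normal) _ h2 (c * g)⁻¹
      simpa [mul_assoc] using h3
    -- `h = c * g` sends `(v, a)` to `(a, s')` modulo `Z`
    set h := c * g with hh
    have e1 : h * v * h⁻¹ * a⁻¹ ∈ Z := by
      rw [hh, show c * g * v * (c * g)⁻¹ * a⁻¹ =
        c * (g * v * g⁻¹ * a⁻¹) * c⁻¹ * (c * a * c⁻¹ * a⁻¹) by group]
      exact mul_mem (Subgroup.Normal.conj_mem (inferInstance : Z.Normal) _ hg c) hca
    have e2 : h * a * h⁻¹ * s'⁻¹ ∈ Z := by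
      rw [hh, show c * g * a * (c * g)⁻¹ = c * y * c⁻¹ by rw [hy]; group]
      exact hcy'
    have shift : ∀ p q w : G, p * q⁻¹ ∈ Z → Commute w p → Commute w q := by
      intro p q w hpq hw
      have h1 : Commute w ((p * q⁻¹)⁻¹ * p) := ((hZc _ hpq w).inv_right).mul_right hw
      rwa [show (p * q⁻¹)⁻¹ * p = q by group] at h1
    have shift' : ∀ p q w : G, p * q⁻¹ ∈ Z → Commute w q → Commute w p := by
      intro p q w hpq hw
      have h1 : Commute w (p * q⁻¹ * q) := (hZc _ hpq w).mul_right hw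
      rwa [inv_mul_cancel_right] at h1
    have hnas : ¬ Commute a s' := by
      intro h1
      apply hnva
      have h2 : Commute (h * v * h⁻¹) (h * a * h⁻¹) :=
        shift' _ _ _ e2 ((shift' _ _ _ e1 h1.symm).symm)
      have h3 := h2.map (MulAut.conj h⁻¹).toMonoidHom
      simpa [mul_assoc] using h3
    have hnorm : ∀ δ ∈ D, ∀ w ∈ M, Commute w (h * δ * h⁻¹) := by
      intro δ hδ w hw
      have hcv : Commute δ v := ((hMmem v).mp (hSM hvS) δ hδ).symm
      have hcad : Commute δ a := ((hMmem a).mp haM δ hδ).symm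
      have h1 : Commute (h * δ * h⁻¹) a :=
        shift _ _ _ e1 (by simpa using hcv.map (MulAut.conj h).toMonoidHom)
      have h2 : Commute (h * δ * h⁻¹) s' :=
        shift _ _ _ e2 (by simpa using hcad.map (MulAut.conj h).toMonoidHom)
      have h3 : h * δ * h⁻¹ ∈ M := hNv a hVax _ (by
        rw [h1.eq, mul_inv_cancel_right, mul_inv_cancel]
        exact one_mem _)
      by_contra hne
      exact hnas (commute_of_noncentral hsub hMtop h3 hw (fun h' => hne h'.symm) haM h1.symm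
        (hSM hs') h2.symm)
    have hsub' : M.map (MulAut.conj h⁻¹).toMonoidHom ≤ M := by
      rintro _ ⟨w, hw, rfl⟩
      refine (hMmem _).mpr fun δ hδ => ?_
      have h1 := (hnorm δ hδ w hw).map (MulAut.conj h⁻¹).toMonoidHom
      simpa [mul_assoc] using h1
    set N := Subgroup.normalizer (M : Set G) with hN
    have hNtop : N ≠ ⊤ := by
      intro h1
      haveI : M.Normal := Subgroup.normalizer_eq_top_iff.mp h1
      exact hMtop (hZ_proper M ⟨a, haM, haZ⟩
        (fun g h' hh' => Subgroup.Normal.conj_mem inferInstance h' hh' g) hZM)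
    have hNM : N ≤ M := hmax N hNtop (Subgroup.le_normalizer haM) (Subgroup.le_normalizer hxM)
      (fun δ hδ => Subgroup.le_normalizer (hOM ((hDmem δ).mp hδ).1))
    have hhM : h ∈ M := by
      rw [← inv_mem_iff]
      exact hNM (Subgroup.mem_normalizer_fintype fun w hw => hsub' ⟨w, hw, by simp⟩)
    have hgM : g ∈ M := by
      have h1 := mul_mem (inv_mem hcM) hhM
      rwa [hh, inv_mul_cancel_left] at h1
    exact ⟨g, hgM, hg⟩
  -- every element of order two of `M` modulo `Z(M)` is conjugate to the image of `a`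
  have hlift : ∀ i : Q, i * i = 1 → i ≠ 1 →
      ∃ m : ↥M, π m = i ∧ (m : G) * m ∈ Z ∧ ∃ g ∈ M, g * m * g⁻¹ * a⁻¹ ∈ Z := by
    intro i hi hi1
    obtain ⟨m₀, rfl⟩ := QuotientGroup.mk'_surjective (Subgroup.center ↥M) i
    obtain ⟨k, j, hj, hkj⟩ := Nat.exists_eq_pow_mul_and_not_dvd (orderOf_pos m₀).ne' 2 (by norm_num)
    have hjo : Odd j := Nat.not_even_iff_odd.mp fun h => hj h.two_dvd
    set m := m₀ ^ j with hm
    have hm2 : m ^ 2 ^ k = 1 := by rw [hm, ← pow_mul, mul_comm, ← hkj, pow_orderOf_eq_one]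
    have hπm : π m = π m₀ := by
      obtain ⟨l, hl⟩ := hjo
      rw [hm, map_pow, hl, pow_succ, pow_mul, pow_two, hi, one_pow, one_mul]
    obtain ⟨g, hg⟩ := CfsgLib.Transfer.exists_map_conj_le_sylow
      (CfsgLib.Transfer.isPGroup_zpowers (p := 2) (x := m)
        (by
          obtain ⟨i', -, hi'⟩ := (Nat.dvd_prime_pow Nat.prime_two).mp
            (orderOf_dvd_of_pow_eq_one hm2)
          exact ⟨i', hi'⟩)) (S.subtype hSM)
    have hgS : (g : G) * m * (g : G)⁻¹ ∈ (S : Subgroup G) := hg ⟨_, Subgroup.mem_zpowers _, rfl⟩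
    have hs2 : (g : G) * m * (g : G)⁻¹ * ((g : G) * m * (g : G)⁻¹) ∈ Z :=
      hπS ((g * m * g⁻¹) * (g * m * g⁻¹)) (mul_mem hgS hgS) (by
        rw [map_mul, map_mul, map_mul, map_inv, hπm,
          show π g * π m₀ * (π g)⁻¹ * (π g * π m₀ * (π g)⁻¹) = π g * (π m₀ * π m₀) * (π g)⁻¹ by
            group, hi, mul_one, mul_inv_cancel])
    have hsZ : (g : G) * m * (g : G)⁻¹ ∉ Z := fun h => hi1 (by
      have h1 := hπZ (g * m * g⁻¹) h
      rw [map_mul, map_mul, map_inv, conj_eq_one_iff, hπm] at h1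
      exact h1)
    obtain ⟨m', hm', hm'v⟩ := hfus _ hgS hs2 hsZ
    refine ⟨m, hπm, ?_, m' * g, mul_mem hm' g.2, ?_⟩
    · have h := Subgroup.Normal.conj_mem (inferInstance : Z.Normal) _ hs2 (g : G)⁻¹
      simpa [mul_assoc] using h
    · rw [show m' * (g : G) * m * (m' * g)⁻¹ = m' * ((g : G) * m * (g : G)⁻¹) * m'⁻¹ by group]
      exact hm'v
  have htransM : ∀ i : Q, i * i = 1 → i ≠ 1 → ∃ q : Q, q * i * q⁻¹ = qa := by
    intro i hi hi1
    obtain ⟨m, hm, -, g, hg, hgm⟩ := hlift i hi hi1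
    refine ⟨π ⟨g, hg⟩, ?_⟩
    rw [← hm, ← map_inv, ← map_mul, ← map_mul, hπeq]
    exact hπZ _ hgm
  -- `C_Q(V) = V`
  have hCQV : ∀ q : Q, Commute q qa → Commute q qx →
      q ∈ Subgroup.closure ({qa, qx} : Set Q) := by
    intro q hqa hqx
    obtain ⟨g, rfl⟩ := QuotientGroup.mk'_surjective (Subgroup.center ↥M) q
    have key : ∀ v : ↥M, (v : G) * v ∈ Z → Commute (π g) (π v) →
        (g : G) * v * (g : G)⁻¹ * (v : G)⁻¹ ∈ Z := fun v hv h => hexact g v hv (by
      rw [map_mul, map_mul, map_mul, map_inv, map_inv, h.eq, mul_inv_cancel_right, mul_inv_cancel])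
    have hga := key ⟨a, haM⟩ ha2 hqa
    have hgx := key ⟨x, hxM⟩ hx2 hqx
    obtain ⟨o, ho, s, hs, hgos⟩ := hNa g hga
    have hoO := hOM ho
    -- `w` in `O` with `w ≡ x⁻¹ (s x s⁻¹)`
    set w := x⁻¹ * o⁻¹ * x * o with hw
    have hwO : w ∈ O := by
      have h := mul_mem (inv_mem (hOx (x⁻¹ * o⁻¹ * x) ?_)) (one_mem O)
      · have h2 := mul_mem (hOx o⁻¹ (inv_mem ho)) ho
        have h3 : x⁻¹ * o⁻¹ * x = x * o⁻¹ * x⁻¹ := by
          calc x⁻¹ * o⁻¹ * x = x⁻¹ * (o⁻¹ * (x * x)) * x⁻¹ := by group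
            _ = x⁻¹ * ((x * x) * o⁻¹) * x⁻¹ := by rw [(hZc _ hx2 o⁻¹).eq]
            _ = x * o⁻¹ * x⁻¹ := by group
        rw [hw, h3]; exact h2
      · have h3 : x⁻¹ * o⁻¹ * x = x * o⁻¹ * x⁻¹ := by
          calc x⁻¹ * o⁻¹ * x = x⁻¹ * (o⁻¹ * (x * x)) * x⁻¹ := by group
            _ = x⁻¹ * ((x * x) * o⁻¹) * x⁻¹ := by rw [(hZc _ hx2 o⁻¹).eq]
            _ = x * o⁻¹ * x⁻¹ := by group
        rw [h3]; exact hOx _ (inv_mem ho)
    have hgx' : o * (s * x * s⁻¹) * o⁻¹ * x⁻¹ ∈ Z := by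
      rw [hgos] at hgx
      rwa [show o * (s * x * s⁻¹) * o⁻¹ * x⁻¹ = o * s * x * (o * s)⁻¹ * x⁻¹ by group]
    have hsw : mkG (x⁻¹ * (s * x * s⁻¹)) = mkG w := by
      have h1 : mkG o * mkG (s * x * s⁻¹) * (mkG o)⁻¹ = mkG x := by
        rw [← map_inv, ← map_mul, ← map_mul]; exact (hmk _ _).mpr hgx'
      have h2 : mkG (s * x * s⁻¹) = (mkG o)⁻¹ * mkG x * mkG o := by rw [← h1]; group
      simp only [hw, map_mul, map_inv] at h2 ⊢
      rw [h2]; group
    have hwZ : w ∈ Z := by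
      obtain ⟨k, hk⟩ := two_pow _ (mul_mem (inv_mem hxS) (mul_mem (mul_mem hs hxS) (inv_mem hs)))
      have h1 : mkG w ^ 2 ^ k = 1 := by rw [← hsw, ← map_pow, hk, map_one]
      have h2 : Odd (orderOf (mkG w)) :=
        (hOodd.of_dvd_nat (Subgroup.orderOf_dvd_natCard O hwO)).of_dvd_nat (orderOf_map_dvd mkG w)
      have h3 : orderOf (mkG w) = 1 :=
        (Nat.Coprime.pow_right k (Nat.coprime_two_right.mpr h2)).eq_one_of_dvd
          (orderOf_dvd_of_pow_eq_one h1)
      exact (hmk1 w).mp (orderOf_eq_one_iff.mp h3)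
    have hsW : s ∈ Subgroup.closure ({a, x} : Set G) ⊔ Z := by
      refine hCS s hs ?_
      have h : mkG (x⁻¹ * (s * x * s⁻¹)) = 1 := hsw.trans ((hmk1 w).mpr hwZ)
      rw [map_mul, map_inv, inv_mul_eq_one] at h
      rw [← hmk1, map_mul, map_inv, ← h, mul_inv_cancel]
    have hoD : o ∈ D := by
      refine (hDmem o).mpr ⟨ho, ?_⟩
      have hodd : Odd (orderOf (⟨o, hoO⟩ : ↥M)) := by
        rw [← Subgroup.orderOf_coe]; exact hOodd.of_dvd_nat (Subgroup.orderOf_dvd_natCard O ho)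
      refine hexact_odd ⟨o, hoO⟩ ⟨x, hxM⟩ hodd hx2 (hπZ _ ?_)
      show x * o * x⁻¹ * o⁻¹ ∈ Z
      have h := Subgroup.Normal.conj_mem (inferInstance : Z.Normal) _ hwZ x
      rw [hw, show x * (x⁻¹ * o⁻¹ * x * o) * x⁻¹ = o⁻¹ * x * o * x⁻¹ by group] at h
      have h' := Subgroup.Normal.conj_mem (inferInstance : Z.Normal) _ h o
      rwa [show o * (o⁻¹ * x * o * x⁻¹) * o⁻¹ = x * o * x⁻¹ * o⁻¹ by group] at h'
    have hsplit : π g = π ⟨s, hSM hs⟩ := by
      rw [show g = ⟨o, hoO⟩ * ⟨s, hSM hs⟩ from Subtype.ext hgos, map_mul, hπD ⟨o, hoO⟩ hoD,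
        one_mul]
    rw [show (QuotientGroup.mk' (Subgroup.center ↥M)) g = π g from rfl, hsplit]
    let W : Subgroup G := Subgroup.closure ({a, x} : Set G) ⊔ Z
    have : ∀ h : G, ∀ hh : h ∈ W, π ⟨h, hW h hh⟩ ∈ Subgroup.closure ({qa, qx} : Set Q) := by
      intro h hh
      have hle : W ≤ ((Subgroup.closure ({qa, qx} : Set Q)).comap π).map M.subtype := by
        refine sup_le ((Subgroup.closure_le _).mpr ?_) fun z hz => ?_
        · rintro v₀ (hv₀ | hv₀) <;> rw [hv₀]
          · exact ⟨⟨a, haM⟩, Subgroup.subset_closure (Or.inl rfl), rfl⟩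
          · exact ⟨⟨x, hxM⟩, Subgroup.subset_closure (Or.inr rfl), rfl⟩
        · exact ⟨⟨z, hZM hz⟩, by
            rw [SetLike.mem_coe, Subgroup.mem_comap, hπZ ⟨z, hZM hz⟩ hz]; exact one_mem _, rfl⟩
      obtain ⟨m, hm, hmh⟩ := hle hh
      rw [show (⟨h, hW h hh⟩ : ↥M) = m from Subtype.ext hmh.symm]
      exact hm
    exact this s hsW
  have hVQ : ∀ q ∈ Subgroup.closure ({qa, qx} : Set Q),
      q = 1 ∨ q = qa ∨ q = qx ∨ q = qa * qx := by
    intro q hq
    induction hq using Subgroup.closure_induction with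
    | mem q hq =>
      rcases hq with rfl | rfl
      · exact Or.inr (Or.inl rfl)
      · exact Or.inr (Or.inr (Or.inl rfl))
    | one => exact Or.inl rfl
    | mul p q _ _ hp hq =>
      have h1 : qx * (qa * qx) = qa := by rw [← mul_assoc, hqxa.eq, mul_assoc, hqx2, mul_one]
      have h2 : qa * qx * qa = qx := by rw [mul_assoc, hqxa.eq, ← mul_assoc, hqa2, one_mul]
      rcases hp with rfl | rfl | rfl | rfl <;> rcases hq with rfl | rfl | rfl | rfl <;>
        simp [hqa2, hqx2, hqxa.eq, h1, h2, ← mul_assoc, mul_assoc qa qx qx]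
    | inv q _ hq =>
      rcases hq with rfl | rfl | rfl | rfl
      · exact Or.inl inv_one
      · exact Or.inr (Or.inl (inv_eq_of_mul_eq_one_right hqa2))
      · exact Or.inr (Or.inr (Or.inl (inv_eq_of_mul_eq_one_right hqx2)))
      · refine Or.inr (Or.inr (Or.inr (inv_eq_of_mul_eq_one_right ?_)))
        rw [hqxa.mul_mul_mul_comm, hqa2, hqx2, one_mul]
  have hCQV1 : ∀ q : Q, Odd (orderOf q) → Commute q qa → Commute q qx → q = 1 := by
    intro q hq h1 h2
    refine CfsgLib.Invol.AIC.eq_one_of_odd hq ?_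
    rcases hVQ q (hCQV q h1 h2) with rfl | rfl | rfl | rfl
    · exact one_mul 1
    · exact hqa2
    · exact hqx2
    · rw [hqxa.mul_mul_mul_comm, hqa2, hqx2, one_mul]
  -- lifts of odd elements
  have hoddlift : ∀ q : Q, Odd (orderOf q) → ∃ p : ↥M, Odd (orderOf p) ∧
      Subgroup.zpowers (π p) = Subgroup.zpowers q := by
    intro q hq
    obtain ⟨m, rfl⟩ := QuotientGroup.mk'_surjective (Subgroup.center ↥M) q
    obtain ⟨k, j, hj, hkj⟩ := Nat.exists_eq_pow_mul_and_not_dvd (orderOf_pos m).ne' 2 (by norm_num)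
    have hjo : Odd j := Nat.not_even_iff_odd.mp fun h => hj h.two_dvd
    refine ⟨m ^ 2 ^ k, hjo.of_dvd_nat (orderOf_dvd_of_pow_eq_one (by
      rw [← pow_mul, ← hkj, pow_orderOf_eq_one])), ?_⟩
    have hcop : (2 ^ k).Coprime (orderOf (π m)) :=
      Nat.Coprime.pow_left k (Nat.coprime_two_left.mpr hq)
    obtain ⟨b, hb⟩ := exists_pow_eq_self_of_coprime hcop
    rw [map_pow]
    refine le_antisymm (Subgroup.zpowers_le.mpr (pow_mem (Subgroup.mem_zpowers _) _))
      (Subgroup.zpowers_le.mpr ?_)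
    have hmem := pow_mem (Subgroup.mem_zpowers (π m ^ 2 ^ k)) b
    rwa [hb] at hmem
  -- no odd abelian normal subgroup
  have hC1 : ∀ P : Subgroup Q, P.Normal → (∀ p ∈ P, ∀ p' ∈ P, Commute p p') →
      Odd (Nat.card P) → P = ⊥ := by
    intro P hPn hPab hPodd
    by_contra hPne
    have podd : ∀ p ∈ P, Odd (orderOf p) := fun p hp =>
      hPodd.of_dvd_nat (Subgroup.orderOf_dvd_natCard P hp)
    have hVtriple : ∀ v ∈ ({qa, qx, qa * qx} : Set Q), ∀ w ∈ ({qa, qx, qa * qx} : Set Q),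
        v * v = 1 ∧ Commute v w := by
      have hax2 : qa * qx * (qa * qx) = 1 := by
        rw [hqxa.mul_mul_mul_comm, hqa2, hqx2, one_mul]
      have c1 : Commute qa (qa * qx) := (Commute.refl qa).mul_right hqxa.symm
      have c2 : Commute qx (qa * qx) := hqxa.mul_right (Commute.refl qx)
      rintro v (rfl | rfl | rfl) w (rfl | rfl | rfl)
      exacts [⟨hqa2, .refl _⟩, ⟨hqa2, hqxa.symm⟩, ⟨hqa2, c1⟩, ⟨hqx2, hqxa⟩, ⟨hqx2, .refl _⟩,
        ⟨hqx2, c2⟩, ⟨hax2, c1.symm⟩, ⟨hax2, c2.symm⟩, ⟨hax2, .refl _⟩]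
    have hCV1 : ∀ v ∈ ({qa, qx, qa * qx} : Set Q), ∀ w ∈ ({qa, qx, qa * qx} : Set Q), v ≠ w →
        ∀ p ∈ P, Commute v p → Commute w p → p = 1 := by
      intro v hv w hw hvw p hp h1 h2
      refine hCQV1 p (podd p hp) ?_ ?_
      · rcases hv with rfl | rfl | rfl <;> rcases hw with rfl | rfl | rfl
        all_goals first
          | exact absurd rfl hvw
          | exact h1.symm
          | exact h2.symm
          | (have h := h1.mul_left h2; rw [← mul_assoc, hqxa.eq, mul_assoc, hqx2, mul_one] at h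
             exact h.symm)
          | (have h := h2.mul_left h1; rw [← mul_assoc, hqxa.eq, mul_assoc, hqx2, mul_one] at h
             exact h.symm)
      · rcases hv with rfl | rfl | rfl <;> rcases hw with rfl | rfl | rfl
        all_goals first
          | exact absurd rfl hvw
          | exact h1.symm
          | exact h2.symm
          | (have h := h1.mul_left h2; rw [← mul_assoc, hqa2, one_mul] at h; exact h.symm)
          | (have h := h2.mul_left h1; rw [← mul_assoc, hqa2, one_mul] at h; exact h.symm)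
    -- fixed part
    have hfixed : ∀ v ∈ ({qa, qx, qa * qx} : Set Q), ∀ p ∈ P, Commute v (v * p * v⁻¹ * p) := by
      intro v hv p hp
      have hv2 := (hVtriple v hv v hv).1
      have hvi : v⁻¹ = v := inv_eq_of_mul_eq_one_right hv2
      show v * (v * p * v⁻¹ * p) = v * p * v⁻¹ * p * v
      rw [(hPab _ (hPn.conj_mem p hp v) p hp).eq]
      calc v * (p * (v * p * v⁻¹)) = v * p * v * p * v⁻¹ := by group
        _ = v * p * v⁻¹ * p * v := by rw [hvi]
        _ = p * (v * p * v⁻¹) * v := by rw [← (hPab _ (hPn.conj_mem p hp v) p hp).eq]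
    -- the fixed points of two different involutions cannot both be non-trivial
    have hone : ∀ v ∈ ({qa, qx, qa * qx} : Set Q), ∀ w ∈ ({qa, qx, qa * qx} : Set Q), v ≠ w →
        ∀ p ∈ P, ∀ p' ∈ P, Commute v p → Commute w p' → p ≠ 1 → p' = 1 := by
      intro v hv w hw hvw p hp p' hp' hvp hwp' hp1
      have hvp' : v * p' * v⁻¹ * p' = 1 := by
        refine hCV1 v hv w hw hvw _ (mul_mem (hPn.conj_mem p' hp' v) hp') (hfixed v hv p' hp') ?_
        have hwv := (hVtriple w hw v hv).2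
        exact ((hwv.mul_right hwp').mul_right hwv.inv_right).mul_right hwp'
      obtain ⟨pl, hplo, hpl⟩ := hoddlift p (podd p hp)
      obtain ⟨pl', hplo', hpl'⟩ := hoddlift p' (podd p' hp')
      have hplP : π pl ∈ P := Subgroup.zpowers_le.mpr hp (hpl ▸ Subgroup.mem_zpowers _)
      have hplP' : π pl' ∈ P := Subgroup.zpowers_le.mpr hp' (hpl' ▸ Subgroup.mem_zpowers _)
      obtain ⟨vl, hvl, hvl2⟩ : ∃ vl : ↥M, π vl = v ∧ (vl : G) * vl ∈ Z := by
        rcases hv with rfl | rfl | rfl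
        · exact ⟨⟨a, haM⟩, rfl, ha2⟩
        · exact ⟨⟨x, hxM⟩, rfl, hx2⟩
        · exact ⟨⟨a, haM⟩ * ⟨x, hxM⟩, map_mul _ _ _, (hV _ (Or.inr (Or.inr rfl))).2.1⟩
      have hvc : ∀ r ∈ Subgroup.zpowers p, Commute v r := by
        intro r hr
        obtain ⟨i, rfl⟩ := Subgroup.mem_zpowers_iff.mp hr
        exact hvp.zpow_right i
      have hc1 : Commute (vl : G) (pl : G) := hexact_odd pl vl hplo hvl2 (by
        rw [map_mul, map_mul, map_mul, map_inv, map_inv, hvl,
          (hvc _ (hpl ▸ Subgroup.mem_zpowers _)).eq, mul_inv_cancel_right, mul_inv_cancel])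
      -- `pl` and `pl'` commute
      have hc2 : Commute (pl : G) (pl' : G) := by
        set c : G := (pl : G) * pl' * (pl : G)⁻¹ * (pl' : G)⁻¹ with hc
        have hcm : ∀ u ∈ M, Commute c u := by
          have h : π (pl * pl' * pl⁻¹ * pl'⁻¹) = 1 := by
            rw [map_mul, map_mul, map_mul, map_inv, map_inv, (hPab _ hplP _ hplP').eq,
              mul_inv_cancel_right, mul_inv_cancel]
          simpa [hc] using (hπ1 _).mp h
        have hinv : π (vl * pl' * vl⁻¹ * pl') = 1 := by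
          rw [map_mul, map_mul, map_mul, map_inv, hvl]
          obtain ⟨i, hi⟩ := Subgroup.mem_zpowers_iff.mp (hpl' ▸ Subgroup.mem_zpowers (π pl'))
          rw [← hi, ← conj_zpow,
            show v * p' * v⁻¹ = p'⁻¹ from eq_inv_of_mul_eq_one_left hvp',
            inv_zpow, inv_mul_cancel]
        set e : G := (vl : G) * pl' * (vl : G)⁻¹ * pl' with he
        have hem : ∀ u ∈ M, Commute e u := by simpa [he] using (hπ1 _).mp hinv
        have hve : (vl : G) * pl' * (vl : G)⁻¹ = e * (pl' : G)⁻¹ := by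
          rw [he, mul_inv_cancel_right]
        have h1 : c = c⁻¹ := by
          calc c = (vl : G) * c * (vl : G)⁻¹ := by
                rw [← (hcm vl vl.2).eq, mul_inv_cancel_right]
            _ = ((vl : G) * pl * (vl : G)⁻¹) * ((vl : G) * pl' * (vl : G)⁻¹) *
                  ((vl : G) * pl * (vl : G)⁻¹)⁻¹ * ((vl : G) * pl' * (vl : G)⁻¹)⁻¹ := by
                rw [hc]; group
            _ = (pl : G) * (e * (pl' : G)⁻¹) * (pl : G)⁻¹ * (e * (pl' : G)⁻¹)⁻¹ := by
                rw [hve, hc1.eq, mul_inv_cancel_right]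
            _ = e * ((pl : G) * (pl' : G)⁻¹ * (pl : G)⁻¹ * pl') * e⁻¹ := by
                rw [← mul_assoc (pl : G) e, ← (hem pl pl.2).eq]; group
            _ = (pl : G) * (pl' : G)⁻¹ * (pl : G)⁻¹ * pl' := by
                rw [(hem _ (mul_mem (mul_mem (mul_mem pl.2 (inv_mem pl'.2)) (inv_mem pl.2))
                  pl'.2)).eq, mul_inv_cancel_right]
            _ = (pl' : G)⁻¹ * c⁻¹ * pl' := by rw [hc]; group
            _ = c⁻¹ := by
                rw [← ((hcm _ (inv_mem pl'.2)).inv_left).eq, inv_mul_cancel_right]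
        have h2 : c * c = 1 := by rw [mul_eq_one_iff_eq_inv]; exact h1
        have h3 : c ^ orderOf pl' = 1 := by
          have h4 : (c * (pl' : G)) ^ orderOf pl' = 1 := by
            rw [show c * (pl' : G) = (pl : G) * pl' * (pl : G)⁻¹ by rw [hc, inv_mul_cancel_right],
              conj_pow, ← Subgroup.orderOf_coe, pow_orderOf_eq_one, mul_one, mul_inv_cancel]
          rwa [(hcm _ pl'.2).mul_pow, ← Subgroup.orderOf_coe, pow_orderOf_eq_one, mul_one,
            Subgroup.orderOf_coe] at h4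
        obtain ⟨k, hk⟩ := hplo'
        rw [hk, pow_succ, pow_mul, pow_two, h2, one_pow, one_mul, hc, mul_inv_eq_one] at h3
        exact mul_inv_eq_iff_eq_mul.mp h3
      -- in the abelian centraliser of `pl`
      have hpl1 : π pl ≠ 1 := fun h => hp1 (by
        have h' : p ∈ Subgroup.zpowers (π pl) := hpl ▸ Subgroup.mem_zpowers p
        rw [h, Subgroup.zpowers_one_eq_bot] at h'
        exact Subgroup.mem_bot.mp h')
      obtain ⟨u, hu, hplu⟩ : ∃ u ∈ M, ¬ Commute (pl : G) u := by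
        by_contra h
        push Not at h
        exact hpl1 ((hπ1 pl).mpr h)
      have hfin := commute_of_noncentral hsub hMtop pl.2 hu hplu vl.2 hc1 pl'.2 hc2.symm
      have hvp'' : Commute v (π pl') := by
        rw [← hvl]
        exact (show Commute vl pl' from Subtype.ext hfin.eq).map π
      have hvp3 : Commute v p' := by
        obtain ⟨i, hi⟩ := Subgroup.mem_zpowers_iff.mp
          (hpl'.symm ▸ Subgroup.mem_zpowers p' : p' ∈ Subgroup.zpowers (π pl'))
        rw [← hi]; exact hvp''.zpow_right i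
      exact hCV1 v hv w hw hvw p' hp' hvp3 hwp'
    -- some involution of the four group centralises `P`
    obtain ⟨v, hv, hvP⟩ : ∃ v ∈ ({qa, qx, qa * qx} : Set Q), ∀ p ∈ P, Commute v p := by
      have mA : qa ∈ ({qa, qx, qa * qx} : Set Q) := Or.inl rfl
      have mX : qx ∈ ({qa, qx, qa * qx} : Set Q) := Or.inr (Or.inl rfl)
      have mAX : qa * qx ∈ ({qa, qx, qa * qx} : Set Q) := Or.inr (Or.inr rfl)
      have hne1 : qa ≠ qx := fun h => hqne h.symm
      have hne2 : qa ≠ qa * qx := fun h => hqx1 (left_eq_mul.mp h)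
      have hne3 : qx ≠ qa * qx := fun h => hqa1 (right_eq_mul.mp h)
      have inverts : ∀ v ∈ ({qa, qx, qa * qx} : Set Q),
          (∀ p ∈ P, Commute v p → p = 1) → ∀ p ∈ P, v * p * v⁻¹ = p⁻¹ := fun v hv h p hp =>
        eq_inv_of_mul_eq_one_left (h _ (mul_mem (hPn.conj_mem p hp v) hp) (hfixed v hv p hp))
      have prod : ∀ v w : Q, (∀ p ∈ P, v * p * v⁻¹ = p⁻¹) → (∀ p ∈ P, w * p * w⁻¹ = p⁻¹) →
          ∀ p ∈ P, Commute (v * w) p := by
        intro v w hv' hw' p hp
        refine mul_inv_eq_iff_eq_mul.mp ?_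
        rw [show v * w * p * (v * w)⁻¹ = v * (w * p * w⁻¹) * v⁻¹ by group, hw' p hp,
          hv' _ (inv_mem hp), inv_inv]
      by_cases hA : ∃ p ∈ P, Commute qa p ∧ p ≠ 1
      · obtain ⟨p, hp, hpc, hp1⟩ := hA
        refine ⟨qa, mA, ?_⟩
        have h := prod qx (qa * qx)
          (inverts _ mX fun p' hp' h => hone qa mA qx mX hne1 p hp p' hp' hpc h hp1)
          (inverts _ mAX fun p' hp' h => hone qa mA _ mAX hne2 p hp p' hp' hpc h hp1)
        rwa [show qx * (qa * qx) = qa by rw [← mul_assoc, hqxa.eq, mul_assoc, hqx2, mul_one]] at h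
      push Not at hA
      have iA := inverts qa mA hA
      by_cases hX : ∃ p ∈ P, Commute qx p ∧ p ≠ 1
      · obtain ⟨p, hp, hpc, hp1⟩ := hX
        refine ⟨qx, mX, ?_⟩
        have h := prod qa (qa * qx) iA
          (inverts _ mAX fun p' hp' h => hone qx mX _ mAX hne3 p hp p' hp' hpc h hp1)
        rwa [← mul_assoc, hqa2, one_mul] at h
      push Not at hX
      exact ⟨qa * qx, mAX, prod qa qx iA (inverts qx mX hX)⟩
    -- all conjugates of `v` agree
    obtain ⟨p, hp, hp1⟩ : ∃ p ∈ P, p ≠ 1 := by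
      by_contra h
      push Not at h
      exact hPne ((Subgroup.eq_bot_iff_forall P).mpr h)
    obtain ⟨pl, hplo, hpl⟩ := hoddlift p (podd p hp)
    have hplP : π pl ∈ P := Subgroup.zpowers_le.mpr hp (hpl ▸ Subgroup.mem_zpowers _)
    obtain ⟨u, hu, hplu⟩ : ∃ u ∈ M, ¬ Commute (pl : G) u := by
      by_contra h
      push Not at h
      have h1 : π pl = 1 := (hπ1 pl).mpr h
      rw [h1, Subgroup.zpowers_one_eq_bot] at hpl
      exact hp1 (Subgroup.mem_bot.mp (hpl ▸ Subgroup.mem_zpowers p))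
    have hv2 := (hVtriple v hv v hv).1
    have hv1 : v ≠ 1 := by
      rcases hv with rfl | rfl | rfl
      · exact hqa1
      · exact hqx1
      · exact fun h => hqne (by
          rw [mul_eq_one_iff_eq_inv, inv_eq_of_mul_eq_one_right hqx2] at h
          exact h.symm)
    obtain ⟨vl, hvl, hvl2, g, hg, hgv⟩ := hlift v hv2 hv1
    have hcv : ∀ q : Q, q * v * q⁻¹ = v := by
      intro q
      obtain ⟨h, rfl⟩ := QuotientGroup.mk'_surjective (Subgroup.center ↥M) q
      have hvc : Commute (vl : G) (pl : G) := hexact_odd pl vl hplo hvl2 (by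
        rw [map_mul, map_mul, map_mul, map_inv, map_inv, hvl, (hvP _ hplP).eq,
          mul_inv_cancel_right, mul_inv_cancel])
      set vl' := h * vl * h⁻¹ with hvl'
      have hvl'2 : (vl' : G) * vl' ∈ Z := by
        have := Subgroup.Normal.conj_mem (inferInstance : Z.Normal) _ hvl2 (h : G)
        simpa [hvl', mul_assoc] using this
      have hvc' : Commute (vl' : G) (pl : G) := hexact_odd pl vl' hplo hvl'2 (by
        have h1 : π vl' * π pl * (π vl')⁻¹ = π pl := by
          rw [hvl', map_mul, map_mul, map_inv, hvl,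
            show π h * v * (π h)⁻¹ * π pl * (π h * v * (π h)⁻¹)⁻¹ =
              π h * (v * ((π h)⁻¹ * π pl * π h) * v⁻¹) * (π h)⁻¹ by group,
            (hvP _ (by have := hPn.conj_mem _ hplP (π h)⁻¹; rwa [inv_inv] at this)).eq]
          group
        rw [map_mul, map_mul, map_mul, map_inv, map_inv, h1, mul_inv_cancel])
      have hcc : Commute (vl' : G) (vl : G) :=
        commute_of_noncentral hsub hMtop pl.2 hu hplu vl'.2 hvc' vl.2 hvc
      -- transport to `a`
      have hne : (vl' : G) ∉ Z := fun hZ' => hv1 (by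
        have h1 := hπZ vl' hZ'
        rw [hvl', map_mul, map_mul, map_inv, conj_eq_one_iff, hvl] at h1
        exact h1)
      set w := g * (vl' : G) * g⁻¹ with hw
      have hwa : Commute w a := by
        have hb := hcc.map (MulAut.conj g).toMonoidHom
        simp only [MulEquiv.coe_toMonoidHom, MulAut.conj_apply] at hb
        have h2 : g * (vl : G) * g⁻¹ = (g * (vl : G) * g⁻¹ * a⁻¹) * a := by group
        rw [h2] at hb
        have h3 := (hZc _ hgv (g * (vl' : G) * g⁻¹)).inv_right.mul_right hb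
        rwa [inv_mul_cancel_left] at h3
      have hw2 : w * w ∈ Z := by
        have h1 := Subgroup.Normal.conj_mem (inferInstance : Z.Normal) _ hvl'2 g
        rwa [hw, show g * (vl' : G) * g⁻¹ * (g * (vl' : G) * g⁻¹) =
          g * ((vl' : G) * vl') * g⁻¹ by group]
      have hwZ : w ∉ Z := fun h1 => hne (by
        have h2 := Subgroup.Normal.conj_mem (inferInstance : Z.Normal) _ h1 g⁻¹
        simpa [hw, mul_assoc] using h2)
      have h1 := hUniq w hwa hw2 hwZ
      have h2 : (vl' : G) * (vl : G)⁻¹ ∈ Z := by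
        have h3 := mul_mem h1 (inv_mem hgv)
        have h4 := Subgroup.Normal.conj_mem (inferInstance : Z.Normal) _ h3 g⁻¹
        rwa [hw, show g⁻¹ * (g * (vl' : G) * g⁻¹ * a⁻¹ * (g * (vl : G) * g⁻¹ * a⁻¹)⁻¹) * g⁻¹⁻¹ =
          (vl' : G) * (vl : G)⁻¹ by group] at h4
      have h5 : π vl' = π vl := (hπeq _ _).mpr (hπZ _ h2)
      rw [hvl', map_mul, map_mul, map_inv, hvl] at h5
      exact h5
    obtain ⟨q₁, hq₁⟩ := htransM qx hqx2 hqx1
    obtain ⟨q₂, hq₂⟩ := htransM v hv2 hv1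
    rw [hcv q₂] at hq₂
    rw [← hq₂] at hq₁
    exact hqne (by
      calc qx = q₁⁻¹ * (q₁ * qx * q₁⁻¹) * q₁⁻¹⁻¹ := by group
        _ = qa := by rw [hq₁, hcv, hq₂])
  -- the odd core of `Q` is trivial
  have hOQ : ∀ N : Subgroup Q, N.Normal → Odd (Nat.card N) → N = ⊥ := by
    intro N hN hNodd
    by_contra hne
    haveI : Group.IsSolvable N := Cfsg.Agent.S0205.result hNodd
    obtain ⟨A, hA, hAn, hAab, hAne⟩ : ∃ A : Subgroup Q, A ≤ N ∧ A.Normal ∧
        (∀ p ∈ A, ∀ p' ∈ A, Commute p p') ∧ A ≠ ⊥ := by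
      haveI := hN
      obtain ⟨n, hn⟩ := Group.IsSolvable.solvable (G := N)
      induction n with
      | zero =>
        rw [derivedSeries_zero, ← Subgroup.map_eq_bot_iff_of_injective _ N.subtype_injective,
          ← MonoidHom.range_eq_map, Subgroup.range_subtype] at hn
        exact absurd hn hne
      | succ n ih =>
        by_cases h0 : derivedSeries N n = ⊥
        · exact ih h0
        · refine ⟨(derivedSeries N n).map N.subtype, Subgroup.map_subtype_le _, inferInstance, ?_,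
            fun h => h0 ((Subgroup.map_eq_bot_iff_of_injective _ N.subtype_injective).mp h)⟩
          rintro _ ⟨p, hp, rfl⟩ _ ⟨p', hp', rfl⟩
          have h1 : ⁅p, p'⁆ ∈ derivedSeries N (n + 1) :=
            Subgroup.commutator_mem_commutator hp hp'
          rw [hn, Subgroup.mem_bot, commutatorElement_eq_one_iff_mul_comm] at h1
          exact congrArg Subtype.val h1
    exact hAne (hC1 A hAn hAab (hNodd.of_dvd_nat (Subgroup.card_dvd_of_le hA)))
  -- strong embedding of the image of `M`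
  haveI := hsimp
  set Gb := G ⧸ Z
  set Mb : Subgroup Gb := M.map mkG with hMb
  have hMbmem : ∀ g : G, mkG g ∈ Mb ↔ g ∈ M := by
    intro g
    refine ⟨?_, fun h => ⟨g, h, rfl⟩⟩
    rintro ⟨m, hm, he⟩
    have h := (hmk m g).mp he
    have h2 := mul_mem (inv_mem (hZM h)) hm
    rwa [mul_inv_rev, inv_inv, mul_assoc, inv_mul_cancel, mul_one] at h2
  have hinvb : ∀ g : G, g ∈ M → orderOf (mkG g) = 2 →
      ∃ m ∈ M, m * g * m⁻¹ * a⁻¹ ∈ Z := by
    intro g hg ho
    have hg2 : g * g ∈ Z := (hmk1 _).mp (by rw [map_mul, ← pow_two, ← ho, pow_orderOf_eq_one])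
    have hgZ : g ∉ Z := fun h => by
      rw [(hmk1 g).mpr h, orderOf_one] at ho; exact absurd ho (by norm_num)
    have hi1 : π ⟨g, hg⟩ ≠ 1 := by
      intro h
      obtain ⟨k, j, hj, hkj⟩ := Nat.exists_eq_pow_mul_and_not_dvd (orderOf_pos g).ne' 2 (by norm_num)
      have hjo : Odd j := Nat.not_even_iff_odd.mp fun h => hj h.two_dvd
      have h1 : g ^ j ∈ Z := hzM _ (pow_mem hg j)
        (fun w hw => (((hπ1 _).mp h) w hw).pow_left j) k
        (by rw [← pow_mul, mul_comm, ← hkj, pow_orderOf_eq_one])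
      obtain ⟨l, hl⟩ := hjo
      rw [hl, pow_succ, pow_mul, pow_two] at h1
      exact hgZ ((Subgroup.mul_mem_cancel_left _ (pow_mem hg2 l)).mp h1)
    have hi : π ⟨g, hg⟩ * π ⟨g, hg⟩ = 1 := by rw [← map_mul]; exact hπZ _ hg2
    obtain ⟨m, hm, hm2, g', hg', hgm⟩ := hlift _ hi hi1
    refine ⟨g', hg', ?_⟩
    -- `g` and `m` agree modulo `Z`
    set c : G := (m : G) * g⁻¹ with hc
    have hcm : ∀ w ∈ M, Commute c w := by
      have := (hπ1 (m * (⟨g, hg⟩ : ↥M)⁻¹)).mp ((hπeq _ _).mp hm)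
      simpa [hc] using this
    have hmc : (m : G) = c * g := by rw [hc, inv_mul_cancel_right]
    have hcZ : c ∈ Z := by
      have hc2 : c * c ∈ Z := by
        rw [hmc, (hcm g hg).symm.mul_mul_mul_comm] at hm2
        exact (Subgroup.mul_mem_cancel_right _ hg2).mp hm2
      obtain ⟨k, j, hj, hkj⟩ := Nat.exists_eq_pow_mul_and_not_dvd (orderOf_pos c).ne' 2 (by norm_num)
      have hjo : Odd j := Nat.not_even_iff_odd.mp fun h => hj h.two_dvd
      have hcM : c ∈ M := mul_mem m.2 (inv_mem hg)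
      have h1 : c ^ j ∈ Z := hzM _ (pow_mem hcM j)
        (fun w hw => (hcm w hw).pow_left j) k
        (by rw [← pow_mul, mul_comm, ← hkj, pow_orderOf_eq_one])
      obtain ⟨l, hl⟩ := hjo
      rw [hl, pow_succ, pow_mul, pow_two] at h1
      exact (Subgroup.mul_mem_cancel_left _ (pow_mem hc2 l)).mp h1
    have hkey : g' * g * g'⁻¹ * a⁻¹ = c⁻¹ * (g' * (m : G) * g'⁻¹ * a⁻¹) := by
      rw [hmc, show g' * (c * g) * g'⁻¹ * a⁻¹ = (g' * c) * g * g'⁻¹ * a⁻¹ by group,
        (hZc c hcZ g').eq]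
      group
    rw [hkey]
    exact mul_mem (inv_mem hcZ) hgm
  have hoa : orderOf (mkG a) = 2 := orderOf_eq_prime
    (by rw [pow_two, ← map_mul]; exact (hmk1 _).mpr ha2) (fun h => haZ ((hmk1 a).mp h))
  have hMbtop : Mb ≠ ⊤ := fun h => hMtop ((Subgroup.eq_top_iff' M).mpr fun g =>
    (hMbmem g).mp (h ▸ Subgroup.mem_top _))
  have hMbeven : Even (Nat.card Mb) := by
    rw [even_iff_two_dvd, ← hoa]
    exact Subgroup.orderOf_dvd_natCard Mb ((hMbmem a).mpr haM)
  have hSE : Cfsg.IsStronglyEmbedded Mb := by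
    refine (Cfsg.Agent.S0223.result Mb hMbtop hMbeven).mpr ⟨?_, ?_⟩
    · rintro _ ⟨g, hg, rfl⟩ ho q hq
      obtain ⟨h, rfl⟩ := QuotientGroup.mk'_surjective Z q
      obtain ⟨m, hm, hma⟩ := hinvb g hg ho
      have hq' : mkG h * mkG g = mkG g * mkG h := Subgroup.mem_centralizer_singleton_iff.mp hq
      have h1 : (m * h * m⁻¹) * a * (m * h * m⁻¹)⁻¹ * a⁻¹ ∈ Z := by
        rw [← hmk1]
        have ha' : mkG a = mkG (m * g * m⁻¹) := ((hmk _ _).mpr hma).symm
        simp only [map_mul, map_inv] at ha' ⊢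
        rw [ha']
        have hgc : mkG h * mkG g * (mkG h)⁻¹ = mkG g := by rw [hq', mul_inv_cancel_right]
        calc _ = mkG m * (mkG h * mkG g * (mkG h)⁻¹ * (mkG g)⁻¹) * (mkG m)⁻¹ := by group
          _ = 1 := by rw [hgc, mul_inv_cancel, mul_one, mul_inv_cancel]
      have h2 := hNv a hVax _ h1
      have h3 := mul_mem (mul_mem (inv_mem hm) h2) hm
      rw [show m⁻¹ * (m * h * m⁻¹) * m = h by group] at h3
      exact (hMbmem h).mpr h3
    · rintro _ ⟨g, hg, rfl⟩ _ ⟨g', hg', rfl⟩ ho ho' -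
      obtain ⟨m, hm, hma⟩ := hinvb g hg ho
      obtain ⟨m', hm', hma'⟩ := hinvb g' hg' ho'
      refine ⟨mkG (m'⁻¹ * m), (hMbmem _).mpr (mul_mem (inv_mem hm') hm), ?_⟩
      have e1 : mkG (m * g * m⁻¹) = mkG (m' * g' * m'⁻¹) :=
        ((hmk _ _).mpr hma).trans ((hmk _ _).mpr hma').symm
      simp only [map_mul, map_inv] at e1 ⊢
      calc _ = (mkG m')⁻¹ * (mkG m * mkG g * (mkG m)⁻¹) * mkG m' := by group
        _ = mkG g' := by rw [e1]; group
  -- an involution outside `M`
  obtain ⟨u₀, hu₀⟩ : ∃ g : G, g * a * g⁻¹ ∉ M := by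
    by_contra h
    push Not at h
    refine hMtop (top_le_iff.mp ?_)
    have htop : Subgroup.normalClosure ({a} : Set G) ⊔ Z = ⊤ := by
      refine hZ_proper _ ⟨a, le_sup_left (b := Z) (Subgroup.subset_normalClosure rfl), haZ⟩ ?_
        le_sup_right
      intro g h' hh'
      exact Subgroup.Normal.conj_mem inferInstance h' hh' g
    rw [← htop]
    refine sup_le ((Subgroup.closure_le M).mpr ?_) hZM
    intro w hw
    obtain ⟨a', ha', hc⟩ := Group.mem_conjugatesOfSet_iff.mp hw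
    rw [Set.mem_singleton_iff] at ha'
    obtain ⟨q, hq⟩ := isConj_iff.mp hc
    rw [ha'] at hq
    rw [SetLike.mem_coe, ← hq]
    exact h q
  set u := u₀ * a * u₀⁻¹ with hu
  have hou : orderOf (mkG u) = 2 := by
    rw [hu, map_mul, map_mul, map_inv]
    exact ((CfsgLib.Transfer.orderOf_conj (mkG u₀) (mkG a))).trans hoa
  have huMb : mkG u ∉ Mb := fun h => hu₀ ((hMbmem u).mp h)
  obtain ⟨-, hconjall⟩ := Cfsg.Agent.S1225.result Mb hSE (mkG u) hou huMb (mkG a) (mkG a) hoa
    ((hMbmem a).mpr haM) hoa ((hMbmem a).mpr haM)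
  -- `C2`: no normal two-subgroup
  have hO2 : ∀ N : Subgroup Q, N.Normal → IsPGroup 2 N → N = ⊥ := by
    intro N hN hN2
    by_contra hne
    haveI : Nontrivial N := (Subgroup.nontrivial_iff_ne_bot N).mpr hne
    haveI := hN2.center_nontrivial
    set A : Subgroup Q := (Subgroup.center N).map N.subtype with hA
    haveI hAn : A.Normal := by haveI := hN; infer_instance
    have hAc : ∀ p ∈ A, ∀ p' ∈ A, Commute p p' := by
      rintro _ ⟨p, hp, rfl⟩ _ ⟨p', hp', rfl⟩
      exact congrArg Subtype.val (Subgroup.mem_center_iff.mp hp' p)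
    obtain ⟨⟨w, hw⟩, hw1⟩ := exists_ne (1 : Subgroup.center N)
    obtain ⟨k, hk⟩ := hN2 w
    obtain ⟨i, hiA, hi2, hi1⟩ : ∃ i ∈ A, i * i = 1 ∧ i ≠ 1 := by
      have hw' : (w : Q) ≠ 1 := fun h => hw1 (Subtype.ext (Subtype.ext h))
      have hk' : (w : Q) ^ 2 ^ k = 1 := congrArg Subtype.val hk
      obtain ⟨n, hn, hmin⟩ : ∃ n, (w : Q) ^ 2 ^ n = 1 ∧ ∀ m < n, (w : Q) ^ 2 ^ m ≠ 1 :=
        ⟨Nat.find ⟨k, hk'⟩, Nat.find_spec (p := fun n => (w : Q) ^ 2 ^ n = 1) ⟨k, hk'⟩,
          fun m hm => Nat.find_min (p := fun n => (w : Q) ^ 2 ^ n = 1) ⟨k, hk'⟩ hm⟩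
      rcases n with _ | n
      · rw [pow_zero, pow_one] at hn; exact absurd hn hw'
      · exact ⟨(w : Q) ^ 2 ^ n, pow_mem (show (w : Q) ∈ A from ⟨w, hw, rfl⟩) _,
          by rw [← pow_two, ← pow_mul, ← pow_succ]; exact hn, hmin n (Nat.lt_succ_self n)⟩
    have hallA : ∀ j : Q, j * j = 1 → j ≠ 1 → j ∈ A := by
      intro j hj hj1
      obtain ⟨q, hq⟩ := htransM i hi2 hi1
      obtain ⟨q', hq'⟩ := htransM j hj hj1
      have h := hAn.conj_mem _ (hq ▸ hAn.conj_mem i hiA q : qa ∈ A) q'⁻¹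
      rwa [← hq', show q'⁻¹ * (q' * j * q'⁻¹) * q'⁻¹⁻¹ = j by group] at h
    have hA_V : ∀ j : Q, j * j = 1 → j ≠ 1 → j = qa ∨ j = qx ∨ j = qa * qx := by
      intro j hj hj1
      exact (hVQ j (hCQV j (hAc _ (hallA j hj hj1) _ (hallA qa hqa2 hqa1))
        (hAc _ (hallA j hj hj1) _ (hallA qx hqx2 hqx1)))).resolve_left hj1
    -- conjugation by elements commuting with `qa`
    have hperm : ∀ q : Q, Commute q qa → q * qx * q⁻¹ = qx ∨ q * qx * q⁻¹ = qa * qx := by
      intro q hq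
      rcases hA_V (q * qx * q⁻¹)
        (by rw [show q * qx * q⁻¹ * (q * qx * q⁻¹) = q * (qx * qx) * q⁻¹ by group, hqx2, mul_one,
              mul_inv_cancel])
        (fun h => hqx1 (conj_eq_one_iff.mp h)) with h | h | h
      · refine absurd ?_ hqne
        calc qx = q⁻¹ * (q * qx * q⁻¹) * q := by group
          _ = q⁻¹ * (qa * q) := by rw [h, mul_assoc]
          _ = qa := by rw [← hq.eq, inv_mul_cancel_left]
      · exact Or.inl h
      · exact Or.inr h
    have hSQ : ∀ s : ↥M, (s : G) ∈ (S : Subgroup G) → Commute (π s) qa := by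
      intro s hs
      refine mul_inv_eq_iff_eq_mul.mp (mul_inv_eq_one.mp ?_)
      show π s * π _ * (π s)⁻¹ * (π _)⁻¹ = 1
      rw [← map_inv, ← map_inv, ← map_mul, ← map_mul, ← map_mul]
      exact hπZ _ (hSa s hs)
    have hScomm : ∀ s : ↥M, (s : G) ∈ (S : Subgroup G) → Commute (π s) qx := by
      intro s hs
      have hc := hSQ s hs
      rcases hperm _ hc with h | h
      · exact mul_inv_eq_iff_eq_mul.mp h
      · exfalso
        have h2 : π s * π s * qx = qx * (π s * π s) := by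
          have h3 : π s * (qa * qx) * (π s)⁻¹ = qx := by
            rw [← mul_assoc, hc.eq, mul_assoc qa, mul_assoc qa, h, ← mul_assoc, hqa2, one_mul]
          refine mul_inv_eq_iff_eq_mul.mp ?_
          rw [show π s * π s * qx * (π s * π s)⁻¹ = π s * (π s * qx * (π s)⁻¹) * (π s)⁻¹ by group,
            h, h3]
        have notV : ∀ j : Q, j * j = 1 → ¬ (j * qx * j⁻¹ = qa * qx) := by
          intro j hj hj'
          have hcj : Commute j qx := by
            by_cases hj1 : j = 1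
            · rw [hj1]; exact Commute.one_left _
            · exact hAc _ (hallA j hj hj1) _ (hallA qx hqx2 hqx1)
          rw [hcj.eq, mul_inv_cancel_right] at hj'
          exact hqa1 (right_eq_mul.mp hj')
        rcases hVQ _ (hCQV (π s * π s) (hc.mul_left hc) h2) with e | e | e | e
        · exact notV _ e h
        · refine notV (π s * qx) ?_ ?_
          · rw [show π s * qx * (π s * qx) = (π s * qx * (π s)⁻¹) * (π s * π s) * qx by group, h,
              e, show qa * qx * qa = qx by rw [mul_assoc, hqxa.eq, ← mul_assoc, hqa2, one_mul],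
              hqx2]
          · rw [show π s * qx * qx * (π s * qx)⁻¹ = π s * qx * (π s)⁻¹ by group, h]
        · have h4 : π s * qx * (π s)⁻¹ = qx := by rw [← e]; group
          exact hqa1 (right_eq_mul.mp (h4 ▸ h))
        · have h4 : π s * qx * (π s)⁻¹ = qx := by
            have h5 : qx = qa * (π s * π s) := by rw [e, ← mul_assoc, hqa2, one_mul]
            calc π s * qx * (π s)⁻¹ = π s * (qa * (π s * π s)) * (π s)⁻¹ := by rw [← h5]
              _ = qa * (π s * π s) := by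
                rw [← mul_assoc, hc.eq, mul_assoc qa, mul_assoc qa]; group
              _ = qx := h5.symm
          exact hqa1 (right_eq_mul.mp (h4 ▸ h))
    -- so `O ≤ D` and all involution centralisers of `G/Z` are abelian
    have hOD : ∀ o ∈ O, o ∈ D := by
      intro o ho
      have hodd : Odd (orderOf (⟨o, hOM ho⟩ : ↥M)) := by
        rw [← Subgroup.orderOf_coe]; exact hOodd.of_dvd_nat (Subgroup.orderOf_dvd_natCard O ho)
      have hqc : Commute (π ⟨o, hOM ho⟩) qa :=
        (show Commute (⟨o, hOM ho⟩ : ↥M) ⟨a, haM⟩ from Subtype.ext (hOa o ho).symm.eq).map π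
      have hqx' : π ⟨o, hOM ho⟩ * qx * (π ⟨o, hOM ho⟩)⁻¹ = qx := by
        rcases hperm _ hqc with h | h
        · exact h
        · exfalso
          set q := π ⟨o, hOM ho⟩
          have h2 : q * q * qx * (q * q)⁻¹ = qx := by
            rw [show q * q * qx * (q * q)⁻¹ = q * (q * qx * q⁻¹) * q⁻¹ by group, h, ← mul_assoc,
              hqc.eq, mul_assoc qa, mul_assoc qa, h, ← mul_assoc, hqa2, one_mul]
          have hq2 : Commute (q * q) qx := mul_inv_eq_iff_eq_mul.mp h2
          obtain ⟨l, hl⟩ := (hodd.of_dvd_nat (orderOf_map_dvd π _) : Odd (orderOf q))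
          have h3 : q = (q * q) ^ (l + 1) := by
            rw [← pow_two, ← pow_mul, show 2 * (l + 1) = orderOf q + 1 by omega, pow_succ,
              pow_orderOf_eq_one, one_mul]
          have h4 : Commute q qx := h3 ▸ hq2.pow_left _
          rw [h4.eq, mul_inv_cancel_right] at h
          exact hqa1 (right_eq_mul.mp h)
      refine (hDmem o).mpr ⟨ho, hexact_odd ⟨o, hOM ho⟩ ⟨x, hxM⟩ hodd hx2 ?_⟩
      rw [map_mul, map_mul, map_mul, map_inv, map_inv]
      show qx * _ * qx⁻¹ * _ = 1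
      rw [← mul_inv_eq_iff_eq_mul.mp hqx', mul_inv_cancel_right, mul_inv_cancel]
    have hSW : ∀ s ∈ (S : Subgroup G), s ∈ Subgroup.closure ({a, x} : Set G) ⊔ Z := by
      intro s hs
      refine hCS s hs ?_
      have h := hexact ⟨s, hSM hs⟩ ⟨x, hxM⟩ hx2 (by
        rw [map_mul, map_mul, map_mul, map_inv, map_inv, (hScomm ⟨s, hSM hs⟩ hs).eq,
          mul_inv_cancel_right, mul_inv_cancel])
      exact h
    set W : Subgroup Gb := Subgroup.closure ({mkG a, mkG x} : Set Gb) ⊔ D.map mkG with hWdef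
    have hWcomm : ∀ p ∈ W, ∀ p' ∈ W, Commute p p' := by
      have hc : IsMulCommutative ↥(Subgroup.closure
          (({mkG a, mkG x} : Set Gb) ∪ (D.map mkG : Subgroup Gb))) := by
        refine Subgroup.isMulCommutative_closure ?_
        have hc : mkG a * mkG x = mkG x * mkG a := by
          rw [← map_mul, ← map_mul, hmk, show a * x * (x * a)⁻¹ = a * x * a⁻¹ * x⁻¹ by group]
          exact hax'
        have hcd : ∀ v ∈ ({mkG a, mkG x} : Set Gb), ∀ δ ∈ D, v * mkG δ = mkG δ * v := by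
          rintro v (rfl | rfl) δ hδ
          · rw [← map_mul, ← map_mul, ((hMmem a).mp haM δ hδ).eq]
          · rw [← map_mul, ← map_mul, ((hMmem x).mp hxM δ hδ).eq]
        rintro p (hp | ⟨δ, hδ, rfl⟩) p' (hp' | ⟨δ', hδ', rfl⟩)
        · rcases hp with rfl | rfl <;> rcases hp' with rfl | rfl
          exacts [rfl, hc, hc.symm, rfl]
        · exact hcd p hp δ' hδ'
        · exact (hcd p' hp' δ hδ).symm
        · rw [← map_mul, ← map_mul, (hOab δ ((hDmem δ).mp hδ).1 δ' ((hDmem δ').mp hδ').1).eq]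
      have hle : W ≤ Subgroup.closure (({mkG a, mkG x} : Set Gb) ∪ (D.map mkG : Subgroup Gb)) :=
        sup_le (Subgroup.closure_mono Set.subset_union_left)
          (fun p hp => Subgroup.subset_closure (Or.inr hp))
      exact fun p hp p' hp' =>
        congrArg Subtype.val (hc.is_comm.comm ⟨p, hle hp⟩ ⟨p', hle hp'⟩)
    have hCa : ∀ g : G, Commute (mkG g) (mkG a) → mkG g ∈ W := by
      intro g hg
      have hga : g * a * g⁻¹ * a⁻¹ ∈ Z := by
        rw [← hmk1, map_mul, map_mul, map_mul, map_inv, map_inv, hg.eq, mul_inv_cancel_right,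
          mul_inv_cancel]
      obtain ⟨o, ho, s, hs, rfl⟩ := hNa g hga
      rw [map_mul]
      refine mul_mem (le_sup_right (a := Subgroup.closure {mkG a, mkG x})
        ⟨o, hOD o ho, rfl⟩) ?_
      have h := hSW s hs
      have hle : Subgroup.closure ({a, x} : Set G) ⊔ Z ≤ W.comap mkG := by
        refine sup_le ((Subgroup.closure_le _).mpr ?_) fun z hz => ?_
        · rintro w (rfl | rfl)
          · exact le_sup_left (b := D.map mkG) (Subgroup.subset_closure (Or.inl rfl))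
          · exact le_sup_left (b := D.map mkG) (Subgroup.subset_closure (Or.inr rfl))
        · rw [Subgroup.mem_comap, (hmk1 z).mpr hz]; exact one_mem _
      exact hle h
    have hAb : CfsgLib.Invol.AIC.AbInvCent Gb := by
      intro t p p' ht ht1 hp hp'
      obtain ⟨c, hc⟩ := isConj_iff.mp
        (hconjall t (mkG a) (orderOf_eq_prime (by rw [pow_two]; exact ht) ht1) hoa)
      have key : ∀ p : Gb, Commute p t → c * p * c⁻¹ ∈ W := by
        intro p hp
        obtain ⟨g, hg⟩ := QuotientGroup.mk'_surjective Z (c * p * c⁻¹)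
        rw [← hg]
        refine hCa g ?_
        have h := hp.map (MulAut.conj c).toMonoidHom
        simp only [MulEquiv.coe_toMonoidHom, MulAut.conj_apply, hc] at h
        rw [hmkG] at *
        rw [hg]
        exact h
      have h := (hWcomm _ (key p hp) _ (key p' hp')).map (MulAut.conj c⁻¹).toMonoidHom
      simpa [mul_assoc] using h
    obtain ⟨T⟩ := (inferInstance : Nonempty (Sylow 2 Gb))
    have hnon : ¬ IsMulCommutative Gb := fun h => hna fun g h' => by
      rw [← hmk1, map_mul, map_mul, map_mul, map_inv, map_inv, mul_comm' (mkG g) (mkG h'),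
        mul_inv_cancel_right, mul_inv_cancel]
    have hTnn : ¬ (T : Subgroup Gb).Normal := by
      intro h
      rcases hsimp.eq_bot_or_eq_top_of_normal _ h with h1 | h1
      · have := T.dvd_card_of_dvd_card (hoa ▸ orderOf_dvd_natCard (mkG a))
        rw [h1, Subgroup.card_bot] at this
        norm_num at this
      · haveI : Group.IsNilpotent Gb := by
          haveI := (T.2 : IsPGroup 2 (T : Subgroup Gb)).isNilpotent
          exact Group.nilpotent_of_surjective (T : Subgroup Gb).subtype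
            (fun g => ⟨⟨g, h1 ▸ Subgroup.mem_top g⟩, rfl⟩)
        exact hnon (IsSimpleGroup.comm_iff_isSolvable.mpr inferInstance |> fun h => ⟨⟨h⟩⟩)
    have hTnc : ¬ IsCyclic (T : Subgroup Gb) := by
      intro hT
      -- the four group in a Sylow subgroup
      set V := Subgroup.closure ({mkG a, mkG x} : Set Gb) with hVdef
      have hVW : V ≤ W := le_sup_left
      haveI : IsMulCommutative V := ⟨⟨fun p q => Subtype.ext
        (hWcomm p (hVW p.2) q (hVW q.2)).eq⟩⟩
      have hV2 : ∀ p ∈ V, p * p = 1 := by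
        intro p hp
        induction hp using Subgroup.closure_induction with
        | mem p hp =>
          rcases hp with rfl | rfl
          · rw [← map_mul]; exact (hmk1 _).mpr ha2
          · rw [← map_mul]; exact (hmk1 _).mpr hx2
        | one => exact one_mul 1
        | mul p q hp' hq' hp hq =>
          rw [(hWcomm q (hVW hq') p (hVW hp')).mul_mul_mul_comm, hp, hq, one_mul]
        | inv p _ hp => rw [← mul_inv_rev, hp, inv_one]
      obtain ⟨T', hT'⟩ := (show IsPGroup 2 V from fun p => ⟨1, Subtype.ext (by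
        rw [pow_one, Subgroup.coe_pow, pow_two]; exact hV2 p p.2)⟩).exists_le_sylow
      haveI := hT
      haveI : IsCyclic (T' : Subgroup Gb) :=
        isCyclic_of_surjective (Sylow.equiv T T') (MulEquiv.surjective _)
      have huniq : ∀ p q : (T' : Subgroup Gb), orderOf p = 2 → orderOf q = 2 → p = q := by
        intro p q hp hq
        haveI := Fintype.ofFinite (T' : Subgroup Gb)
        have h := IsCyclic.card_orderOf_eq_totient (α := (T' : Subgroup Gb)) (d := 2)
          (hp.symm.dvd.trans orderOf_dvd_card)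
        rw [Nat.totient_two, Finset.card_eq_one] at h
        obtain ⟨r, hr⟩ := h
        have hp' : p ∈ ({r} : Finset _) := hr ▸ by simp [hp]
        have hq' : q ∈ ({r} : Finset _) := hr ▸ by simp [hq]
        rw [Finset.mem_singleton] at hp' hq'
        rw [hp', hq']
      have hox : orderOf (mkG x) = 2 := orderOf_eq_prime
        (by rw [pow_two, ← map_mul]; exact (hmk1 _).mpr hx2) (fun h => hxZ ((hmk1 x).mp h))
      have he := congrArg Subtype.val (huniq ⟨mkG a, hT' (Subgroup.subset_closure (Or.inl rfl))⟩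
        ⟨mkG x, hT' (Subgroup.subset_closure (Or.inr rfl))⟩
        (by rw [← Subgroup.orderOf_coe]; exact hoa) (by rw [← Subgroup.orderOf_coe]; exact hox))
      refine haxZ ?_
      rw [← hmk1, map_mul, show mkG a = mkG x from he, ← map_mul]
      exact (hmk1 _).mpr hx2
    obtain ⟨F, iF, iFt, f, hf, hcard, φ, hφ, hker, -⟩ :=
      CfsgLib.Invol.AIC.isOddCover hAb T hTnc hTnn
    have hinj : Function.Injective φ := by
      rw [← MonoidHom.ker_eq_bot_iff, ← le_bot_iff]
      refine hker.trans ?_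
      rcases hsimp.eq_bot_or_eq_top_of_normal (Subgroup.center Gb) inferInstance with h | h
      · exact h.le
      · exact absurd ⟨⟨fun p q => Subgroup.mem_center_iff.mp (h ▸ Subgroup.mem_top q) p⟩⟩ hnon
    haveI := CfsgLib.Invol.AIC.charP_two_of_card hcard
    have hd2 := CfsgLib.Invol.AIC.sq_of_comm_invol (c := φ (mkG a)) (y := φ (mkG d))
      (by rw [← map_mul, ← map_mul, (hmk1 _).mpr ha2, map_one])
      (fun h => haZ ((hmk1 a).mp (hinj (h.trans (map_one φ).symm))))
      ((show Commute d a from (hOa d hd).symm).map (φ.comp mkG))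
    rw [← map_mul, ← map_mul, ← map_one φ] at hd2
    refine hdZ ((hmk1 d).mp (CfsgLib.Invol.AIC.eq_one_of_odd ?_ (by
      rw [← map_mul]; exact hinj hd2)))
    exact (hOodd.of_dvd_nat (Subgroup.orderOf_dvd_natCard O hd)).of_dvd_nat (orderOf_map_dvd mkG d)
  -- `C3`
  set R : Subgroup G := M ⊓ M.map (MulAut.conj u).toMonoidHom with hR
  have hRmem : ∀ g : G, g ∈ R ↔ g ∈ M ∧ u⁻¹ * g * u ∈ M := fun g => by
    rw [hR, Subgroup.mem_inf, Subgroup.mem_map_equiv, MulAut.conj_symm_apply]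
  have hMbu : ∀ g : G, mkG g ∈ Mb ⊓ Mb.map (MulAut.conj (mkG u)).toMonoidHom ↔ g ∈ R := fun g => by
    rw [Subgroup.mem_inf, Subgroup.mem_map_equiv, MulAut.conj_symm_apply, ← map_inv, ← map_mul,
      ← map_mul, hMbmem, hMbmem, hRmem]
  have hRodd : ∀ g ∈ R, Odd (orderOf (mkG g)) := fun g hg =>
    (hSE.2.2 (mkG u) huMb).of_dvd_nat (Subgroup.orderOf_dvd_natCard _ ((hMbu g).mpr hg))
  have hRtrans : ∀ g ∈ M, orderOf (mkG g) = 2 → ∃ r ∈ R, r * a * r⁻¹ * g⁻¹ ∈ Z := by
    intro g hg ho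
    obtain ⟨⟨q, hq, hqg⟩, -⟩ := Cfsg.Agent.S1225.result Mb hSE (mkG u) hou huMb (mkG a) (mkG g)
      hoa ((hMbmem a).mpr haM) ho ((hMbmem g).mpr hg)
    obtain ⟨r, rfl⟩ := QuotientGroup.mk'_surjective Z q
    refine ⟨r, (hMbu r).mp hq, ?_⟩
    rw [← hmk, map_mul, map_mul, map_inv]
    exact hqg
  have hRM : R ≤ M := inf_le_left
  by_cases hRab : ∀ r ∈ R, ∀ r' ∈ R, Commute r r'
  · -- abelian: regular on the involutions of `Q`
    set R' : Subgroup Q := (R.subgroupOf M).map π with hR'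
    have hR'mem : ∀ q ∈ R', ∃ r : ↥M, (r : G) ∈ R ∧ π r = q := by
      rintro q ⟨r, hr, rfl⟩; exact ⟨r, hr, rfl⟩
    have hR'odd : Odd (Nat.card R') := by
      rw [← Nat.not_even_iff_odd, even_iff_two_dvd]
      intro h
      obtain ⟨q, hq⟩ := exists_prime_orderOf_dvd_card' 2 h
      obtain ⟨r, hr, hrq⟩ := hR'mem q q.2
      have hj := hRodd _ hr
      have h1 : ((r : G)) ^ orderOf (mkG (r : G)) ∈ Z := by
        rw [← hmk1, map_pow, pow_orderOf_eq_one]
      have h2 : (q : Q) ^ orderOf (mkG (r : G)) = 1 := by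
        rw [← hrq, ← map_pow]; exact hπZ _ h1
      have h3 := orderOf_dvd_of_pow_eq_one h2
      rw [Subgroup.orderOf_coe, hq] at h3
      exact absurd (hj.of_dvd_nat h3) (by decide)
    have htrans' : ∀ i : Q, i * i = 1 → i ≠ 1 → ∃ r ∈ R', r * qa * r⁻¹ = i := by
      intro i hi hi1
      obtain ⟨m, hm, hm2, -⟩ := hlift i hi hi1
      have ho : orderOf (mkG (m : G)) = 2 := orderOf_eq_prime
        (by rw [pow_two, ← map_mul]; exact (hmk1 _).mpr hm2)
        (fun h => hi1 (by rw [← hm]; exact hπZ _ ((hmk1 _).mp h)))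
      obtain ⟨r, hr, hrm⟩ := hRtrans m m.2 ho
      refine ⟨π ⟨r, hRM hr⟩, ⟨⟨r, hRM hr⟩, hr, rfl⟩, ?_⟩
      rw [← hm, ← map_inv, ← map_mul, ← map_mul, hπeq]
      exact hπZ _ hrm
    have hR'ab : ∀ p ∈ R', ∀ p' ∈ R', Commute p p' := by
      intro p hp p' hp'
      obtain ⟨r, hr, rfl⟩ := hR'mem p hp
      obtain ⟨r', hr', rfl⟩ := hR'mem p' hp'
      exact (show Commute r r' from Subtype.ext (hRab _ hr _ hr').eq).map π
    refine regular_false R' qa qx hqa2 hqa1 hqx2 hqx1 hqne hqxa hR'ab hR'odd ?_ htrans' ?_ ?_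
      hOQ hO2
    · intro p hp hpz
      obtain ⟨r, hr, hrx⟩ := htrans' qx hqx2 hqx1
      refine hCQV1 p (hR'odd.of_dvd_nat (Subgroup.orderOf_dvd_natCard R' hp)) hpz ?_
      rw [← hrx]
      exact ((hR'ab p hp r hr).mul_right hpz).mul_right (hR'ab p hp r hr).inv_right
    · intro q e he he1 hqe p hp p' hp'
      obtain ⟨g, rfl⟩ := QuotientGroup.mk'_surjective (Subgroup.center ↥M) q
      obtain ⟨r₂, hr₂, rfl⟩ := hR'mem e he
      obtain ⟨r₁, hr₁, hr₁e⟩ := hR'mem _ hqe
      obtain ⟨r, hr, rfl⟩ := hR'mem p hp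
      obtain ⟨r', hr', rfl⟩ := hR'mem p' hp'
      obtain ⟨w, hw, hr₁w⟩ : ∃ w ∈ M, ¬ Commute (r₁ : G) w := by
        by_contra h
        push Not at h
        refine he1 ?_
        have h1 : π r₁ = 1 := (hπ1 r₁).mpr h
        rw [h1] at hr₁e
        exact conj_eq_one_iff.mp hr₁e.symm
      -- `g r g⁻¹` commutes with `r₁`
      set c : G := (r₁ : G) * ((g : G) * r₂ * (g : G)⁻¹)⁻¹ with hc
      have hcm : ∀ w ∈ M, Commute c w := by
        have h : π (r₁ * (g * r₂ * g⁻¹)⁻¹) = 1 := by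
          rw [map_mul, map_inv, map_mul, map_mul, map_inv, hr₁e]
          exact mul_inv_cancel _
        simpa [hc] using (hπ1 _).mp h
      have hcr : Commute ((g : G) * r * (g : G)⁻¹) (r₁ : G) := by
        have h1 : Commute ((g : G) * r * (g : G)⁻¹) ((g : G) * r₂ * (g : G)⁻¹) := by
          have := (hRab _ hr _ hr₂).map (MulAut.conj (g : G)).toMonoidHom
          simpa using this
        have h2 : Commute ((g : G) * r * (g : G)⁻¹) c :=
          (hcm _ (mul_mem (mul_mem g.2 r.2) (inv_mem g.2))).symm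
        have h3 := h2.mul_right h1
        rwa [hc, inv_mul_cancel_right] at h3
      have hfin := commute_of_noncentral hsub hMtop r₁.2 hw hr₁w
        (mul_mem (mul_mem g.2 r.2) (inv_mem g.2)) hcr r'.2 (hRab _ hr' _ hr₁)
      have : Commute (g * r * g⁻¹) r' := Subtype.ext hfin.eq
      have h := this.map π
      simp only [map_mul, map_inv] at h
      exact h
    · -- odd elements of `C_Q(qa)` and their conjugates
      intro o c ho hoz hcz
      have hdec : ∀ q : Q, Commute q qa → ∃ (w s : ↥M), (w : G) ∈ O ∧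
          (s : G) ∈ (S : Subgroup G) ∧ q = π w * π s := by
        intro q hq
        obtain ⟨g, rfl⟩ := QuotientGroup.mk'_surjective (Subgroup.center ↥M) q
        have hga : (g : G) * a * (g : G)⁻¹ * a⁻¹ ∈ Z := hexact g ⟨a, haM⟩ ha2 (by
          rw [map_mul, map_mul, map_mul, map_inv, map_inv, hq.eq, mul_inv_cancel_right,
            mul_inv_cancel])
        obtain ⟨w, hw, s, hs, hgs⟩ := hNa g hga
        exact ⟨⟨w, hOM hw⟩, ⟨s, hSM hs⟩, hw, hs, by
          rw [← map_mul]; exact congrArg π (Subtype.ext hgs)⟩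
      have hOc : ∀ w w' : ↥M, (w : G) ∈ O → (w' : G) ∈ O → Commute (π w) (π w') :=
        fun w w' hw hw' => (show Commute w w' from Subtype.ext (hOab _ hw _ hw').eq).map π
      have hSact : ∀ s : ↥M, (s : G) ∈ (S : Subgroup G) →
          (∀ w : ↥M, (w : G) ∈ O → π s * π w * (π s)⁻¹ = π w) ∨
          (∀ w : ↥M, (w : G) ∈ O → π s * π w * (π s)⁻¹ = (π w)⁻¹) := by
        intro s hs
        rcases hS _ hs with h | h
        · left
          intro w hw
          rw [((show Commute s w from Subtype.ext (h _ hw).eq).map π).eq, mul_inv_cancel_right]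
        · right
          intro w hw
          have hxs : π (⟨x, hxM⟩ * s) * π w * (π (⟨x, hxM⟩ * s))⁻¹ = π w := by
            rw [((show Commute (⟨x, hxM⟩ * s) w from Subtype.ext (h _ hw).eq).map π).eq,
              mul_inv_cancel_right]
          have hinvx : qx * π w * qx⁻¹ = (π w)⁻¹ := by
            refine eq_inv_of_mul_eq_one_left ?_
            show π _ * π w * (π _)⁻¹ * π w = 1
            rw [← map_inv, ← map_mul, ← map_mul, ← map_mul]
            refine hπD _ ((hDmem _).mpr ⟨mul_mem (hOx _ hw) hw, ?_⟩)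
            show x * (x * (w : G) * x⁻¹ * w) = x * (w : G) * x⁻¹ * w * x
            rw [(hOab _ (hOx _ hw) _ hw).eq]
            calc x * ((w : G) * (x * w * x⁻¹)) = x * w * x * w * x⁻¹ := by group
              _ = x * w * x⁻¹ * ((x * x) * (w : G)) * x⁻¹ := by group
              _ = x * w * x⁻¹ * ((w : G) * (x * x)) * x⁻¹ := by rw [(hZc _ hx2 (w : G)).eq]
              _ = x * w * x⁻¹ * w * x := by group
              _ = (w : G) * (x * w * x⁻¹) * x := by rw [← (hOab _ (hOx _ hw) _ hw).eq]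
          rw [map_mul] at hxs
          calc π s * π w * (π s)⁻¹ = qx⁻¹ * (qx * π s * π w * (qx * π s)⁻¹) * qx := by group
            _ = qx⁻¹ * π w * qx := by rw [hxs]
            _ = qx * π w * qx⁻¹ := by rw [inv_eq_of_mul_eq_one_right hqx2]
            _ = (π w)⁻¹ := hinvx
      obtain ⟨w, s, hw, hs, rfl⟩ := hdec o hoz
      obtain ⟨w', s', hw', hs', rfl⟩ := hdec c hcz
      obtain ⟨k, hk⟩ := two_pow _ hs
      have hsk : (π s) ^ 2 ^ k = 1 := by
        rw [← map_pow, show s ^ 2 ^ k = 1 from Subtype.ext hk, map_one]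
      have hcopk : ∀ p : Q, Odd (orderOf p) → p ^ 2 ^ k = 1 → p = 1 := fun p hp h =>
        orderOf_eq_one_iff.mp ((Nat.Coprime.pow_right k
          (Nat.coprime_two_right.mpr hp)).eq_one_of_dvd (orderOf_dvd_of_pow_eq_one h))
      obtain ⟨w₂, hw₂, hpw⟩ : ∃ w₂ : ↥M, (w₂ : G) ∈ O ∧ π w * π s = π w₂ := by
        rcases hSact s hs with h | h
        · refine ⟨w, hw, ?_⟩
          have hcom : Commute (π s) (π w) := mul_inv_eq_iff_eq_mul.mp (h w hw)
          have h1 : π s = 1 := by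
            refine hcopk _ ?_ hsk
            have hwo : Odd (orderOf (π w)) := (hOodd.of_dvd_nat (by
              have := Subgroup.orderOf_dvd_natCard O hw
              rwa [Subgroup.orderOf_coe] at this)).of_dvd_nat (orderOf_map_dvd π w)
            have e : π s = (π w)⁻¹ * (π w * π s) := by group
            rw [e]
            refine (hwo.mul ho).of_dvd_nat ?_
            have hcc : Commute (π w)⁻¹ (π w * π s) :=
              ((Commute.refl (π w)).mul_right hcom.symm).inv_left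
            exact hcc.orderOf_mul_dvd_mul_orderOf.trans (by rw [orderOf_inv])
          rw [h1, mul_one]
        · refine ⟨1, one_mem _, ?_⟩
          rw [map_one]
          refine hcopk _ ho ?_
          rcases Nat.eq_zero_or_pos k with rfl | hk0
          · rw [pow_zero, pow_one] at hsk
            have h' := h w hw
            rw [hsk, one_mul, inv_one, mul_one] at h'
            have hwo : Odd (orderOf (π w)) := (hOodd.of_dvd_nat (by
              have := Subgroup.orderOf_dvd_natCard O hw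
              rwa [Subgroup.orderOf_coe] at this)).of_dvd_nat (orderOf_map_dvd π w)
            rw [pow_zero, pow_one, hsk, mul_one]
            exact CfsgLib.Invol.AIC.eq_one_of_odd hwo (by
              nth_rewrite 2 [h']; exact mul_inv_cancel _)
          · rw [show 2 ^ k = 2 * 2 ^ (k - 1) by rw [← pow_succ', Nat.sub_add_cancel hk0], pow_mul,
              show (π w * π s) ^ 2 = π w * (π s * π w * (π s)⁻¹) * (π s * π s) by
                rw [pow_two]; group,
              h w hw, mul_inv_cancel, one_mul, ← pow_two, ← pow_mul, ← pow_succ',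
              Nat.sub_add_cancel hk0, hsk]
      rw [hpw]
      rcases hSact s' hs' with h | h
      · rw [show π w' * π s' * π w₂ * (π w' * π s')⁻¹ =
          π w' * (π s' * π w₂ * (π s')⁻¹) * (π w')⁻¹ by group, h w₂ hw₂,
          (hOc w' w₂ hw' hw₂).eq, mul_inv_cancel_right]
        exact Subgroup.mem_zpowers _
      · rw [show π w' * π s' * π w₂ * (π w' * π s')⁻¹ =
          π w' * (π s' * π w₂ * (π s')⁻¹) * (π w')⁻¹ by group, h w₂ hw₂,
          ((hOc w' w₂ hw' hw₂).inv_right).eq, mul_inv_cancel_right]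
        exact inv_mem (Subgroup.mem_zpowers _)
  · -- non-abelian
    push Not at hRab
    obtain ⟨y, hy, w, hw, hyw⟩ := hRab
    set X : Subgroup G := Subgroup.normalizer (R : Set G) with hX
    have hXtop : X ≠ ⊤ := by
      intro h
      haveI : R.Normal := Subgroup.normalizer_eq_top_iff.mp h
      have hyZ : y ∉ Z := fun hyZ => hyw (hZc y hyZ w).symm
      have hZR : Z ≤ R := fun z hz => (hRmem z).mpr ⟨hZM hz, by
        rw [(hZc z hz u⁻¹).eq, inv_mul_cancel_right]; exact hZM hz⟩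
      exact hMtop (top_le_iff.mp ((hZ_proper R ⟨y, hy, hyZ⟩
        (fun g h' hh' => Subgroup.Normal.conj_mem inferInstance h' hh' g) hZR).ge.trans hRM))
    have hDR : ∀ δ ∈ D, ∀ r ∈ R, Commute δ r := fun δ hδ r hr =>
      ((hMmem r).mp (hRM hr) δ hδ).symm
    have hDuR : ∀ δ ∈ D, ∀ r ∈ R, Commute (u * δ * u⁻¹) r := by
      intro δ hδ r hr
      have h := ((hMmem _).mp ((hRmem r).mp hr).2 δ hδ).symm.map (MulAut.conj u).toMonoidHom
      simpa [mul_assoc] using h
    have hcen : ∀ q : G, (∀ r ∈ R, Commute q r) → q ∈ X := fun q hq =>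
      Subgroup.mem_normalizer_fintype fun r hr => by
        show q * r * q⁻¹ ∈ R
        rw [(hq r hr).eq, mul_inv_cancel_right]; exact hr
    have hDDu : ∀ δ ∈ D, ∀ δ' ∈ D, Commute (u * δ' * u⁻¹) δ := fun δ hδ δ' hδ' =>
      commute_of_noncentral hsub hXtop (Subgroup.le_normalizer hy) (Subgroup.le_normalizer hw) hyw
        (hcen _ (hDuR δ' hδ')) (hDuR δ' hδ' y hy) (hcen _ (hDR δ hδ)) (hDR δ hδ y hy)
    have hMu : ∀ g ∈ M, u⁻¹ * g * u ∈ M := by
      intro g hg
      refine (hMmem _).mpr fun δ hδ => ?_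
      set e := u * δ * u⁻¹ with he
      have heM : e ∈ M := (hMmem e).mpr fun δ₁ hδ₁ => hDDu δ₁ hδ₁ δ hδ
      have hge : Commute g e := by
        by_contra hne
        exact hyw (commute_of_noncentral hsub hMtop heM hg (fun h => hne h.symm) (hRM hy)
          (hDuR δ hδ y hy).symm (hRM hw) (hDuR δ hδ w hw).symm)
      have h := hge.map (MulAut.conj u⁻¹).toMonoidHom
      simpa [he, mul_assoc] using h
    have haR : a ∈ R := (hRmem a).mpr ⟨haM, hMu a haM⟩
    have h := hRodd a haR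
    rw [hoa] at h
    exact absurd h (by decide)

end CfsgLib.MinNonCA
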