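import Cfsg.Agent.Lib.MinNonCA.AbelianShape
import Cfsg.Agent.Lib.MinNonCA.Multiplier
import Cfsg.Agent.Lib.Invol.AICSplit
import Cfsg.Agent.Lib.OddOrder.Solvable

/-!
Two facts on quasisimple groups for the reduction of S4369: over a projective special linear quotient
in odd characteristic with even centre all involutions are central, and a CA quasisimple group with
abelian Sylow 2-subgroups has trivial centre.
-/

set_option autoImplicit false
set_option linter.style.haveILetI false
set_option linter.unusedSectionVars false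

namespace CfsgLib.MinNonCA

open Cfsg

variable {N : Type*} [Group N] [Finite N]

/-- An element of `SL₂` squaring to one is central in odd characteristic. -/
theorem sl2_commute_of_sq {F : Type*} [Field F] (h2 : (2 : F) ≠ 0)
    (s : Matrix.SpecialLinearGroup (Fin 2) F) (hs : s * s = 1)
    (x : Matrix.SpecialLinearGroup (Fin 2) F) : Commute x s := by
  have he : ((s⁻¹ : Matrix.SpecialLinearGroup (Fin 2) F) : Matrix (Fin 2) (Fin 2) F) =
      (s : Matrix (Fin 2) (Fin 2) F) := by rw [inv_eq_of_mul_eq_one_right hs]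
  rw [Matrix.SpecialLinearGroup.coe_inv, Matrix.adjugate_fin_two] at he
  have e00 := congrFun (congrFun he 0) 0
  have e01 := congrFun (congrFun he 0) 1
  have e10 := congrFun (congrFun he 1) 0
  simp at e00 e01 e10
  have hb : (s : Matrix (Fin 2) (Fin 2) F) 0 1 = 0 :=
    (mul_eq_zero.mp (show (2 : F) * (s : Matrix (Fin 2) (Fin 2) F) 0 1 = 0 by
      linear_combination -e01)).resolve_left h2
  have hc : (s : Matrix (Fin 2) (Fin 2) F) 1 0 = 0 :=
    (mul_eq_zero.mp (show (2 : F) * (s : Matrix (Fin 2) (Fin 2) F) 1 0 = 0 by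
      linear_combination -e10)).resolve_left h2
  have hsd : (s : Matrix (Fin 2) (Fin 2) F) = ((s : Matrix (Fin 2) (Fin 2) F) 0 0) • 1 := by
    ext i j
    fin_cases i <;> fin_cases j <;> simp [hb, hc, e00]
  refine Subtype.ext ?_
  rw [Matrix.SpecialLinearGroup.coe_mul, Matrix.SpecialLinearGroup.coe_mul, hsd, Matrix.mul_smul,
    Matrix.smul_mul, Matrix.mul_one, Matrix.one_mul]

/-- With an even centre over `PSL₂` in odd characteristic all involutions are central. -/
theorem involution_central (hperf : commutator N = ⊤) {F : Type} [Field F] [Fintype F]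
    (hodd : Odd (Fintype.card F)) (h3 : 3 < Fintype.card F)
    (e : (N ⧸ Subgroup.center N) ≃* Matrix.ProjectiveSpecialLinearGroup (Fin 2) F)
    (h2 : 2 ∣ Nat.card (Subgroup.center N)) {b : N} (hb : b * b = 1) : b ∈ Subgroup.center N := by
  have h4 : Fintype.card F ≠ 4 := fun h => by rw [h] at hodd; exact absurd hodd (by decide)
  have hF2 : (2 : F) ≠ 0 := by
    intro h
    haveI : Fact (Nat.Prime 2) := ⟨Nat.prime_two⟩
    haveI : CharP F 2 := CharTwo.of_one_ne_zero_of_two_eq_zero one_ne_zero h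
    obtain ⟨k, -, hk⟩ := FiniteField.card F 2
    rw [hk] at hodd
    exact Nat.not_even_iff_odd.mpr hodd (Nat.even_pow.mpr ⟨even_two, k.ne_zero⟩)
  obtain ⟨n, hn, hm⟩ : ∃ n, Odd n ∧ HasCyclicSchurMultiplier (Matrix.SpecialLinearGroup (Fin 2) F) n := by
    by_cases h9 : Fintype.card F = 9
    · exact ⟨3, ⟨1, rfl⟩, CfsgLib.Schur.SLTwoNine.multiplier_sl_two_nine h9⟩
    · exact ⟨1, odd_one, CfsgLib.Schur.hasTrivialMultiplier_SL_two h4 h9⟩
  obtain ⟨Γ, hstem, hfst⟩ := exists_stem_cover hperf h3 e
  set sn := (MonoidHom.snd N (Matrix.SpecialLinearGroup (Fin 2) F)).comp Γ.subtype with hsn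
  set fs := (MonoidHom.fst N (Matrix.SpecialLinearGroup (Fin 2) F)).comp Γ.subtype with hfs
  have hksn : Odd (Nat.card sn.ker) := hn.of_dvd_nat (card_ker_dvd_multiplier hm _ hstem)
  have hkfs : Odd (Nat.card fs.ker) := by
    have h1 : Nat.card Γ = Nat.card (Matrix.SpecialLinearGroup (Fin 2) F) * Nat.card sn.ker := by
      rw [Subgroup.card_eq_card_quotient_mul_card_subgroup sn.ker,
        Nat.card_congr (QuotientGroup.quotientKerEquivOfSurjective sn hstem.1).toEquiv]
    have h1' : Nat.card Γ = Nat.card N * Nat.card fs.ker := by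
      rw [Subgroup.card_eq_card_quotient_mul_card_subgroup fs.ker,
        Nat.card_congr (QuotientGroup.quotientKerEquivOfSurjective fs hfst).toEquiv]
    rw [card_SL_eq_two_mul hodd e] at h1
    rw [Subgroup.card_eq_card_quotient_mul_card_subgroup (Subgroup.center N), h1] at h1'
    obtain ⟨c, hc⟩ := h2
    rw [hc] at h1'
    have h5 : Nat.card (N ⧸ Subgroup.center N) * (2 * Nat.card sn.ker) =
        Nat.card (N ⧸ Subgroup.center N) * (2 * (c * Nat.card fs.ker)) := by
      linarith
    have h6 := Nat.eq_of_mul_eq_mul_left (by norm_num) (Nat.eq_of_mul_eq_mul_left Nat.card_pos h5)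
    exact hksn.of_dvd_nat ⟨c, h6.trans (mul_comm _ _)⟩
  obtain ⟨x, hx⟩ := hfst b
  obtain ⟨m, hm1, hm2⟩ := Invol.AIC.exists_sq_lift fs hkfs (x := x) (by rw [show fs x = b from hx, hb])
  set g := x ^ m with hg
  rw [show fs x = b from hx] at hm2
  -- `g` is central modulo the central kernel, and the cover is perfect
  have hgz : ∀ a : Γ, ∃ z ∈ Subgroup.center Γ, g * a * g⁻¹ = a * z := by
    intro a
    refine ⟨a⁻¹ * (g * a * g⁻¹), hstem.2.1 ?_, (mul_inv_cancel_left a _).symm⟩
    have hc : Commute (sn a) (sn g) := sl2_commute_of_sq hF2 _ (by rw [← map_mul, hm1, map_one]) _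
    show sn (a⁻¹ * (g * a * g⁻¹)) = 1
    rw [map_mul, map_mul, map_mul, map_inv, map_inv, ← hc.eq, mul_inv_cancel_right, inv_mul_cancel]
  have hperfΓ : commutator Γ = ⊤ := top_le_iff.mp fun a _ => by
    obtain ⟨c, hc, hca⟩ : sn a ∈ (commutator Γ).map sn := by
      rw [commutator_def, Subgroup.map_commutator, Subgroup.map_top_of_surjective sn hstem.1,
        ← commutator_def, OrthMinDegree.sl2_perfect h3]
      exact Subgroup.mem_top _
    have hk : c⁻¹ * a ∈ commutator Γ := hstem.2.2 (by
      show sn (c⁻¹ * a) = 1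
      rw [map_mul, map_inv, hca, inv_mul_cancel])
    simpa using mul_mem hc hk
  have hgc : g ∈ Subgroup.center Γ := by
    rw [Subgroup.mem_center_iff]
    intro a
    suffices commutator Γ ≤ Subgroup.centralizer ({g} : Set Γ) by
      exact Subgroup.mem_centralizer_singleton_iff.mp (this (hperfΓ ▸ Subgroup.mem_top a))
    rw [commutator_eq_closure, Subgroup.closure_le]
    rintro v ⟨p, q, rfl⟩
    obtain ⟨zp, hzp, ep⟩ := hgz p
    obtain ⟨zq, hzq, eq⟩ := hgz q
    refine Subgroup.mem_centralizer_singleton_iff.mpr ?_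
    have hp' : ∀ y, Commute y zp := Subgroup.mem_center_iff.mp hzp
    have hq' : ∀ y, Commute y zq := Subgroup.mem_center_iff.mp hzq
    have key : g * (p * q * p⁻¹ * q⁻¹) * g⁻¹ = p * q * p⁻¹ * q⁻¹ := by
      calc g * (p * q * p⁻¹ * q⁻¹) * g⁻¹
          = (g * p * g⁻¹) * (g * q * g⁻¹) * (g * p * g⁻¹)⁻¹ * (g * q * g⁻¹)⁻¹ := by group
        _ = p * (zp * (q * zq)) * zp⁻¹ * p⁻¹ * zq⁻¹ * q⁻¹ := by rw [ep, eq]; group
        _ = p * q * (zq * p⁻¹) * zq⁻¹ * q⁻¹ := by rw [← (hp' (q * zq)).eq]; group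
        _ = _ := by rw [← (hq' p⁻¹).eq]; group
    rw [commutatorElement_def]
    exact (mul_inv_eq_iff_eq_mul.mp key).symm
  rw [Subgroup.mem_center_iff]
  intro y
  obtain ⟨a, rfl⟩ := hfst y
  rw [← hm2, ← map_mul, ← map_mul, Subgroup.mem_center_iff.mp hgc a]

/-- A perfect CA group with simple central quotient and abelian Sylow 2-subgroups is centreless. -/
theorem center_eq_bot_of_abelian_sylow (hperf : commutator N = ⊤)
    (hsimp : IsSimpleGroup (N ⧸ Subgroup.center N)) (hns : ¬ Group.IsSolvable N)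
    (hCA : ∀ y : N, y ∉ Subgroup.center N → IsMulCommutative (Subgroup.centralizer ({y} : Set N)))
    (S : Sylow 2 N) (hab : ∀ x ∈ (S : Subgroup N), ∀ y ∈ (S : Subgroup N), Commute x y) :
    Subgroup.center N = ⊥ := by
  haveI : Fact (Nat.Prime 2) := ⟨Nat.prime_two⟩
  have hzone : ∀ z ∈ Subgroup.center N, z * z = 1 → z = 1 := fun z hz h =>
    center_inf_eq_one S hab hperf
      (mem_of_commute_all S (fun s _ => (mem_center_iff'.mp hz s).symm) (j := 1)
        (by rw [pow_one, pow_two, h])) hz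
  have hAIC : Invol.AIC.AbInvCent N := fun t a b ht ht1 ha hb => by
    have hc := hCA t fun h => ht1 (hzone t h ht)
    exact congrArg Subtype.val (hc.is_comm.comm
      ⟨a, Subgroup.mem_centralizer_singleton_iff.mpr ha.eq⟩ ⟨b, Subgroup.mem_centralizer_singleton_iff.mpr hb.eq⟩)
  obtain ⟨t, htS, ht, ht1⟩ : ∃ t ∈ (S : Subgroup N), t * t = 1 ∧ t ≠ 1 := by
    have h2 : 2 ∣ Nat.card (S : Subgroup N) := by
      refine S.dvd_card_of_dvd_card ?_
      by_contra h
      exact hns (CfsgLib.OddOrder.odd_order_solvable (Nat.not_even_iff_odd.mp fun he => h (even_iff_two_dvd.mp he)))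
    obtain ⟨q, hq⟩ := exists_prime_orderOf_dvd_card' 2 h2
    rw [← Subgroup.orderOf_coe] at hq
    refine ⟨q, q.2, ?_, fun h => ?_⟩
    · have := pow_orderOf_eq_one (q : N)
      rwa [hq, pow_two] at this
    · rw [h, orderOf_one] at hq
      exact absurd hq (by decide)
  have htc : t ∉ Subgroup.center N := fun h => ht1 (hzone t h ht)
  have hnc : ¬ IsCyclic (S : Subgroup N) := by
    intro h
    haveI := h
    obtain ⟨n, hn, hnt⟩ := exists_normalizer_moving S hab hperf htS ht1
    refine hnt (mul_inv_eq_iff_eq_mul.mp ?_)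
    exact congrArg Subtype.val (CfsgLib.Transfer.eq_of_sq_eq_one_of_isCyclic
      (⟨n * t * n⁻¹, (Subgroup.mem_normalizer_iff.mp hn t).mp htS⟩ : (S : Subgroup N)) ⟨t, htS⟩
      (Subtype.ext (show n * t * n⁻¹ * (n * t * n⁻¹) = 1 by
        rw [show n * t * n⁻¹ * (n * t * n⁻¹) = n * (t * t) * n⁻¹ by group, ht]; group))
      (Subtype.ext ht) (fun h => ht1 (conj_eq_one_iff.mp (congrArg Subtype.val h)))
      (fun h => ht1 (congrArg Subtype.val h)))
  have hnn : ¬ (S : Subgroup N).Normal := by
    intro h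
    haveI := hsimp
    set π := QuotientGroup.mk' (Subgroup.center N) with hπ
    rcases (Subgroup.Normal.map h π (QuotientGroup.mk'_surjective _)).eq_bot_or_eq_top with e | e
    · have := Subgroup.mem_map_of_mem π htS
      rw [e, Subgroup.mem_bot] at this
      exact htc ((QuotientGroup.eq_one_iff t).mp this)
    · refine modCent_ne_top hsimp hperf htc (top_le_iff.mp fun g _ => ?_)
      obtain ⟨s, hs, hsg⟩ : π g ∈ (S : Subgroup N).map π := e ▸ Subgroup.mem_top _
      refine Subgroup.mem_comap.mpr (Subgroup.mem_centralizer_singleton_iff.mpr ?_)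
      show π g * π t = π t * π g
      rw [← hsg]
      exact ((hab s hs t htS).map π).eq
  obtain ⟨F, iF, iF', f, hf, hF, φ, hφ, hker, hodd⟩ := Invol.AIC.isOddCover hAIC S hnc hnn
  haveI : CharP F 2 := Invol.AIC.charP_two_of_card hF
  have hq : 3 ≤ Nat.card F := by
    rw [Nat.card_eq_fintype_card, hF]
    have := Nat.pow_le_pow_right two_pos hf
    omega
  have hbot := Invol.AIC.IsOddCover.ker_inf_commutator hker hodd
  rw [hperf, inf_top_eq] at hbot
  have hinj : Function.Injective φ := (MonoidHom.ker_eq_bot_iff φ).mp hbot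
  haveI := Invol.AIC.isSimple (F := F) hq
  rw [Subgroup.eq_bot_iff_forall]
  intro z hz
  refine hinj ?_
  rw [map_one]
  have hc : φ z ∈ Subgroup.center _ := Subgroup.mem_center_iff.mpr fun y => by
    obtain ⟨w, rfl⟩ := hφ y
    rw [← map_mul, ← map_mul, Subgroup.mem_center_iff.mp hz w]
  rcases (inferInstance : (Subgroup.center (Matrix.ProjectiveSpecialLinearGroup (Fin 2) F)).Normal).eq_bot_or_eq_top with e | e
  · rw [e, Subgroup.mem_bot] at hc
    exact hc
  · exfalso
    have hne : commutator (Matrix.ProjectiveSpecialLinearGroup (Fin 2) F) = ⊥ := by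
      rw [commutator_def, Subgroup.commutator_eq_bot_iff_le_centralizer]
      intro a _
      refine Subgroup.mem_centralizer_iff.mpr fun b _ => ?_
      exact Subgroup.mem_center_iff.mp (e ▸ Subgroup.mem_top a) b
    rw [Invol.AIC.commutator_eq_top hq] at hne
    exact top_ne_bot hne

end CfsgLib.MinNonCA
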