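import Cfsg.Agent.Lib.SL2.MinimalSimple
import Cfsg.Agent.Lib.SL2.Klein

/-!
The groups `PSL(2, q)`, `q` odd, that are not CA-groups while all their proper subgroups are (S4369).
-/

set_option autoImplicit false
set_option linter.style.haveILetI false
set_option linter.unusedSectionVars false

namespace CfsgLib.MinNonCA

open Matrix CfsgLib.SL2
open scoped MatrixGroups

section Small

/-- Elements with squares and product square equal to one commute. -/
theorem commute_of_sq {G : Type*} [Group G] {y z : G} (hy : y * y = 1) (hz : z * z = 1)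
    (hyz : y * z * (y * z) = 1) : Commute y z := by
  have h : y * z = (y * z)⁻¹ := (inv_eq_of_mul_eq_one_right hyz).symm
  rw [_root_.mul_inv_rev, inv_eq_of_mul_eq_one_right hy, inv_eq_of_mul_eq_one_right hz] at h
  exact h

theorem alternating_four_sq :
    ∀ x y : alternatingGroup (Fin 4), x * x = 1 → x ≠ 1 → x * y = y * x → y * y = 1 := by
  have h : ∀ x y : alternatingGroup (Fin 4), x * x ≠ 1 ∨ x = 1 ∨ x * y ≠ y * x ∨ y * y = 1 := by
    decide +kernel
  intro x y h1 h2 h3
  exact (((h x y).resolve_left (· h1)).resolve_left h2).resolve_left (· h3)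

theorem alternating_five_sq :
    ∀ x y : alternatingGroup (Fin 5), x * x = 1 → x ≠ 1 → x * y = y * x → y * y = 1 := by
  have h : ∀ x y : alternatingGroup (Fin 5), x * x ≠ 1 ∨ x = 1 ∨ x * y ≠ y * x ∨ y * y = 1 := by
    decide +kernel
  intro x y h1 h2 h3
  exact (((h x y).resolve_left (· h1)).resolve_left h2).resolve_left (· h3)

theorem sq_of_equiv {G A : Type*} [Group G] [Group A] {H : Subgroup G} (e : H ≃* A)
    (hA : ∀ x y : A, x * x = 1 → x ≠ 1 → x * y = y * x → y * y = 1) {x y : G} (hx : x ∈ H)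
    (hy : y ∈ H) (hx2 : x * x = 1) (hx1 : x ≠ 1) (hc : Commute y x) : y * y = 1 := by
  have h := hA (e ⟨x, hx⟩) (e ⟨y, hy⟩) ?_ ?_ ?_
  · rw [← map_mul, ← map_one e] at h
    exact congrArg Subtype.val (e.injective h)
  · rw [← map_mul, show (⟨x, hx⟩ * ⟨x, hx⟩ : H) = 1 from Subtype.ext hx2, map_one]
  · intro h
    exact hx1 (congrArg Subtype.val (e.map_eq_one_iff.1 h))
  · rw [← map_mul, ← map_mul,
      show (⟨x, hx⟩ * ⟨y, hy⟩ : H) = ⟨y, hy⟩ * ⟨x, hx⟩ from Subtype.ext hc.symm.eq]

end Small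

variable {F : Type*} [Field F] [Finite F]

local notation "PSL" => ProjectiveSpecialLinearGroup (Fin 2) F

/-- In odd characteristic a centraliser of an element of order at least three is abelian. -/
theorem commute_of_nonInvol {x : PSL} (hx1 : x ≠ 1) (hx2 : x * x ≠ 1)
    {y z : PSL} (hy : Commute y x) (hz : Commute z x) : Commute y z := by
  obtain ⟨p, hchar⟩ := CharP.exists F
  haveI : Fact p.Prime := ⟨CharP.char_is_prime F p⟩
  rcases semi_or_orderOf p x hx1 with ho | hs
  · obtain ⟨k, hk⟩ := exists_conj_mem_upperPSL p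
      (IsPGroup.of_card (n := 1) (by rw [Nat.card_zpowers, ho, pow_one]) : IsPGroup p (Subgroup.zpowers x))
    have key : ∀ w : PSL, Commute w x → k * w * k⁻¹ ∈ upperPSL F := by
      intro w hw
      have hkx := hk x (Subgroup.mem_zpowers x)
      refine mem_upperPSL_of_pow p
        (mem_borelPSL_of_conj hkx (fun h => hx1 (conj_eq_one_iff.1 h)) ?_) ?_
      · rw [show k * w * k⁻¹ * (k * x * k⁻¹) * (k * w * k⁻¹)⁻¹ = k * (w * x * w⁻¹) * k⁻¹ by group,
          hw.eq, mul_inv_cancel_right]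
        exact hkx
      · rw [conj_pow, pow_eq_one_of_commute p ho hw.symm, mul_one, mul_inv_cancel]
    exact (Commute.conj_iff k).1 (upperPSL_comm (key y hy) (key z hz))
  · have key : ∀ w : PSL, Commute w x → w ∈ torus x := by
      intro w hw
      by_contra hn
      have hN : w ∈ Subgroup.normalizer (torus x : Set PSL) :=
        le_normalizer_torus p hs (H := Subgroup.centralizer ({x} : Set PSL))
          (fun v hv => by
            rw [Subgroup.mem_centralizer_singleton_iff.1 hv, mul_inv_cancel_right]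
            exact mem_torus x)
          (Subgroup.mem_centralizer_singleton_iff.2 hw.eq)
      have h1 := mul_self_of_normalizer_torus p hs hN hn
      have h2 := mul_self_of_normalizer_torus p hs (mul_mem hN (Subgroup.le_normalizer (mem_torus x)))
        (fun h => hn (by simpa using mul_mem h (inv_mem (mem_torus x))))
      apply hx2
      rw [hw.symm.mul_mul_mul_comm, h1, one_mul] at h2
      exact h2
    haveI := isCyclic_torus p hs
    exact congrArg Subtype.val (IsCyclic.isMulCommutative.is_comm.comm (α := torus x) ⟨y, key y hy⟩ ⟨z, key z hz⟩)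

/-- For `q ≤ 5` the centralisers of involutions are elementary abelian. -/
theorem sq_of_small (hodd : Odd (Nat.card F)) (h5 : Nat.card F ≤ 5) :
    ∀ c y : PSL, c * c = 1 → c ≠ 1 → c * y = y * c → y * y = 1 := by
  intro c y hc2 hc1 hcy
  obtain ⟨p, hchar⟩ := CharP.exists F
  haveI : Fact p.Prime := ⟨CharP.char_is_prime F p⟩
  have hc : Invol c := ⟨hc2, hc1⟩
  have hs := hc.semi p hodd
  by_cases hy : y ∈ torus c
  · have h2 := even_card_torus_invol hc
    have hT : Nat.card (torus c) = 2 := by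
      have h1 : 0 < Nat.card (torus c) := Nat.card_pos
      have h3 := card_torus_cases p hs
      rw [dd_of_odd hodd] at h3
      omega
    have h3 := pow_card_eq_one' (x := (⟨y, hy⟩ : torus c))
    rw [hT, pow_two] at h3
    exact congrArg Subtype.val h3
  · refine mul_self_of_normalizer_torus p hs ?_ hy
    rw [← centralizer_invol hodd hc, Subgroup.mem_centralizer_singleton_iff]
    exact hcy.symm

/-- For `q > 5` the centraliser of an involution is not abelian. -/
theorem exists_nonComm_invol (hodd : Odd (Nat.card F)) (h5 : 5 < Nat.card F) :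
    ∃ c y z : PSL, c ∉ Subgroup.center PSL ∧ Commute y c ∧ Commute z c ∧ ¬ Commute y z := by
  obtain ⟨p, hchar⟩ := CharP.exists F
  haveI : Fact p.Prime := ⟨CharP.char_is_prime F p⟩
  obtain ⟨c, hc⟩ := exists_invol (F := F) hodd
  have hs := hc.semi p hodd
  obtain ⟨⟨d, hd⟩⟩ := (Nat.card_pos_iff.1 ((card_partner hodd hc).symm ▸ Nat.card_pos)).1
  obtain ⟨hdN, hdT⟩ := (partner_iff hodd hc d).1 hd
  haveI := isCyclic_torus p hs
  obtain ⟨t, ht⟩ := IsCyclic.exists_ofOrder_eq_natCard (α := torus c)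
  have ht3 : 3 ≤ orderOf (t : PSL) := by
    rw [Subgroup.orderOf_coe, ht]
    have h := card_torus_cases p hs
    have := Nat.odd_iff.1 hodd
    rw [dd_of_odd hodd] at h
    omega
  have hnc : ¬ Commute d (t : PSL) := by
    intro h
    have hdt : d * (t : PSL) ∉ torus c := fun hm =>
      hdT (by simpa using mul_mem hm (inv_mem t.2))
    have h1 := mul_self_of_normalizer_torus p hs (mul_mem hdN (Subgroup.le_normalizer t.2)) hdt
    rw [h.symm.mul_mul_mul_comm, hd.1.1, one_mul, ← pow_two] at h1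
    have := Nat.le_of_dvd two_pos (orderOf_dvd_of_pow_eq_one h1)
    omega
  refine ⟨c, d, t, fun hz => hnc ?_, hd.2.2,
    congrArg Subtype.val (IsCyclic.isMulCommutative.is_comm.comm t ⟨c, mem_torus c⟩), hnc⟩
  obtain ⟨hsimp, -⟩ := four_le_card_of_isSimple (K := F) (by omega)
  rcases (Subgroup.center PSL).normal_of_characteristic.eq_bot_or_eq_top with h | h
  · rw [h, Subgroup.mem_bot] at hz
    exact absurd hz hc.2
  · exact Subgroup.mem_center_iff.1 (h ▸ Subgroup.mem_top (t : PSL)) d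

/-- Centralisers inside a subgroup of a Borel subgroup. -/
theorem commute_borel (hodd : Odd (Nat.card F)) {c y z : PSL} (hc : Invol c) (hyB : y ∈ borelPSL F)
    (hzB : z ∈ borelPSL F) (hy : Commute y c) (hz : Commute z c) : Commute y z := by
  obtain ⟨p, hchar⟩ := CharP.exists F
  haveI : Fact p.Prime := ⟨CharP.char_is_prime F p⟩
  have hs := hc.semi p hodd
  set C := Subgroup.centralizer ({c} : Set PSL) ⊓ borelPSL F
  have hC : ¬ p ∣ Nat.card C := by
    intro h
    obtain ⟨u, hu⟩ := exists_prime_orderOf_dvd_card' (G := C) p h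
    rw [← Subgroup.orderOf_coe] at hu
    have h1 := pow_eq_one_of_commute p hu (Subgroup.mem_centralizer_singleton_iff.1 u.2.1 : Commute _ _)
    have h2 := orderOf_dvd_of_pow_eq_one h1
    rw [hc.orderOf] at h2
    have hp2 := (Nat.prime_dvd_prime_iff_eq Nat.prime_two (Fact.out : p.Prime)).1 h2
    exact hs.2 (by rw [hc.orderOf, hp2])
  haveI := isCyclic_of_le_borelPSL p (C := C) inf_le_right hC
  exact congrArg Subtype.val (IsCyclic.isMulCommutative.is_comm.comm (α := C)
    ⟨y, Subgroup.mem_centralizer_singleton_iff.2 hy.eq, hyB⟩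
    ⟨z, Subgroup.mem_centralizer_singleton_iff.2 hz.eq, hzB⟩)

/-- With `8 ∤ |G|` and no subfield beyond five elements all proper subgroups are CA-groups. -/
theorem commute_of_proper (hodd : Odd (Nat.card F)) (h8 : ¬ 8 ∣ Nat.card PSL)
    (hsmall : ∀ k m : ℕ, 2 ≤ m → k ^ m = Nat.card F → k ≤ 5)
    {H : Subgroup PSL} (hH : H ≠ ⊤) {x y z : PSL} (hxH : x ∈ H) (hyH : y ∈ H) (hzH : z ∈ H)
    (hxc : ∃ w ∈ H, ¬ Commute w x) (hy : Commute y x) (hz : Commute z x) : Commute y z := by
  obtain ⟨p, hchar⟩ := CharP.exists F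
  haveI : Fact p.Prime := ⟨CharP.char_is_prime F p⟩
  obtain ⟨w, hwH, hwx⟩ := hxc
  have hx1 : x ≠ 1 := fun h => hwx (h ▸ Commute.one_right w)
  by_cases hx2 : x * x = 1
  swap
  · exact commute_of_nonInvol hx1 hx2 hy hz
  have hc : Invol x := ⟨hx2, hx1⟩
  have elem : (∀ v ∈ H, Commute v x → v * v = 1) → Commute y z := fun h =>
    commute_of_sq (h y hyH hy) (h z hzH hz) (h _ (mul_mem hyH hzH) (hy.mul_left hz))
  have d8 : ∀ n, Nat.card H = n → ¬ 8 ∣ n := fun n hn h =>
    h8 ((hn ▸ h).trans H.card_subgroup_dvd_card)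
  rcases dickson_maximal p H with ⟨c, -, hcs, hle⟩ | ⟨k, hk⟩ | ⟨⟨e⟩⟩ | ⟨⟨e⟩⟩ | ⟨⟨e⟩⟩ |
    ⟨K, fK, fT, m, hm, hd⟩
  · by_cases hxT : x ∈ torus c
    · refine absurd ?_ hwx
      have hw := hle hwH
      rw [← torus_eq_of_mem p hcs hxT hx1, ← centralizer_invol hodd hc] at hw
      exact Subgroup.mem_centralizer_singleton_iff.1 hw
    · refine elem fun v hv hvx => ?_
      by_cases hvT : v ∈ torus c
      · have h1 := mul_self_of_normalizer_torus p hcs (mul_mem (hle hxH) (hle hv))
          (fun h => hxT (by simpa using mul_mem h (inv_mem hvT)))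
        rwa [hvx.mul_mul_mul_comm, hx2, one_mul] at h1
      · exact mul_self_of_normalizer_torus p hcs (hle hv) hvT
  · exact (Commute.conj_iff k).1 (commute_borel hodd (hc.conj k) (hk y hyH) (hk z hzH)
      ((Commute.conj_iff k).2 hy) ((Commute.conj_iff k).2 hz))
  · exact elem fun v hv => sq_of_equiv e alternating_four_sq hxH hv hx2 hx1
  · refine absurd ?_ (d8 24 (by
      rw [Nat.card_congr e.toEquiv, Nat.card_perm, Nat.card_fin, Nat.factorial]; rfl))
    norm_num
  · exact elem fun v hv => sq_of_equiv e alternating_five_sq hxH hv hx2 hx1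
  · rw [Fintype.card_eq_nat_card] at hm
    have hm2 := two_le_exponent hH hm hd
    have hk5 := hsmall _ m hm2 hm
    have hkodd : Odd (Nat.card K) := by
      rw [Nat.odd_iff]
      by_contra hev
      have : 2 ∣ Nat.card F := hm ▸ (show 2 ∣ Nat.card K by omega).trans (dvd_pow_self _ (by omega))
      have := Nat.odd_iff.1 hodd
      omega
    rcases hd with ⟨⟨e⟩⟩ | ⟨⟨e⟩⟩
    · exact elem fun v hv => sq_of_equiv e (sq_of_small hkodd hk5) hxH hv hx2 hx1
    · exfalso
      refine d8 _ (by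
        rw [Nat.card_congr e.toEquiv, CfsgLib.Classical.card_PGL_eq_card_SL, card_SL_two']) ?_
      have hk1 : 1 < Nat.card K := Finite.one_lt_card
      have := Nat.odd_iff.1 hkodd
      obtain hk | hk : Nat.card K = 3 ∨ Nat.card K = 5 := by omega
      all_goals rw [hk]; norm_num

theorem not_eight_dvd (h : Nat.card F % 8 = 3 ∨ Nat.card F % 8 = 5) : ¬ 8 ∣ Nat.card PSL := by
  intro h8
  have hodd : Odd (Nat.card F) := Nat.odd_iff.2 (by omega)
  have hc := card_PSL (F := F)
  rw [show Nat.gcd 2 (Nat.card F - 1) = 2 from dd_of_odd hodd] at hc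
  have h16 : 16 ∣ Nat.card F * ((Nat.card F - 1) * (Nat.card F + 1)) := hc ▸ Nat.mul_dvd_mul_left 2 h8
  rw [Nat.dvd_iff_mod_eq_zero, Nat.mul_mod, Nat.mul_mod (Nat.card F - 1)] at h16
  obtain hr | hr | hr | hr : Nat.card F % 16 = 3 ∨ Nat.card F % 16 = 5 ∨ Nat.card F % 16 = 11 ∨
      Nat.card F % 16 = 13 := by omega
  all_goals
    rw [hr, show (Nat.card F - 1) % 16 = Nat.card F % 16 - 1 by omega,
      show (Nat.card F + 1) % 16 = Nat.card F % 16 + 1 by omega, hr] at h16
    norm_num at h16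

theorem mod_eight_iff {q : ℕ} (hodd : q % 2 = 1) :
    ¬ 16 ∣ q ^ 2 - 1 ↔ (q % 8 = 3 ∨ q % 8 = 5) := by
  have h1 : 1 ≤ q ^ 2 := Nat.one_le_pow _ _ (by omega)
  have h2 : q ^ 2 % 16 = (q % 16) ^ 2 % 16 := Nat.pow_mod q 2 16
  obtain hr | hr | hr | hr | hr | hr | hr | hr : q % 16 = 1 ∨ q % 16 = 3 ∨ q % 16 = 5 ∨ q % 16 = 7 ∨
      q % 16 = 9 ∨ q % 16 = 11 ∨ q % 16 = 13 ∨ q % 16 = 15 := by omega
  all_goals rw [hr] at h2; norm_num at h2; omega

theorem pow_three_five_mod {p : ℕ} (hp : p % 2 = 1) : 3 ^ p % 8 = 3 ∧ 5 ^ p % 8 = 5 := by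
  obtain ⟨i, rfl⟩ : ∃ i, p = 2 * i + 1 := ⟨p / 2, by omega⟩
  refine ⟨?_, ?_⟩ <;> · rw [pow_succ, pow_mul, Nat.mul_mod, Nat.pow_mod]; norm_num

end CfsgLib.MinNonCA

namespace CfsgLib.MinNonCA

open Matrix CfsgLib.SL2
open scoped MatrixGroups

/-- The groups in the list of S4369. -/
theorem psl_mem {G : Type*} [Group G] [Finite G] {F : Type} [Field F] [Fintype F]
    (e : G ≃* ProjectiveSpecialLinearGroup (Fin 2) F)
    (hq : ((Fintype.card F).Prime ∧ 5 < Fintype.card F ∧ ¬ 16 ∣ Fintype.card F ^ 2 - 1) ∨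
      (∃ p : ℕ, p.Prime ∧ p ≠ 2 ∧ (Fintype.card F = 3 ^ p ∨ Fintype.card F = 5 ^ p))) :
    ¬ Group.IsSolvable G ∧
      ¬ (∀ x : G, x ∉ Subgroup.center G → IsMulCommutative (Subgroup.centralizer ({x} : Set G))) ∧
      ∀ H : Subgroup G, H ≠ ⊤ →
        ∀ x : H, x ∉ Subgroup.center H → IsMulCommutative (Subgroup.centralizer ({x} : Set H)) := by
  rw [Fintype.card_eq_nat_card] at hq
  have hfacts : 5 < Nat.card F ∧ (Nat.card F % 8 = 3 ∨ Nat.card F % 8 = 5) ∧
      ∀ k m : ℕ, 2 ≤ m → k ^ m = Nat.card F → k ≤ 5 := by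
    rcases hq with ⟨hp, h5, h16⟩ | ⟨p, hp, hp2, h35⟩
    · refine ⟨h5, (mod_eight_iff (Nat.odd_iff.1 (hp.odd_of_ne_two (by omega)))).1 h16,
        fun k m hm hk => absurd (hk ▸ hp) (Nat.Prime.not_prime_pow hm)⟩
    · have hpo := Nat.odd_iff.1 (hp.odd_of_ne_two hp2)
      have hp3 : 3 ≤ p := by have := hp.two_le; omega
      have small : ∀ s k m : ℕ, s.Prime → 2 ≤ m → k ^ m = s ^ p → k ≤ s := by
        intro s k m hs hm hk
        obtain ⟨b, -, rfl⟩ := (Nat.dvd_prime_pow hs).1 (show k ∣ s ^ p from hk ▸ dvd_pow_self _ (by omega))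
        rw [← pow_mul] at hk
        have hbm := Nat.pow_right_injective hs.two_le hk
        rcases hp.eq_one_or_self_of_dvd b ⟨m, hbm.symm⟩ with rfl | rfl
        · rw [pow_one]
        · have : m = 1 := Nat.eq_of_mul_eq_mul_left hp.pos (by rw [hbm, mul_one])
          omega
      obtain ⟨m3, m5⟩ := pow_three_five_mod hpo
      rcases h35 with hF | hF <;> rw [hF]
      · refine ⟨lt_of_lt_of_le (by norm_num) (Nat.pow_le_pow_right (by norm_num) hp3), Or.inl m3,
          fun k m hm hk => (small 3 k m Nat.prime_three hm hk).trans (by norm_num)⟩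
      · exact ⟨lt_of_lt_of_le (by norm_num) (Nat.pow_le_pow_right (by norm_num) hp3), Or.inr m5,
          fun k m hm hk => small 5 k m Nat.prime_five hm hk⟩
  obtain ⟨h5, h8, hsmall⟩ := hfacts
  have hodd : Odd (Nat.card F) := Nat.odd_iff.2 (by omega)
  obtain ⟨-, hns⟩ := four_le_card_of_isSimple (K := F) (show 4 ≤ Nat.card F by omega)
  refine ⟨fun h => hns (Group.isSolvable_of_isSolvable_injective (f := e.symm.toMonoidHom) e.symm.injective),
    ?_, ?_⟩
  · intro hCA
    obtain ⟨c, y, z, hc, hy, hz, hyz⟩ := exists_nonComm_invol hodd h5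
    have hcG : e.symm c ∉ Subgroup.center G := fun h => hc (Subgroup.mem_center_iff.2 fun g =>
      e.symm.injective (by rw [map_mul, map_mul]; exact Subgroup.mem_center_iff.1 h _))
    have hcomm := (hCA _ hcG).is_comm.comm
      ⟨e.symm y, Subgroup.mem_centralizer_singleton_iff.2 (hy.map e.symm).eq⟩
      ⟨e.symm z, Subgroup.mem_centralizer_singleton_iff.2 (hz.map e.symm).eq⟩
    exact hyz (e.symm.injective (by rw [map_mul, map_mul]; exact congrArg Subtype.val hcomm))
  · intro H hH x hx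
    have hH' : H.map e.toMonoidHom ≠ ⊤ := fun h => hH (Subgroup.map_injective e.injective
      (h.trans (Subgroup.map_top_of_surjective e.toMonoidHom e.surjective).symm))
    obtain ⟨w, hw⟩ : ∃ w : H, ¬ Commute w x := by
      by_contra h
      push Not at h
      exact hx (Subgroup.mem_center_iff.2 h)
    refine ⟨⟨fun a b => Subtype.ext ?_⟩⟩
    have hm : ∀ v : H, e (v : G) ∈ H.map e.toMonoidHom := fun v => ⟨v, v.2, rfl⟩
    have hco : ∀ v : H, Commute v x → Commute (e (v : G)) (e (x : G)) := fun v hv =>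
      (hv.map H.subtype).map e
    have h := commute_of_proper hodd (not_eight_dvd h8) hsmall hH' (hm x) (hm (a : H)) (hm (b : H))
      ⟨_, hm w, fun h => hw (Subtype.ext (e.injective (by simpa using h.eq)))⟩
      (hco _ (Subgroup.mem_centralizer_singleton_iff.1 a.2))
      (hco _ (Subgroup.mem_centralizer_singleton_iff.1 b.2))
    exact Subtype.ext (e.injective (by simpa using h.eq))

/-- The converse: only the groups in the list. -/
theorem psl_list {G : Type*} [Group G] [Finite G] {F : Type} [Field F] [Fintype F]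
    (e : G ≃* ProjectiveSpecialLinearGroup (Fin 2) F) (hodd : Odd (Fintype.card F))
    (h8 : ¬ 8 ∣ Nat.card G)
    (hna : ¬ (∀ x : G, x ∉ Subgroup.center G → IsMulCommutative (Subgroup.centralizer ({x} : Set G))))
    (hsub : ∀ H : Subgroup G, H ≠ ⊤ →
      ∀ x : H, x ∉ Subgroup.center H → IsMulCommutative (Subgroup.centralizer ({x} : Set H))) :
    ((Fintype.card F).Prime ∧ 5 < Fintype.card F ∧ ¬ 16 ∣ Fintype.card F ^ 2 - 1) ∨
      (∃ p : ℕ, p.Prime ∧ p ≠ 2 ∧ (Fintype.card F = 3 ^ p ∨ Fintype.card F = 5 ^ p)) := by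
  rw [Fintype.card_eq_nat_card] at hodd ⊢
  have h2 := Nat.odd_iff.1 hodd
  have h5 : 5 < Nat.card F := by
    by_contra hle
    refine hna fun x hx => ⟨⟨fun a b => Subtype.ext (e.injective ?_)⟩⟩
    rw [Subgroup.coe_mul, Subgroup.coe_mul, map_mul, map_mul]
    have hx1 : e x ≠ 1 := fun h => hx (by rw [e.map_eq_one_iff.1 h]; exact one_mem _)
    have ha : Commute (e (a : G)) (e x) :=
      Commute.map (Subgroup.mem_centralizer_singleton_iff.1 a.2 : Commute _ _) e
    have hb : Commute (e (b : G)) (e x) :=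
      Commute.map (Subgroup.mem_centralizer_singleton_iff.1 b.2 : Commute _ _) e
    by_cases hx2 : e x * e x = 1
    · have h := sq_of_small hodd (by omega) (e x)
      exact commute_of_sq (h _ hx2 hx1 ha.symm.eq) (h _ hx2 hx1 hb.symm.eq)
        (h _ hx2 hx1 (ha.mul_left hb).symm.eq)
    · exact commute_of_nonInvol hx1 hx2 ha hb
  have hmod : Nat.card F % 8 = 3 ∨ Nat.card F % 8 = 5 := by
    obtain ⟨c, hc⟩ := exists_invol (F := F) hodd
    have h4 := card_torus_invol_mod hodd hc
    have hcard : Nat.card (Subgroup.normalizer (torus c : Set (ProjectiveSpecialLinearGroup (Fin 2) F))) =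
        2 * Nat.card (torus c) := by
      obtain ⟨p, hchar⟩ := CharP.exists F
      haveI : Fact p.Prime := ⟨CharP.char_is_prime F p⟩
      exact card_normalizer_torus p (hc.semi p hodd)
    by_contra hne
    refine h8 ?_
    rw [Nat.card_congr e.toEquiv]
    refine dvd_trans ?_ (Subgroup.card_subgroup_dvd_card
      (Subgroup.normalizer (torus c : Set (ProjectiveSpecialLinearGroup (Fin 2) F))))
    rw [hcard]
    exact Nat.mul_dvd_mul_left 2 (h4.2 (by omega))
  obtain ⟨p, f, hp, hchar, hf, hq⟩ := exists_prime_pow F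
  haveI := Fact.mk hp
  have hpodd : p % 2 = 1 := Nat.odd_iff.1 (Odd.of_dvd_nat (hq ▸ hodd) (dvd_pow_self p (by omega)))
  by_cases hf1 : f = 1
  · subst hf1
    rw [pow_one] at hq
    exact Or.inl ⟨hq ▸ hp, h5, (mod_eight_iff h2).2 hmod⟩
  -- proper subfields have at most five elements
  have small : ∀ b : ℕ, b ∣ f → b < f → p ^ b ≤ 5 := by
    intro b ⟨m, hbm⟩ hlt
    by_contra hgt
    have hb : b ≠ 0 := by rintro rfl; simp at hbm; omega
    have hK : Nat.card (GaloisField p b) = p ^ b := GaloisField.card p b hb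
    obtain ⟨φ⟩ := nonempty_ringHom_of_pow_card (K := GaloisField p b) (F := F) m
      (by rw [hK, hq, hbm, pow_mul])
    set ψ := e.symm.toMonoidHom.comp (pslMap φ)
    have hinj : Function.Injective ψ := e.symm.injective.comp (pslMap_injective φ)
    have hKodd : Odd (Nat.card (GaloisField p b)) := by
      rw [hK]; exact (Nat.odd_iff.2 hpodd).pow
    obtain ⟨c, y, z, hc, hy, hz, hyz⟩ := exists_nonComm_invol hKodd (by rw [hK]; omega)
    have hne : ψ.range ≠ ⊤ := by
      intro htop
      have hcard : Nat.card (ProjectiveSpecialLinearGroup (Fin 2) (GaloisField p b)) =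
          Nat.card (ProjectiveSpecialLinearGroup (Fin 2) F) := by
        rw [← Nat.card_congr e.toEquiv, ← Subgroup.card_top (G := G), ← htop,
          ← Nat.card_congr (MonoidHom.ofInjective hinj).toEquiv]
      have h1 := card_PSL (F := GaloisField p b)
      rw [show Nat.gcd 2 (Nat.card (GaloisField p b) - 1) = 2 from dd_of_odd hKodd, hcard] at h1
      have h3 := card_PSL (F := F)
      rw [show Nat.gcd 2 (Nat.card F - 1) = 2 from dd_of_odd hodd, h1, hK, hq] at h3
      have hlt' : p ^ b < p ^ f := Nat.pow_lt_pow_right hp.one_lt hlt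
      have : p ^ b * ((p ^ b - 1) * (p ^ b + 1)) < p ^ f * ((p ^ f - 1) * (p ^ f + 1)) :=
        Nat.mul_lt_mul_of_lt_of_le hlt' (Nat.mul_le_mul (by omega) (by omega))
          (Nat.mul_pos (by omega) (by omega))
      omega
    have hcc : ψ.rangeRestrict c ∉ Subgroup.center ψ.range := fun h =>
      hc (Subgroup.mem_center_iff.2 fun g => hinj (by
        rw [map_mul, map_mul]
        exact congrArg Subtype.val (Subgroup.mem_center_iff.1 h (ψ.rangeRestrict g))))
    have hcomm := (hsub _ hne _ hcc).is_comm.comm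
      ⟨ψ.rangeRestrict y, Subgroup.mem_centralizer_singleton_iff.2 (hy.map ψ.rangeRestrict).eq⟩
      ⟨ψ.rangeRestrict z, Subgroup.mem_centralizer_singleton_iff.2 (hz.map ψ.rangeRestrict).eq⟩
    exact hyz (hinj (by
      rw [map_mul, map_mul]; exact congrArg (fun v => ((v : ψ.range) : G)) (congrArg Subtype.val hcomm)))
  have hp5 : p = 3 ∨ p = 5 := by
    have := small 1 (one_dvd f) (by omega)
    rw [pow_one] at this
    have := hp.two_le
    omega
  have hfp : f.Prime := by
    by_contra hnp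
    obtain ⟨b, hb, hb2, hb3⟩ := (Nat.not_prime_iff_exists_dvd_lt (show 2 ≤ f by omega)).1 hnp
    have := small b hb hb3
    have : 9 ≤ p ^ b := le_trans (by norm_num) ((Nat.pow_le_pow_left (show 3 ≤ p by omega) b).trans'
      (Nat.pow_le_pow_right (show 0 < 3 by norm_num) hb2))
    omega
  refine Or.inr ⟨f, hfp, fun hf2 => ?_, ?_⟩
  · subst hf2
    rw [hq] at hmod
    rcases hp5 with rfl | rfl <;> norm_num at hmod
  · rcases hp5 with rfl | rfl
    · exact Or.inl hq
    · exact Or.inr hq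

/-- `psl_list` for a group of odd centre-free type with `q ≡ 3, 5 (mod 8)`. -/
theorem psl_list' {G : Type*} [Group G] [Finite G] {F : Type} [Field F] [Fintype F]
    (e : G ≃* ProjectiveSpecialLinearGroup (Fin 2) F)
    (h8 : Fintype.card F % 8 = 3 ∨ Fintype.card F % 8 = 5)
    (hna : ¬ (∀ x : G, x ∉ Subgroup.center G → IsMulCommutative (Subgroup.centralizer ({x} : Set G))))
    (hsub : ∀ H : Subgroup G, H ≠ ⊤ →
      ∀ x : H, x ∉ Subgroup.center H → IsMulCommutative (Subgroup.centralizer ({x} : Set H))) :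
    ((Fintype.card F).Prime ∧ 5 < Fintype.card F ∧ ¬ 16 ∣ Fintype.card F ^ 2 - 1) ∨
      (∃ p : ℕ, p.Prime ∧ p ≠ 2 ∧ (Fintype.card F = 3 ^ p ∨ Fintype.card F = 5 ^ p)) := by
  refine psl_list e (Nat.odd_iff.2 (by omega)) ?_ hna hsub
  rw [Nat.card_congr e.toEquiv]
  rw [Fintype.card_eq_nat_card] at h8
  exact not_eight_dvd h8

end CfsgLib.MinNonCA
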