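import Cfsg.Agent.Lib.MinNonCA.Shape
import Cfsg.Agent.Lib.Invol.Dihedral
import Cfsg.Agent.Lib.Transfer.Sylow

/-!
An elementary nonabelian Sylow 2-subgroup modulo the centre is a four-group (S4369, step A2).
For rank at least three all involutions of the central quotient have abelian centralisers, hence
form one class, so all noncentral elements of the Sylow subgroup have the same square, which is
impossible.
-/

set_option autoImplicit false
set_option linter.style.haveILetI false
set_option linter.unusedSectionVars false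

namespace CfsgLib.MinNonCA

open scoped commutatorElement

/-- In a simple group with abelian involution centralisers all involutions are conjugate. -/
theorem isConj_of_abelian_centralizers {Q : Type*} [Group Q] [Finite Q] (hs : IsSimpleGroup Q)
    (hnc : Subgroup.center Q = ⊥)
    (h : ∀ t : Q, orderOf t = 2 → ∀ a b : Q, Commute a t → Commute b t → Commute a b)
    {x y : Q} (hx : orderOf x = 2) (hy : orderOf y = 2) : IsConj x y := by
  haveI := hs
  by_contra hne
  have key : ∀ g : Q, Commute (g * x * g⁻¹) y := by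
    intro g
    have hg : orderOf (g * x * g⁻¹) = 2 := CfsgLib.Invol.conj_orderOf_two hx g
    have hne' : ¬ IsConj (g * x * g⁻¹) y := fun h' =>
      hne ((isConj_iff.mpr ⟨g, rfl⟩ : IsConj x (g * x * g⁻¹)).trans h')
    obtain ⟨z, hz, hzx, hzy⟩ := CfsgLib.Invol.exists_common_commuting_invol hg hy (CfsgLib.Invol.even_of_not_isConj hg hy hne')
    exact h z hz _ _ hzx.symm hzy.symm
  have hle : Subgroup.normalClosure ({x} : Set Q) ≤ Subgroup.centralizer ({y} : Set Q) := by
    rw [Subgroup.normalClosure, Subgroup.closure_le]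
    intro v hv
    obtain ⟨a, ha, hav⟩ := Group.mem_conjugatesOfSet_iff.mp hv
    rw [Set.mem_singleton_iff] at ha
    subst ha
    obtain ⟨g, rfl⟩ := isConj_iff.mp hav
    exact Subgroup.mem_centralizer_singleton_iff.mpr (key g).eq
  rcases Subgroup.normalClosure_normal.eq_bot_or_eq_top (H := Subgroup.normalClosure ({x} : Set Q)) with e | e
  · have : x ∈ (⊥ : Subgroup Q) := e ▸ Subgroup.subset_normalClosure (Set.mem_singleton x)
    rw [Subgroup.mem_bot.mp this, orderOf_one] at hx
    omega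
  · rw [e, top_le_iff] at hle
    have hyc : y ∈ Subgroup.center Q := Subgroup.mem_center_iff.mpr fun g =>
      Subgroup.mem_centralizer_singleton_iff.mp (hle ▸ Subgroup.mem_top g)
    rw [hnc, Subgroup.mem_bot] at hyc
    rw [hyc, orderOf_one] at hy
    omega

variable {G : Type*} [Group G] [Finite G]

/-- In a perfect group central elements of a Sylow subgroup lie in its derived group. -/
theorem center_mem_derived (hperf : commutator G = ⊤) {p : ℕ} [Fact p.Prime] (S : Sylow p G) {z : G}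
    (hzS : z ∈ (S : Subgroup G)) (hz : z ∈ Subgroup.center G) :
    (⟨z, hzS⟩ : (S : Subgroup G)) ∈ commutator (S : Subgroup G) := by
  by_contra h
  obtain ⟨j, hj⟩ := IsPGroup.iff_orderOf.mp S.isPGroup' ⟨z, hzS⟩
  rw [Subgroup.orderOf_mk] at hj
  refine CfsgLib.Transfer.notMem_commutator_of_controlled
    (Abelianization.of : (S : Subgroup G) →* Abelianization (S : Subgroup G)) hzS
    ⟨j, by rw [← hj, pow_orderOf_eq_one]⟩ (fun he => h ?_)
    ((Fact.out : p.Prime).coprime_iff_not_dvd.mpr S.not_dvd_index) ?_ (hperf ▸ Subgroup.mem_top z)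
  · rw [← Abelianization.ker_of]
    exact he
  · intro k a hk
    rw [← map_pow]
    refine congrArg _ (Subtype.ext ?_)
    show a⁻¹ * z ^ k * a = z ^ k
    rw [mul_assoc, ← (mem_center_iff'.mp (pow_mem hz k) a).eq, inv_mul_cancel_left]

/-- A central `p`-element lies in every Sylow subgroup. -/
theorem center_mem_sylow {p : ℕ} [Fact p.Prime] (S : Sylow p G) {z : G} (hz : z ∈ Subgroup.center G)
    {j : ℕ} (hj : z ^ p ^ j = 1) : z ∈ (S : Subgroup G) := by
  obtain ⟨i, -, hi⟩ := (Nat.dvd_prime_pow Fact.out).mp (orderOf_dvd_of_pow_eq_one hj)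
  obtain ⟨g, hg⟩ := CfsgLib.Transfer.exists_map_conj_le_sylow
    (IsPGroup.of_card (n := i) (by rw [Nat.card_zpowers, hi]) : IsPGroup p (Subgroup.zpowers z)) S
  have h := hg (Subgroup.mem_map_of_mem _ (Subgroup.mem_zpowers z))
  simp only [MulEquiv.coe_toMonoidHom, MulAut.conj_apply] at h
  rwa [(mem_center_iff'.mp hz g).eq, mul_inv_cancel_right] at h

section Elementary

variable (hsimp : IsSimpleGroup (G ⧸ Subgroup.center G)) (hperf : commutator G = ⊤)
variable (hsub : ∀ H : Subgroup G, H ≠ ⊤ →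
  ∀ x : H, x ∉ Subgroup.center H → IsMulCommutative (Subgroup.centralizer ({x} : Set H)))
variable (S : Sylow 2 G)

/-- With central squares commutators are central of square one. -/
theorem comm_mem_center (helem : ∀ s ∈ (S : Subgroup G), s ^ 2 ∈ Subgroup.center G) {x y : G}
    (hx : x ∈ (S : Subgroup G)) (hy : y ∈ (S : Subgroup G)) :
    x * y * x⁻¹ * y⁻¹ ∈ Subgroup.center G ∧ (x * y * x⁻¹ * y⁻¹) ^ 2 = 1 := by
  have hc : x * y * x⁻¹ * y⁻¹ ∈ Subgroup.center G := by
    have e : x * y * x⁻¹ * y⁻¹ = (x * y) ^ 2 * (y⁻¹ * (x ^ 2)⁻¹ * y⁻¹⁻¹) * (y ^ 2)⁻¹ := by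
      rw [pow_two, pow_two, pow_two]; group
    rw [e]
    exact mul_mem (mul_mem (helem _ (mul_mem hx hy))
      ((inferInstance : (Subgroup.center G).Normal).conj_mem _ (inv_mem (helem x hx)) _))
      (inv_mem (helem y hy))
  refine ⟨hc, ?_⟩
  set z := x * y * x⁻¹ * y⁻¹ with hz
  have hxy : x * y * x⁻¹ = z * y := by rw [hz]; group
  have h1 : x ^ 2 * y * (x ^ 2)⁻¹ = y := by
    rw [← (mem_center_iff'.mp (helem x hx) y).eq, mul_inv_cancel_right]
  have h2 : x ^ 2 * y * (x ^ 2)⁻¹ = z * z * y := by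
    calc x ^ 2 * y * (x ^ 2)⁻¹ = x * (x * y * x⁻¹) * x⁻¹ := by rw [pow_two]; group
      _ = x * z * y * x⁻¹ := by rw [hxy]; group
      _ = z * (x * y * x⁻¹) := by rw [(mem_center_iff'.mp hc x).eq]; group
      _ = z * z * y := (congrArg (z * ·) hxy).trans (mul_assoc z z y).symm
  rw [h1] at h2
  rw [pow_two]
  exact (mul_eq_right.mp h2.symm)

include hperf in
/-- With central squares the central part of the Sylow subgroup is elementary. -/
theorem sq_center_eq_one (helem : ∀ s ∈ (S : Subgroup G), s ^ 2 ∈ Subgroup.center G) {z : G}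
    (hzS : z ∈ (S : Subgroup G)) (hz : z ∈ Subgroup.center G) : z ^ 2 = 1 := by
  haveI : Fact (Nat.Prime 2) := ⟨Nat.prime_two⟩
  let K : Subgroup (S : Subgroup G) :=
    { carrier := {v | (v : G) ∈ Subgroup.center G ∧ (v : G) ^ 2 = 1}
      one_mem' := ⟨one_mem _, by simp⟩
      mul_mem' := fun {a b} ha hb => ⟨mul_mem ha.1 hb.1, by
        rw [Subgroup.coe_mul, Commute.mul_pow (mem_center_iff'.mp hb.1 (a : G)), ha.2, hb.2, one_mul]⟩
      inv_mem' := fun {a} ha => ⟨inv_mem ha.1, by rw [InvMemClass.coe_inv, inv_pow, ha.2, inv_one]⟩ }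
  have hle : commutator (S : Subgroup G) ≤ K := by
    rw [commutator_eq_closure, Subgroup.closure_le]
    rintro v ⟨a, b, rfl⟩
    have h := comm_mem_center S helem a.2 b.2
    have e : (((⁅a, b⁆ : (S : Subgroup G)) : (S : Subgroup G)) : G) = (a : G) * b * (a : G)⁻¹ * (b : G)⁻¹ := by
      simp [commutatorElement_def]
    refine ⟨?_, ?_⟩ <;> rw [e]
    · exact h.1
    · exact h.2
  exact (hle (center_mem_derived hperf S hzS hz)).2

include hperf in
/-- No abelian subgroup of index two which is unique of its kind. -/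
theorem no_index_two (hZ : ∀ z ∈ (S : Subgroup G), (∀ s ∈ (S : Subgroup G), Commute z s) → z ∈ Subgroup.center G)
    (helem : ∀ s ∈ (S : Subgroup G), s ^ 2 ∈ Subgroup.center G) {A : Subgroup G}
    (hAS : A ≤ (S : Subgroup G)) (hAab : ∀ a ∈ A, ∀ b ∈ A, Commute a b)
    (hidx : A.relIndex (S : Subgroup G) = 2) (hZA : (S : Subgroup G) ⊓ Subgroup.center G ≤ A)
    (hbig : 2 < (Subgroup.center G).relIndex A) : False := by
  classical
  haveI : Fact (Nat.Prime 2) := ⟨Nat.prime_two⟩
  have hfix : ∀ n ∈ Subgroup.normalizer ((S : Subgroup G) : Set G), ∀ a ∈ A, n * a * n⁻¹ ∈ A := by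
    intro n hn
    set A' := A.map (MulAut.conj n).toMonoidHom with hA'
    have hmem : ∀ a ∈ A, n * a * n⁻¹ ∈ A' := fun a ha => ⟨a, ha, rfl⟩
    suffices A' = A from fun a ha => this ▸ hmem a ha
    by_contra hne
    have hA'S : A' ≤ (S : Subgroup G) := by
      rintro _ ⟨a, ha, rfl⟩
      exact (Subgroup.mem_normalizer_iff.mp hn a).mp (hAS ha)
    have hA'ab : ∀ a ∈ A', ∀ b ∈ A', Commute a b := by
      rintro _ ⟨a, ha, rfl⟩ _ ⟨b, hb, rfl⟩
      exact (hAab a ha b hb).map _
    obtain ⟨a', ha', ha'A⟩ : ∃ a' ∈ A', a' ∉ A := by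
      by_contra h
      push Not at h
      exact hne (Subgroup.eq_of_le_of_card_ge h (Subgroup.card_map_of_injective
        (MulAut.conj n).injective).ge)
    have hmeet : A ⊓ A' ≤ Subgroup.center G := by
      intro m hm
      refine hZ m (hAS hm.1) fun s hs => ?_
      by_cases hsA : s ∈ A
      · exact hAab m hm.1 s hsA
      · have hprod : a' * s ∈ A := by
          have := (Subgroup.mul_mem_iff_of_index_two hidx (a := ⟨a', hA'S ha'⟩) (b := ⟨s, hs⟩)).mpr
            (iff_of_false (fun h => ha'A (Subgroup.mem_subgroupOf.mp h))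
              (fun h => hsA (Subgroup.mem_subgroupOf.mp h)))
          exact Subgroup.mem_subgroupOf.mp this
        have h1 := (hA'ab m hm.2 a' ha').inv_right.mul_right (hAab m hm.1 _ hprod)
        rwa [inv_mul_cancel_left] at h1
    have h2 : (A ⊓ A').relIndex A ≤ 2 := by
      rw [Subgroup.inf_relIndex_left]
      have hA'2 : A'.relIndex (S : Subgroup G) = 2 := by
        have h := Subgroup.relIndex_mul_index hAS
        have h' := Subgroup.relIndex_mul_index hA'S
        rw [hidx] at h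
        rw [hA', Subgroup.index_map_of_bijective (MulAut.conj n).bijective, ← h, ← hA'] at h'
        exact Nat.eq_of_mul_eq_mul_right (Nat.pos_of_ne_zero Subgroup.index_ne_zero_of_finite) h'
      exact hA'2 ▸ Subgroup.relIndex_le_of_le_right hAS (by rw [hA'2]; norm_num)
    have h3 := Nat.le_of_dvd (Nat.pos_of_ne_zero Subgroup.index_ne_zero_of_finite)
      (Subgroup.relIndex_dvd_of_le_left A hmeet)
    exact absurd (lt_of_lt_of_le hbig (h3.trans h2)) (lt_irrefl 2)
  obtain ⟨x, hx, hxA⟩ : ∃ x ∈ (S : Subgroup G), x ∉ A := by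
    by_contra h
    push Not at h
    rw [Subgroup.relIndex_eq_one.mpr (show (S : Subgroup G) ≤ A from h)] at hidx
    omega
  set φ := CfsgLib.Transfer.sgnHom (A.subgroupOf (S : Subgroup G)) hidx
  have hφ : ∀ v : (S : Subgroup G), φ v = 1 ↔ (v : G) ∈ A := fun v =>
    CfsgLib.Transfer.sgnHom_eq_one_iff.trans Subgroup.mem_subgroupOf
  have hneg : ∀ v : (S : Subgroup G), (v : G) ∉ A → φ v = -1 := fun v hv =>
    (Int.units_eq_one_or (φ v)).resolve_left fun h => hv ((hφ v).mp h)
  obtain ⟨j, hj⟩ := IsPGroup.iff_orderOf.mp S.isPGroup' ⟨x, hx⟩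
  rw [Subgroup.orderOf_mk] at hj
  refine CfsgLib.Transfer.notMem_commutator_of_controlled φ hx ⟨j, by rw [← hj, pow_orderOf_eq_one]⟩
    (fun h => hxA ((hφ _).mp h)) (Nat.prime_two.coprime_iff_not_dvd.mpr S.not_dvd_index) ?_
    (hperf ▸ Subgroup.mem_top x)
  intro k a hk
  rw [hneg ⟨x, hx⟩ hxA]
  rcases Nat.even_or_odd k with hk2 | hk2
  · rw [hk2.neg_one_pow, hφ]
    obtain ⟨i, rfl⟩ := hk2
    have hc : x ^ (i + i) ∈ Subgroup.center G := by
      rw [← two_mul, pow_mul]
      exact pow_mem (helem x hx) i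
    show a⁻¹ * x ^ (i + i) * a ∈ A
    refine hZA ⟨hk, ?_⟩
    rw [mul_assoc, ← (mem_center_iff'.mp hc a).eq, inv_mul_cancel_left]
    exact hc
  · rw [hk2.neg_one_pow]
    refine hneg _ fun hA0 => ?_
    set y := x ^ k with hy
    set y' := a⁻¹ * y * a with hy'
    have hyS : y ∈ (S : Subgroup G) := pow_mem hx k
    have hyA : y ∉ A := by
      intro h
      obtain ⟨i, rfl⟩ := hk2
      rw [hy, pow_succ', pow_mul] at h
      have hc : (x ^ 2) ^ i ∈ A := hZA ⟨pow_mem (pow_mem hx 2) i, pow_mem (helem x hx) i⟩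
      have := mul_mem h (inv_mem hc)
      rw [mul_inv_cancel_right] at this
      exact hxA this
    let coset : G → Set G := fun v => {u | u ∈ (S : Subgroup G) ∧ v⁻¹ * u ∈ Subgroup.center G}
    have hinv : ∀ v ∈ (S : Subgroup G), ∀ s ∈ (S : Subgroup G),
        (fun u => s * u * s⁻¹) '' coset v = coset v := by
      intro v hv s hs
      have one : ∀ s ∈ (S : Subgroup G), ∀ u ∈ coset v, s * u * s⁻¹ ∈ coset v := by
        intro s hs u hu
        refine ⟨mul_mem (mul_mem hs hu.1) (inv_mem hs), ?_⟩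
        rw [show v⁻¹ * (s * u * s⁻¹) = v⁻¹ * (s * u * s⁻¹ * u⁻¹) * v⁻¹⁻¹ * (v⁻¹ * u) by group]
        exact mul_mem ((inferInstance : (Subgroup.center G).Normal).conj_mem _
          (comm_mem_center S helem hs hu.1).1 _) hu.2
      ext u
      constructor
      · rintro ⟨w, hw, rfl⟩
        exact one s hs w hw
      · intro hu
        exact ⟨s⁻¹ * u * s, by simpa using one s⁻¹ (inv_mem hs) u hu, by group⟩
    have himg : (fun u => a⁻¹ * u * a⁻¹⁻¹) '' coset y = coset y' := by
      ext u
      constructor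
      · rintro ⟨w, ⟨hwS, hwc⟩, rfl⟩
        have e : y'⁻¹ * (a⁻¹ * w * a⁻¹⁻¹) = y⁻¹ * w := by
          rw [show y'⁻¹ * (a⁻¹ * w * a⁻¹⁻¹) = a⁻¹ * (y⁻¹ * w) * a by rw [hy']; group, mul_assoc,
            ← (mem_center_iff'.mp hwc a).eq, inv_mul_cancel_left]
        refine ⟨?_, e ▸ hwc⟩
        obtain ⟨l, hl⟩ := IsPGroup.iff_orderOf.mp S.isPGroup' ⟨y⁻¹ * w, mul_mem (inv_mem hyS) hwS⟩
        rw [Subgroup.orderOf_mk] at hl
        have hzS : y⁻¹ * w ∈ (S : Subgroup G) := mul_mem (inv_mem hyS) hwS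
        have : a⁻¹ * w * a⁻¹⁻¹ = y' * (y⁻¹ * w) := by rw [← e]; group
        show a⁻¹ * w * a⁻¹⁻¹ ∈ (S : Subgroup G)
        rw [this]
        exact mul_mem hk hzS
      · rintro ⟨huS, huc⟩
        have e : a⁻¹ * (y * (y'⁻¹ * u)) * a⁻¹⁻¹ = u := by
          rw [show a⁻¹ * (y * (y'⁻¹ * u)) * a⁻¹⁻¹ = y' * (a⁻¹ * (y'⁻¹ * u) * a) by rw [hy']; group,
            mul_assoc a⁻¹, ← (mem_center_iff'.mp huc a).eq, inv_mul_cancel_left, mul_inv_cancel_left]
        refine ⟨y * (y'⁻¹ * u), ⟨mul_mem hyS (mul_mem (inv_mem hk) huS), ?_⟩, e⟩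
        rwa [inv_mul_cancel_left]
    obtain ⟨n, hn, hnY⟩ := CfsgLib.Transfer.exists_normalizer_image_conj_eq S
      (fun s hs => hinv y hyS s hs) (fun s hs => hinv y' hk s hs) a⁻¹ himg
    have hm : n * y * n⁻¹ ∈ coset y' := hnY ▸ ⟨y, ⟨hyS, by rw [inv_mul_cancel]; exact one_mem _⟩, rfl⟩
    have hmA : n * y * n⁻¹ ∈ A := by
      have := mul_mem (hA0 : y' ∈ A) (hZA ⟨(S : Subgroup G).mul_mem ((S : Subgroup G).inv_mem hk) hm.1, hm.2⟩)
      rwa [mul_inv_cancel_left] at this
    refine hyA ?_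
    have := hfix n⁻¹ (inv_mem hn) _ hmA
    simpa [mul_assoc] using this

include hsimp hperf hsub in
/-- Elements commuting modulo the centre with a noncentral element of `S` commute modulo the
centre, when the quotient of `S` is elementary of order at least eight. -/
theorem commutator_mem_center (hZ : ∀ z ∈ (S : Subgroup G), (∀ s ∈ (S : Subgroup G), Commute z s) → z ∈ Subgroup.center G)
    (helem : ∀ s ∈ (S : Subgroup G), s ^ 2 ∈ Subgroup.center G)
    (h8 : 4 < (Subgroup.center G).relIndex (S : Subgroup G))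
    {t : G} (htS : t ∈ (S : Subgroup G)) (ht : t ∉ Subgroup.center G) {g g' : G}
    (hg : g ∈ modCent t) (hg' : g' ∈ modCent t) : g * g' * g⁻¹ * g'⁻¹ ∈ Subgroup.center G := by
  classical
  haveI : Fact (Nat.Prime 2) := ⟨Nat.prime_two⟩
  have hSH : (S : Subgroup G) ≤ modCent t := fun s hs =>
    mem_modCent_iff.mpr (comm_mem_center S helem hs htS).1
  obtain ⟨hab, hodd⟩ := central_lift hsimp hperf hsub S hZ htS ht hSH
  set H := modCent t with hH
  have hHne := modCent_ne_top hsimp hperf ht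
  set A := (S : Subgroup G) ⊓ Subgroup.centralizer ({t} : Set G) with hA
  have hAt : ∀ x ∈ A, Commute x t := fun x hx => Subgroup.mem_centralizer_singleton_iff.mp hx.2
  have hZA : (S : Subgroup G) ⊓ Subgroup.center G ≤ A := fun z hz =>
    ⟨hz.1, Subgroup.mem_centralizer_singleton_iff.mpr (mem_center_iff'.mp hz.2 t).symm.eq⟩
  obtain ⟨u₀, hu₀, hu₀A⟩ : ∃ u ∈ (S : Subgroup G), u ∉ A := by
    by_contra h
    push Not at h
    exact ht (hZ t htS fun s hs => (hAt s (h s hs)).symm)
  -- odd elements are central in `H`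
  have hcentral : ∀ o ∈ H, Odd (orderOf o) → ∀ h ∈ H, Commute h o := by
    intro o ho hoodd
    by_contra hnc
    push Not at hnc
    obtain ⟨h₀, hh₀, hh₀o⟩ := hnc
    let Cen : Subgroup G := H ⊓ Subgroup.centralizer (H : Set G)
    have hCen : ∀ {e : G}, e ∈ H → (∀ h ∈ H, Commute h e) → e ∈ Cen := fun he h =>
      ⟨he, Subgroup.mem_centralizer_iff.mpr fun x hx => (h x hx).eq⟩
    have hot : Commute o t := hodd o ho hoodd
    have hpair : ∀ u ∈ (S : Subgroup G), u ∉ A → o * (u * o * u⁻¹) ∈ Cen := by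
      intro u hu huA
      have huH := hSH hu
      have hut : Commute (u * o * u⁻¹) t := by
        have hz := mem_modCent_iff.mp huH
        have h1 : Commute (u * o * u⁻¹) (u * t * u⁻¹) := hot.map (MulAut.conj u).toMonoidHom
        have h2 := ((mem_center_iff'.mp (inv_mem hz)) (u * o * u⁻¹)).mul_right h1
        rwa [show (u * t * u⁻¹ * t⁻¹)⁻¹ * (u * t * u⁻¹) = t by group] at h2
      have het : Commute (o * (u * o * u⁻¹)) t := hot.mul_left hut
      have hou : Commute o (u * o * u⁻¹) := hab _ _ hot hut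
      have heH : o * (u * o * u⁻¹) ∈ H := mul_mem ho (mul_mem (mul_mem huH ho) (inv_mem huH))
      have hu2 : Commute u (o * (u * o * u⁻¹)) := by
        have e : u * (o * (u * o * u⁻¹)) * u⁻¹ = o * (u * o * u⁻¹) := by
          calc u * (o * (u * o * u⁻¹)) * u⁻¹ = (u * o * u⁻¹) * (u ^ 2 * o * (u ^ 2)⁻¹) := by
                rw [pow_two]; group
            _ = (u * o * u⁻¹) * o := by
                rw [← (mem_center_iff'.mp (helem u hu) o).eq, mul_inv_cancel_right]
            _ = _ := hou.eq.symm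
        exact mul_inv_eq_iff_eq_mul.mp e
      refine hCen heH fun h hh => ?_
      by_contra hne
      refine huA ⟨hu, Subgroup.mem_centralizer_singleton_iff.mpr ?_⟩
      exact (commute_of_mem hsub hHne heH hh hne huH (self_mem_modCent t) hu2 het.symm).eq
    have hprod : ∀ u ∈ (S : Subgroup G), ∀ v ∈ (S : Subgroup G), u ∉ A → v ∉ A → u * v ∈ A := by
      intro u hu v hv huA hvA
      by_contra huv
      have h1 := hpair u hu huA
      have h2 := hpair v hv hvA
      have h3 := hpair _ (mul_mem hu hv) huv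
      set e₁ := o * (u * o * u⁻¹) with he₁
      set e₂ := o * (v * o * v⁻¹) with he₂
      set e₃ := o * (u * v * o * (u * v)⁻¹) with he₃
      have hc1 : ∀ h ∈ H, Commute h e₁ := fun h hh => Subgroup.mem_centralizer_iff.mp h1.2 h hh
      have hc2 : ∀ h ∈ H, Commute h e₂ := fun h hh => Subgroup.mem_centralizer_iff.mp h2.2 h hh
      have key : e₃ = o * (e₁⁻¹ * o) * e₂ := by
        calc e₃ = o * (u * (o⁻¹ * e₂) * u⁻¹) := by rw [he₃, he₂]; group
          _ = o * ((u * o⁻¹) * (e₂ * u⁻¹)) := by group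
          _ = o * ((u * o⁻¹) * (u⁻¹ * e₂)) := by rw [(hc2 _ (inv_mem (hSH hu))).eq]
          _ = _ := by rw [he₁]; group
      have ho2 : o * o ∈ Cen := by
        have h4 : o * (e₁⁻¹ * o) = e₁⁻¹ * (o * o) := by
          rw [← mul_assoc, ((hc1 o ho).inv_right).eq, mul_assoc]
        have h5 := mul_mem (mul_mem h1 (mul_mem h3 (inv_mem h2))) (one_mem Cen)
        rw [key, h4, mul_one, mul_inv_cancel_right, mul_inv_cancel_left] at h5
        exact h5
      obtain ⟨i, hi⟩ := hoodd
      have : (o * o) ^ (i + 1) = o := by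
        rw [← pow_two, ← pow_mul, show 2 * (i + 1) = orderOf o + 1 by omega, pow_succ,
          pow_orderOf_eq_one, one_mul]
      exact hh₀o (this ▸ Subgroup.mem_centralizer_iff.mp (pow_mem ho2 (i + 1)).2 h₀ hh₀)
    have hidx : A.relIndex (S : Subgroup G) = 2 := by
      rw [Subgroup.relIndex, Subgroup.index_eq_two_iff]
      refine ⟨⟨u₀, hu₀⟩, fun v => ?_⟩
      simp only [Subgroup.mem_subgroupOf, Subgroup.coe_mul]
      by_cases hv : (v : G) ∈ A
      · refine Or.inr ⟨hv, fun h => hu₀A ?_⟩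
        have := mul_mem (inv_mem hv) h
        rwa [inv_mul_cancel_left] at this
      · exact Or.inl ⟨hprod _ v.2 u₀ hu₀ hv hu₀A, hv⟩
    have hbig : 2 < (Subgroup.center G).relIndex A := by
      have h1 := Subgroup.relIndex_mul_relIndex ((S : Subgroup G) ⊓ Subgroup.center G) A
        (S : Subgroup G) hZA inf_le_left
      rw [hidx, Subgroup.inf_relIndex_left] at h1
      have h2 : ((S : Subgroup G) ⊓ Subgroup.center G).relIndex A = (Subgroup.center G).relIndex A := by
        rw [← Subgroup.inf_relIndex_right ((S : Subgroup G) ⊓ Subgroup.center G) A,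
          ← Subgroup.inf_relIndex_right (Subgroup.center G) A]
        congr 1
        exact le_antisymm (inf_le_inf_right _ inf_le_right)
          fun z hz => ⟨⟨(show A ≤ (S : Subgroup G) from inf_le_left) hz.2, hz.1⟩, hz.2⟩
      rw [h2] at h1
      omega
    exact no_index_two hperf S hZ helem inf_le_left
      (fun a ha b hb => hab a b (hAt a ha) (hAt b hb)) hidx hZA hbig
  -- `H` is generated by its centre and `S`
  set π := QuotientGroup.mk' (Subgroup.center H) with hπ
  have hQ : IsPGroup 2 (H ⧸ Subgroup.center H) := by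
    intro q
    obtain ⟨v, rfl⟩ := QuotientGroup.mk'_surjective (Subgroup.center H) q
    obtain ⟨k, m, hm, hkm⟩ := Nat.exists_eq_two_pow_mul_odd (orderOf_pos (v : G)).ne'
    refine ⟨k, ?_⟩
    rw [← map_pow, QuotientGroup.mk'_apply, QuotientGroup.eq_one_iff]
    refine Subgroup.mem_center_iff.mpr fun h => Subtype.ext (hcentral _ (pow_mem v.2 _) ?_ h h.2).eq
    rw [orderOf_pow' _ (pow_pos two_pos k).ne', hkm, Nat.gcd_mul_right_left, Nat.mul_div_cancel_left _ (pow_pos two_pos k)]
    exact hm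
  have htop : ((S : Subgroup G).subgroupOf H).map π = ⊤ := by
    rw [← Subgroup.index_eq_one]
    obtain ⟨j, hj⟩ := hQ.exists_card_eq
    have hd1 : (((S : Subgroup G).subgroupOf H).map π).index ∣ 2 ^ j :=
      hj ▸ Subgroup.index_dvd_card _
    have hd2 : (((S : Subgroup G).subgroupOf H).map π).index ∣ (S : Subgroup G).index :=
      (Subgroup.index_map_dvd _ (QuotientGroup.mk'_surjective _)).trans
        (Subgroup.relIndex_dvd_index_of_le hSH)
    exact Nat.eq_one_of_dvd_coprimes
      ((Nat.prime_two.coprime_iff_not_dvd.mpr S.not_dvd_index).pow_left j) hd1 hd2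
  have hdec : ∀ v ∈ H, ∃ s ∈ (S : Subgroup G), ∀ h ∈ H, Commute h (s⁻¹ * v) := by
    intro v hv
    obtain ⟨⟨s, hsH⟩, hs, hsv⟩ : π ⟨v, hv⟩ ∈ ((S : Subgroup G).subgroupOf H).map π :=
      htop ▸ Subgroup.mem_top _
    refine ⟨s, hs, fun h hh => ?_⟩
    exact congrArg Subtype.val (Subgroup.mem_center_iff.mp (QuotientGroup.eq.mp hsv) ⟨h, hh⟩)
  obtain ⟨s, hs, hsc⟩ := hdec g hg
  obtain ⟨s', hs', hsc'⟩ := hdec g' hg'
  have hcm := (comm_mem_center S helem hs hs').1
  have hsH := hSH hs
  have hs'H := hSH hs'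
  set z := s⁻¹ * g with hz
  set z' := s'⁻¹ * g' with hz'
  have e1 : g = s * z := by rw [hz]; group
  have e2 : g' = s' * z' := by rw [hz']; group
  have hz'H : z' ∈ H := mul_mem (inv_mem hs'H) hg'
  clear_value z z'
  rw [e1, e2]
  have : s * z * (s' * z') * (s * z)⁻¹ * (s' * z')⁻¹ = s * s' * s⁻¹ * s'⁻¹ := by
    calc s * z * (s' * z') * (s * z)⁻¹ * (s' * z')⁻¹
        = s * (z * (s' * z')) * z⁻¹ * s⁻¹ * z'⁻¹ * s'⁻¹ := by group
      _ = s * s' * (z' * s⁻¹) * z'⁻¹ * s'⁻¹ := by
          rw [← (hsc _ (mul_mem hs'H hz'H)).eq]; group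
      _ = _ := by rw [← (hsc' _ (inv_mem hsH)).eq]; group
  rw [this]
  exact hcm

include hsimp hperf hsub in
/-- Step A2: an elementary quotient of a nonabelian Sylow subgroup is a four-group. -/
theorem elementary_card_four (hZ : ∀ z ∈ (S : Subgroup G), (∀ s ∈ (S : Subgroup G), Commute z s) → z ∈ Subgroup.center G)
    (hnab : ∃ x ∈ (S : Subgroup G), ∃ y ∈ (S : Subgroup G), ¬ Commute x y)
    (helem : ∀ s ∈ (S : Subgroup G), s ^ 2 ∈ Subgroup.center G) :
    (Subgroup.center G).relIndex (S : Subgroup G) = 4 := by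
  classical
  haveI : Fact (Nat.Prime 2) := ⟨Nat.prime_two⟩
  obtain ⟨x, hx, y, hy, hxy⟩ := hnab
  set N := (Subgroup.center G).subgroupOf (S : Subgroup G) with hN
  set q : ↥(S : Subgroup G) → (↥(S : Subgroup G) ⧸ N) := fun v => QuotientGroup.mk v with hq
  have hout : ∀ v : G, (∃ u : G, ¬ Commute u v) → v ∉ Subgroup.center G := fun v ⟨u, hu⟩ h =>
    hu (mem_center_iff'.mp h u)
  have hxc := hout x ⟨y, fun h => hxy h.symm⟩
  have hyc := hout y ⟨x, hxy⟩
  have hxyc : x * y ∉ Subgroup.center G := hout (x * y) ⟨x, fun h => hxy (by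
    have := (Commute.refl x).inv_right.mul_right h
    rwa [inv_mul_cancel_left] at this)⟩
  haveI : N.Normal := inferInstance
  have hne : ∀ {u v : G} (hu : u ∈ (S : Subgroup G)) (hv : v ∈ (S : Subgroup G)),
      u⁻¹ * v ∉ Subgroup.center G → q ⟨u, hu⟩ ≠ q ⟨v, hv⟩ := fun hu hv h e =>
    h (Subgroup.mem_subgroupOf.mp (QuotientGroup.eq.mp e))
  have hinvc : ∀ {u : G}, u ∉ Subgroup.center G → u⁻¹ ∉ Subgroup.center G := fun h h' =>
    h ((Subgroup.inv_mem_iff _).mp h')
  have hxy' : x⁻¹ * y ∉ Subgroup.center G := fun h => hxyc (by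
    have := mul_mem (helem x hx) h
    rwa [pow_two, mul_assoc, mul_inv_cancel_left] at this)
  have hyx' : y⁻¹ * (x * y) ∉ Subgroup.center G := fun h => hxc (by
    have := (inferInstance : (Subgroup.center G).Normal).conj_mem _ h y
    rwa [show y * (y⁻¹ * (x * y)) * y⁻¹ = x by group] at this)
  let f : Fin 4 → ↥(S : Subgroup G) ⧸ N :=
    ![q ⟨1, one_mem _⟩, q ⟨x, hx⟩, q ⟨y, hy⟩, q ⟨x * y, mul_mem hx hy⟩]
  have hf : Function.Injective f := by
    have d01 := hne (one_mem _) hx (by simpa using hxc)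
    have d02 := hne (one_mem _) hy (by simpa using hyc)
    have d03 := hne (one_mem _) (mul_mem hx hy) (by simpa using hxyc)
    have d12 := hne hx hy hxy'
    have d13 := hne hx (mul_mem hx hy) (by simpa using hyc)
    have d23 := hne hy (mul_mem hx hy) hyx'
    intro i j hij
    fin_cases i <;> fin_cases j <;> first
      | rfl
      | exact absurd hij d01 | exact absurd hij.symm d01
      | exact absurd hij d02 | exact absurd hij.symm d02
      | exact absurd hij d03 | exact absurd hij.symm d03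
      | exact absurd hij d12 | exact absurd hij.symm d12
      | exact absurd hij d13 | exact absurd hij.symm d13
      | exact absurd hij d23 | exact absurd hij.symm d23
  have h4 : 4 ≤ (Subgroup.center G).relIndex (S : Subgroup G) := by
    have := Nat.card_le_card_of_injective f hf
    rwa [Nat.card_fin] at this
  refine le_antisymm ?_ h4
  by_contra h8
  push Not at h8
  -- one class of involutions in the central quotient
  set π := QuotientGroup.mk' (Subgroup.center G) with hπ
  have hcQ : Subgroup.center (G ⧸ Subgroup.center G) = ⊥ := by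
    haveI := hsimp
    rcases (inferInstance : (Subgroup.center (G ⧸ Subgroup.center G)).Normal).eq_bot_or_eq_top with e | e
    · exact e
    · refine absurd (Subgroup.eq_top_iff' _ |>.mpr fun g => ?_) (modCent_ne_top hsimp hperf hxc)
      exact Subgroup.mem_comap.mpr (Subgroup.mem_centralizer_singleton_iff.mpr
        (Subgroup.mem_center_iff.mp (e ▸ Subgroup.mem_top _ : π x ∈ Subgroup.center _) (π g)))
  have hord : ∀ u ∈ (S : Subgroup G), u ∉ Subgroup.center G → orderOf (π u) = 2 := fun u hu huc =>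
    orderOf_eq_prime (by rw [← map_pow]; exact (QuotientGroup.eq_one_iff _).mpr (helem u hu))
      fun h => huc ((QuotientGroup.eq_one_iff _).mp h)
  have hcent : ∀ t : G ⧸ Subgroup.center G, orderOf t = 2 → ∀ a b, Commute a t → Commute b t → Commute a b := by
    intro t ht a b hat hbt
    obtain ⟨c, hc⟩ := CfsgLib.Transfer.exists_map_conj_le_sylow
      (IsPGroup.of_card (n := 1) (by rw [Nat.card_zpowers, ht, pow_one]) : IsPGroup 2 (Subgroup.zpowers t))
      (S.mapSurjective (QuotientGroup.mk'_surjective (Subgroup.center G)))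
    have htS := hc (Subgroup.mem_map_of_mem _ (Subgroup.mem_zpowers t))
    simp only [MulEquiv.coe_toMonoidHom, MulAut.conj_apply, Sylow.coe_mapSurjective] at htS
    obtain ⟨u, hu, hut⟩ := htS
    have huc : u ∉ Subgroup.center G := fun h => by
      have h1 : π u = 1 := (QuotientGroup.eq_one_iff u).mpr h
      have h1' : c * t * c⁻¹ = 1 := hut.symm.trans h1
      rw [conj_eq_one_iff.mp h1', orderOf_one] at ht
      omega
    obtain ⟨g, hg⟩ := QuotientGroup.mk'_surjective (Subgroup.center G) (c * a * c⁻¹)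
    obtain ⟨g', hg'⟩ := QuotientGroup.mk'_surjective (Subgroup.center G) (c * b * c⁻¹)
    have mem : ∀ {g : G} {a : G ⧸ Subgroup.center G}, π g = c * a * c⁻¹ → Commute a t → g ∈ modCent u := by
      intro g a hga hat'
      refine Subgroup.mem_comap.mpr (Subgroup.mem_centralizer_singleton_iff.mpr ?_)
      show π g * π u = π u * π g
      rw [hga, hut]
      exact (hat'.map (MulAut.conj c).toMonoidHom).eq
    have hcm := commutator_mem_center hsimp hperf hsub S hZ helem h8 hu huc (mem hg hat) (mem hg' hbt)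
    have h1 : Commute (π g) (π g') := by
      have := (QuotientGroup.eq_one_iff _).mpr hcm
      rw [← QuotientGroup.mk'_apply, map_mul, map_mul, map_mul, map_inv, map_inv] at this
      exact mul_inv_eq_iff_eq_mul.mp (mul_inv_eq_one.mp this)
    rw [show π g = _ from hg, show π g' = _ from hg'] at h1
    have := h1.map (MulAut.conj c⁻¹).toMonoidHom
    simpa [mul_assoc] using this
  have hsq : ∀ u ∈ (S : Subgroup G), ∀ v ∈ (S : Subgroup G), u ∉ Subgroup.center G →
      v ∉ Subgroup.center G → u ^ 2 = v ^ 2 := by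
    intro u hu v hv huc hvc
    obtain ⟨c, hc⟩ := isConj_iff.mp (isConj_of_abelian_centralizers hsimp hcQ hcent (hord u hu huc) (hord v hv hvc))
    obtain ⟨g, rfl⟩ := QuotientGroup.mk'_surjective (Subgroup.center G) c
    rw [← hπ, ← map_inv, ← map_mul, ← map_mul] at hc
    set z := v⁻¹ * (g * u * g⁻¹) with hz
    have hzc : z ∈ Subgroup.center G := QuotientGroup.eq.mp hc.symm
    have e : g * u * g⁻¹ = v * z := by rw [hz]; group
    have h2 : u ^ 2 = v ^ 2 * z ^ 2 := by
      have h1 : g * u ^ 2 * g⁻¹ = u ^ 2 := by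
        rw [(mem_center_iff'.mp (helem u hu) g).eq, mul_inv_cancel_right]
      rw [← conj_pow, e, Commute.mul_pow (mem_center_iff'.mp hzc v)] at h1
      exact h1.symm
    have hz2S : z ^ 2 ∈ (S : Subgroup G) := by
      have : z ^ 2 = (v ^ 2)⁻¹ * u ^ 2 := by rw [h2, inv_mul_cancel_left]
      rw [this]
      exact mul_mem (inv_mem (pow_mem hv 2)) (pow_mem hu 2)
    obtain ⟨l, hl⟩ := IsPGroup.iff_orderOf.mp S.isPGroup' ⟨z ^ 2, hz2S⟩
    rw [Subgroup.orderOf_mk] at hl
    have hzS : z ∈ (S : Subgroup G) := center_mem_sylow S hzc (j := l + 1) (by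
      rw [pow_succ', pow_mul, ← hl, pow_orderOf_eq_one])
    rw [h2, sq_center_eq_one hperf S helem hzS hzc, mul_one]
  set c := x ^ 2 with hc
  have hc2 : c * c = 1 := by
    rw [← pow_two]
    exact sq_center_eq_one hperf S helem (pow_mem hx 2) (helem x hx)
  have hcc : ∀ g : G, Commute g c := mem_center_iff'.mp (helem x hx)
  have flip : ∀ u ∈ (S : Subgroup G), ∀ v ∈ (S : Subgroup G), u ∉ Subgroup.center G →
      v ∉ Subgroup.center G → u * v ∉ Subgroup.center G → v * u = c * (u * v) := by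
    intro u hu v hv huc hvc huvc
    have h1 : u * u = c := by rw [← pow_two]; exact hsq u hu x hx huc hxc
    have h2 : v * v = c := by rw [← pow_two]; exact hsq v hv x hx hvc hxc
    have h3 : u * v * (u * v) = c := by rw [← pow_two]; exact hsq _ (mul_mem hu hv) x hx huvc hxc
    calc v * u = u⁻¹ * (u * v * (u * v)) * v⁻¹ := by group
      _ = u⁻¹ * (u * u) * v⁻¹ := by rw [h3, h1]
      _ = u * v⁻¹ := by group
      _ = u * (v * (v * v)⁻¹) := by group
      _ = u * v * c := by rw [h2, inv_eq_of_mul_eq_one_right hc2, mul_assoc]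
      _ = c * (u * v) := (hcc (u * v)).eq
  obtain ⟨w, hw⟩ : ∃ w : ↥(S : Subgroup G) ⧸ N, w ∉ Set.range f := by
    by_contra h
    push Not at h
    have := Nat.card_le_card_of_surjective f h
    rw [Nat.card_fin] at this
    exact absurd h8 (not_lt.mpr this)
  obtain ⟨⟨v, hv⟩, rfl⟩ := QuotientGroup.mk_surjective w
  have nm : ∀ i : Fin 4, f i ≠ QuotientGroup.mk ⟨v, hv⟩ := fun i e => hw ⟨i, e⟩
  have n0 : v ∉ Subgroup.center G := fun h => nm 0 (QuotientGroup.eq.mpr (by
    simpa [hN, Subgroup.mem_subgroupOf] using h))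
  have n1 : x⁻¹ * v ∉ Subgroup.center G := fun h => nm 1 (QuotientGroup.eq.mpr (by
    simpa [hN, Subgroup.mem_subgroupOf] using h))
  have n2 : y⁻¹ * v ∉ Subgroup.center G := fun h => nm 2 (QuotientGroup.eq.mpr (by
    simpa [hN, Subgroup.mem_subgroupOf] using h))
  have n3 : (x * y)⁻¹ * v ∉ Subgroup.center G := fun h => nm 3 (QuotientGroup.eq.mpr (by
    simpa [hN, Subgroup.mem_subgroupOf] using h))
  have up : ∀ {u : G}, u ∈ (S : Subgroup G) → u⁻¹ * v ∉ Subgroup.center G → u * v ∉ Subgroup.center G := by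
    intro u hu h h'
    have := mul_mem (inv_mem (helem u hu)) h'
    rw [pow_two, mul_inv_rev, mul_assoc, inv_mul_cancel_left] at this
    exact h this
  have hyv : y * v ∉ Subgroup.center G := up hy n2
  have hxyv : x * (y * v) ∉ Subgroup.center G := by
    rw [← mul_assoc]; exact up (mul_mem hx hy) n3
  have f1 := flip x hx y hy hxc hyc hxyc
  have f2 := flip x hx v hv hxc n0 (up hx n1)
  have f3 := flip x hx (y * v) (mul_mem hy hv) hxc hyv hxyv
  have h5 : y * v * x = x * (y * v) := by
    calc y * v * x = y * (v * x) := mul_assoc _ _ _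
      _ = y * (c * (x * v)) := by rw [f2]
      _ = c * (y * x) * v := by
          rw [← mul_assoc, (hcc y).eq]; group
      _ = c * (c * (x * y)) * v := by rw [f1]
      _ = x * (y * v) := by rw [← mul_assoc c c, hc2, one_mul, mul_assoc]
  rw [f3] at h5
  have hc1 : c = 1 := mul_eq_right.mp h5
  rw [hc1, one_mul] at f1
  exact hxy f1.symm

end Elementary

end CfsgLib.MinNonCA
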