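import Cfsg.Agent.S0034
import Cfsg.Agent.S0035
import Cfsg.Agent.S0039

/-!
In a group of order 360 no Frobenius subgroup whose normal subgroups are self-normalising in it
has a complement of order divisible by three (S4369).
-/

set_option autoImplicit false
set_option linter.unusedSectionVars false
set_option linter.style.haveILetI false

namespace CfsgLib.MinNonCA

open Cfsg

theorem no_frobenius_three {Q : Type*} [Group Q] [Finite Q] (hcard : Nat.card Q = 360)
    (H B : Subgroup Q) (hBH : B ≤ H) (hF : Cfsg.IsFrobeniusComplement (B.subgroupOf H))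
    (h3 : 3 ∣ Nat.card B)
    (hN : ∀ K ≤ H, K ≠ ⊥ → H ≤ Subgroup.normalizer (K : Set Q) →
      Subgroup.normalizer (K : Set Q) ≤ H) : False := by
  classical
  haveI : Fact (Nat.Prime 3) := ⟨Nat.prime_three⟩
  haveI : Fact (Nat.Prime 5) := ⟨by norm_num⟩
  haveI : Fact (Nat.Prime 2) := ⟨Nat.prime_two⟩
  obtain ⟨N, -, hNn, hc⟩ := Cfsg.Agent.S0035.result (B.subgroupOf H) hF
  haveI := hNn
  obtain ⟨-, hmod⟩ := Cfsg.Agent.S0034.result (B.subgroupOf H) hF
  have hb : Nat.card (B.subgroupOf H) = Nat.card B :=
    Nat.card_congr (Subgroup.subgroupOfEquivOfLe hBH).toEquiv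
  rw [hc.index_eq_card, hb] at hmod
  have hH : Nat.card N * Nat.card B = Nat.card H := hb ▸ hc.card_mul
  have hdvd : Nat.card N * Nat.card B ∣ 360 := by
    rw [hH, ← hcard]; exact Subgroup.card_subgroup_dvd_card H
  have hn1 : Nat.card N ≠ 1 := fun h => hF.2.1 (by
    rw [← Subgroup.index_eq_one, hc.index_eq_card, h])
  have hn3 : Nat.card N % 3 = 1 := by
    have := congrArg (· % 3) hmod
    simpa [Nat.mod_mod_of_dvd _ h3] using this
  have hn120 : Nat.card N ∣ 120 := by
    have : Nat.card N * 3 ∣ 120 * 3 := (Nat.mul_dvd_mul_left _ h3).trans hdvd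
    exact Nat.dvd_of_mul_dvd_mul_right (by norm_num) this
  have hcases : Nat.card N = 4 ∨ Nat.card N = 10 ∨ Nat.card N = 40 :=
    (by decide : ∀ n ∈ Nat.divisors 120, n % 3 = 1 → n ≠ 1 → n = 4 ∨ n = 10 ∨ n = 40) _
      (Nat.mem_divisors.2 ⟨hn120, by norm_num⟩) hn3 hn1
  have hN1 : N ≠ ⊥ := fun h => hn1 (by rw [h, Subgroup.card_bot])
  have hfix := (Cfsg.Agent.S0039.result N (B.subgroupOf H) hc hN1 hF.1).1 hF
  by_cases h5 : 5 ∣ Nat.card N
  · -- an element of order three fixes no point of the Sylow 5-subgroup
    obtain ⟨S⟩ : Nonempty (Sylow 5 N) := inferInstance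
    have hS5 : Nat.card S = 5 := by
      rw [S.card_eq_multiplicity]
      have hnd : ¬ 5 ^ 2 ∣ Nat.card N := by rcases hcases with e | e | e <;> rw [e] <;> norm_num
      have h1 : (Nat.card N).factorization 5 = 1 := by
        have hpos : Nat.card N ≠ 0 := Nat.card_pos.ne'
        have a := (Nat.Prime.dvd_iff_one_le_factorization (by norm_num) hpos).1 h5
        have b : ¬ 2 ≤ (Nat.card N).factorization 5 := fun h =>
          hnd ((Nat.Prime.pow_dvd_iff_le_factorization (by norm_num) hpos).2 h)
        omega
      rw [h1, pow_one]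
    have huniq : Subsingleton (Sylow 5 N) := by
      refine (Finite.card_le_one_iff_subsingleton).1 ?_
      have hm := card_sylow_modEq_one 5 N
      have hd := Sylow.card_dvd_index S
      have hi : Nat.card N = 5 * (S : Subgroup N).index := by
        have h := (S : Subgroup N).card_mul_index
        rw [hS5] at h
        exact h.symm
      generalize Nat.card (Sylow 5 N) = k at *
      unfold Nat.ModEq at hm
      rcases hcases with e | e | e
      · omega
      · rw [show (S : Subgroup N).index = 2 by omega] at hd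
        have := Nat.le_of_dvd (by norm_num) hd
        omega
      · rw [show (S : Subgroup N).index = 8 by omega] at hd
        have := Nat.le_of_dvd (by norm_num) hd
        interval_cases k <;> omega
    haveI := S.normal_of_subsingleton
    haveI := Sylow.characteristic_of_normal S inferInstance
    set P : Subgroup H := (S : Subgroup N).map N.subtype with hP
    haveI : P.Normal := ConjAct.normal_of_characteristic_of_normal
    obtain ⟨b, hb3⟩ := exists_prime_orderOf_dvd_card' 3 (hb.symm ▸ h3 :
      3 ∣ Nat.card (B.subgroupOf H))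
    let A : Subgroup H := Subgroup.zpowers (b : H)
    have hA : IsPGroup 3 A := IsPGroup.of_card (n := 1) (by
      rw [Nat.card_zpowers, Subgroup.orderOf_coe, hb3, pow_one])
    letI : MulAction A P :=
      MulAction.compHom P ((MulAut.conjNormal (H := P)).comp A.subtype)
    have hPN : P ≤ N := Subgroup.map_subtype_le _
    have hfixed : ∀ x : P, x ∈ MulAction.fixedPoints A P → x = 1 := by
      intro x hx
      have hb1 : (b : H) ≠ 1 := fun e => by
        rw [← Subgroup.orderOf_coe, e, orderOf_one] at hb3
        norm_num at hb3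
      have h1 := congrArg Subtype.val (hx ⟨b, Subgroup.mem_zpowers _⟩)
      change (b : H) * (x : H) * (b : H)⁻¹ = x at h1
      have h2 : (x : H) ∈ N ⊓ Subgroup.centralizer {(b : H)} :=
        ⟨hPN x.2, Subgroup.mem_centralizer_singleton_iff.2 (mul_inv_eq_iff_eq_mul.1 h1).symm⟩
      rw [hfix b b.2 hb1, Subgroup.mem_bot] at h2
      exact Subtype.ext h2
    have hm := hA.card_modEq_card_fixedPoints P
    haveI : Subsingleton (MulAction.fixedPoints A P) :=
      ⟨fun x y => Subtype.ext ((hfixed x x.2).trans (hfixed y y.2).symm)⟩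
    haveI : Nonempty (MulAction.fixedPoints A P) := ⟨⟨1, fun a => map_one (MulAut.conjNormal (H := P) (a : H))⟩⟩
    rw [show Nat.card P = 5 from (Subgroup.card_map_of_injective N.subtype_injective).trans hS5, Nat.card_unique] at hm
    exact absurd hm (by decide)
  · have h4 : Nat.card N = 4 := by
      rcases hcases with e | e | e
      · exact e
      all_goals exact absurd (by rw [e]; norm_num) h5
    set K : Subgroup Q := N.map H.subtype
    have hKH : K ≤ H := Subgroup.map_subtype_le _
    have hK4 : Nat.card K = 4 := by rw [Subgroup.card_map_of_injective H.subtype_injective, h4]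
    have hKne : K ≠ ⊥ := fun h => by rw [h, Subgroup.card_bot] at hK4; norm_num at hK4
    have hnorm : H ≤ Subgroup.normalizer (K : Set Q) := by
      intro h hh
      rw [Subgroup.mem_normalizer_iff]
      intro x
      constructor
      · rintro ⟨y, hy, rfl⟩
        exact ⟨⟨h, hh⟩ * y * ⟨h, hh⟩⁻¹, hNn.conj_mem y hy _, rfl⟩
      · rintro ⟨y, hy, hxy⟩
        refine ⟨⟨h, hh⟩⁻¹ * y * ⟨h, hh⟩, by simpa using hNn.conj_mem y hy ⟨h, hh⟩⁻¹, ?_⟩
        show h⁻¹ * (y : Q) * h = x
        rw [show (y : Q) = h * x * h⁻¹ from hxy]; group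
    obtain ⟨S, hS⟩ := (IsPGroup.of_card (n := 2) hK4 : IsPGroup 2 K).exists_le_sylow
    have hS8 : Nat.card S = 8 := by
      rw [S.card_eq_multiplicity, hcard]
      have : (360 : ℕ).factorization 2 = 3 := by
        refine le_antisymm (Nat.le_of_lt_succ ?_) ?_
        · by_contra h
          exact absurd ((Nat.Prime.pow_dvd_iff_le_factorization Nat.prime_two (by norm_num)).2
            (not_lt.1 h) : 2 ^ 4 ∣ 360) (by norm_num)
        · exact (Nat.Prime.pow_dvd_iff_le_factorization Nat.prime_two (by norm_num)).1 (by norm_num)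
      rw [this]; norm_num
    have hidx : (K.subgroupOf (S : Subgroup Q)).index = 2 := by
      have h := (K.subgroupOf (S : Subgroup Q)).card_mul_index
      rw [Nat.card_congr (Subgroup.subgroupOfEquivOfLe hS).toEquiv, hK4, hS8] at h
      omega
    haveI := Subgroup.normal_of_index_eq_two hidx
    have hSN : (S : Subgroup Q) ≤ Subgroup.normalizer (K : Set Q) :=
      (Subgroup.normal_subgroupOf_iff_le_normalizer hS).1 inferInstance
    have h8 : 8 ∣ Nat.card H := hS8 ▸ Subgroup.card_dvd_of_le (hSN.trans (hN K hKH hKne hnorm))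
    rw [← hH, h4] at h8
    rw [h4] at hmod
    have h2B : 2 ∣ Nat.card B := Nat.dvd_of_mul_dvd_mul_left (by norm_num : 0 < 4) h8
    have h2 := congrArg (· % 2) hmod
    simp [Nat.mod_mod_of_dvd _ h2B] at h2

end CfsgLib.MinNonCA
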