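import Cfsg.Agent.Lib.Transfer.Thompson
import Cfsg.Agent.Lib.Coprime.Generation

/-!
In a group whose central quotient is simple, if a Sylow 2-subgroup has an abelian subgroup `A` of index
two, inverted modulo the centre by the involutions outside it and meeting their centralisers centrally,
then the image of `A` is cyclic and the image of the Sylow 2-subgroup dihedral
(`notes/s4369_gap_route.md`, section (B)).
-/

set_option autoImplicit false
set_option linter.style.haveILetI false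
set_option linter.unusedSectionVars false

namespace CfsgLib.MinNonCA

variable {Q : Type*} [Group Q]

/-- A group with an involution outside a cyclic subgroup of index two inverted by it is dihedral. -/
theorem dihedral_of_rotation [Finite Q] {n : ℕ} [NeZero n] (hc : Nat.card Q = 2 * n) {s x : Q}
    (hs : orderOf s = n) (hx : x * x = 1) (hxs : x ∉ Subgroup.zpowers s)
    (hinv : x * s * x⁻¹ = s⁻¹) : Nonempty (Q ≃* DihedralGroup n) := by
  have hx' : x⁻¹ = x := inv_eq_of_mul_eq_one_right hx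
  let ρ : ZMod n → Q := fun i => s ^ i.val
  have hadd : ∀ i j, ρ (i + j) = ρ i * ρ j := by
    intro i j
    show s ^ (i + j).val = s ^ i.val * s ^ j.val
    rw [← pow_add, pow_eq_pow_iff_modEq, hs, ZMod.val_add]
    exact Nat.mod_modEq _ _
  have hρ0 : ρ 0 = 1 := by show s ^ (0 : ZMod n).val = 1; rw [ZMod.val_zero, pow_zero]
  have hρn : ∀ i, ρ (-i) = (ρ i)⁻¹ := fun i => eq_inv_of_mul_eq_one_left (by
    rw [← hadd, neg_add_cancel, hρ0])
  have hρx : ∀ i, ρ i * x = x * ρ (-i) := by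
    intro i
    have h1 : x * ρ i * x⁻¹ = (ρ i)⁻¹ := by
      show x * s ^ i.val * x⁻¹ = (s ^ i.val)⁻¹
      rw [← conj_pow, hinv, inv_pow]
    rw [hρn, ← h1, hx']
    calc ρ i * x = (x * x) * ρ i * x := by rw [hx, one_mul]
      _ = x * (x * ρ i * x) := by simp only [mul_assoc]
  let f : DihedralGroup n → Q := fun d => match d with
    | DihedralGroup.r i => ρ i
    | DihedralGroup.sr i => x * ρ i
  have hf : ∀ a b, f (a * b) = f a * f b := by
    rintro (i | i) (j | j)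
    · exact hadd i j
    · show x * ρ (j - i) = ρ i * (x * ρ j)
      rw [← mul_assoc, hρx, mul_assoc, ← hadd, neg_add_eq_sub]
    · show x * ρ (i + j) = x * ρ i * ρ j
      rw [hadd, mul_assoc]
    · show ρ (j - i) = x * ρ i * (x * ρ j)
      calc ρ (j - i) = (x * x) * (ρ (-i) * ρ j) := by rw [hx, one_mul, ← hadd, neg_add_eq_sub]
        _ = x * (x * ρ (-i)) * ρ j := by simp only [mul_assoc]
        _ = x * (ρ i * x) * ρ j := by rw [hρx]
        _ = x * ρ i * (x * ρ j) := by simp only [mul_assoc]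
  let F : DihedralGroup n →* Q := MonoidHom.mk' f hf
  have hinj : Function.Injective F := by
    rw [← MonoidHom.ker_eq_bot_iff, Subgroup.eq_bot_iff_forall]
    rintro (i | i) hi
    · have h1 : s ^ i.val = 1 := hi
      rw [← orderOf_dvd_iff_pow_eq_one, hs] at h1
      rw [(ZMod.val_eq_zero i).1 (Nat.eq_zero_of_dvd_of_lt h1 (ZMod.val_lt i)), DihedralGroup.r_zero]
    · have h1 : x * s ^ i.val = 1 := hi
      exact absurd (eq_inv_of_mul_eq_one_left h1 ▸
        inv_mem (pow_mem (Subgroup.mem_zpowers s) _)) hxs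
  exact ⟨(MulEquiv.ofBijective F
    ((Nat.bijective_iff_injective_and_card _).2 ⟨hinj, by rw [DihedralGroup.nat_card, hc]⟩)).symm⟩

/-- A subgroup `R` of index two of a Sylow 2-subgroup, inverted from outside, is cyclic if no element
conjugates an outside element and an involution of `R` both into `R`. -/
theorem cyclic_core [Finite Q] (hno : ∀ M : Subgroup Q, M.Normal → M.index ≠ 2) (P : Sylow 2 Q)
    (R : Subgroup Q) (hRP : R ≤ P) (hRi : R.relIndex (P : Subgroup Q) = 2)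
    (hinv : ∀ x ∈ (P : Subgroup Q), x ∉ R → x * x = 1 ∧ ∀ r ∈ R, x * r * x⁻¹ = r⁻¹)
    (hsep : ∀ x ∈ (P : Subgroup Q), x ∉ R → ∀ r ∈ R, r ≠ 1 → ∀ g : Q,
      g * x * g⁻¹ ∈ R → g * r * g⁻¹ ∉ R) : IsCyclic R := by
  haveI : Fact (Nat.Prime 2) := ⟨Nat.prime_two⟩
  obtain ⟨x, hxP, hxR⟩ : ∃ x ∈ (P : Subgroup Q), x ∉ R := by
    by_contra h
    push Not at h
    rw [Subgroup.relIndex_eq_one.mpr h] at hRi
    omega
  obtain ⟨hxx, hxinv⟩ := hinv x hxP hxR
  haveI : IsMulCommutative R := ⟨⟨fun a b => Subtype.ext (by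
    have h1 := hxinv _ (mul_mem a.2 b.2)
    rw [← conj_mul, hxinv _ a.2, hxinv _ b.2, mul_inv_rev] at h1
    calc (a : Q) * b = ((b : Q)⁻¹ * (a : Q)⁻¹)⁻¹ := by group
      _ = ((a : Q)⁻¹ * (b : Q)⁻¹)⁻¹ := by rw [h1]
      _ = b * a := by group)⟩⟩
  by_contra hcyc
  obtain ⟨p, hp, r₁, hr₁, r₂, hr₂, h₁, h₂, hr₂1, hnot⟩ :=
    CfsgLib.Coprime.exists_pair_of_not_isCyclic R hcyc
  haveI := Fact.mk hp
  have hord : orderOf r₂ = p := orderOf_eq_prime h₂ hr₂1
  obtain ⟨j, hj⟩ := IsPGroup.iff_orderOf.mp P.isPGroup' ⟨r₂, hRP hr₂⟩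
  rw [Subgroup.orderOf_mk, hord] at hj
  have hp2 : p = 2 := (Nat.prime_dvd_prime_iff_eq hp Nat.prime_two).mp
    (hp.dvd_of_dvd_pow (dvd_of_eq hj))
  subst hp2
  have hr₁1 : r₁ ≠ 1 := fun h => hnot (h ▸ one_mem _)
  have hr12 : r₁ * r₂ ≠ 1 := fun h => hnot (by
    rw [eq_inv_of_mul_eq_one_left h]
    exact inv_mem (Subgroup.mem_zpowers r₂))
  -- move `x` into `R`
  obtain ⟨g, hgP, hgR⟩ := (Transfer.thompson_transfer P hRi hxx hxP hxR).resolve_left
    fun ⟨M, hM, hMi, _⟩ => hno M hM hMi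
  set y := g * x * g⁻¹ with hy
  have hyy : y * y = 1 := by rw [hy, conj_mul, hxx]; group
  have hyc : ∀ w ∈ (P : Subgroup Q), w * y = y * w := by
    intro w hw
    by_cases hwR : w ∈ R
    · exact congrArg Subtype.val (IsMulCommutative.is_comm.comm (⟨w, hwR⟩ : R) ⟨y, hgR⟩)
    · have h := (hinv w hw hwR).2 y hgR
      rw [inv_eq_of_mul_eq_one_right hyy] at h
      exact mul_inv_eq_iff_eq_mul.mp h
  have hPC : (P : Subgroup Q) ≤ Subgroup.centralizer ({y} : Set Q) := fun w hw =>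
    Subgroup.mem_centralizer_singleton_iff.mpr (hyc w hw)
  have hcomm : ∀ r ∈ R, r ^ 2 = 1 → r * x = x * r := fun r hr h => by
    have h' := hxinv r hr
    rw [inv_eq_of_mul_eq_one_right (show r * r = 1 by rw [← pow_two, h])] at h'
    exact (mul_inv_eq_iff_eq_mul.mp h').symm
  -- carry `x, r₁, r₂` into the Sylow subgroup
  set X : Subgroup Q := Subgroup.closure {x, r₁, r₂} with hX
  have hXP : X ≤ (P : Subgroup Q) := (Subgroup.closure_le _).mpr (by
    rintro w (rfl | rfl | rfl)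
    exacts [hxP, hRP hr₁, hRP hr₂])
  have hXx : X ≤ Subgroup.centralizer ({x} : Set Q) := (Subgroup.closure_le _).mpr (by
    rintro w (rfl | rfl | rfl) <;> rw [SetLike.mem_coe, Subgroup.mem_centralizer_singleton_iff]
    exacts [hcomm _ hr₁ h₁, hcomm _ hr₂ h₂])
  set Y := X.map (MulAut.conj g).toMonoidHom with hY
  have hYC : Y ≤ Subgroup.centralizer ({y} : Set Q) := by
    rintro _ ⟨w, hw, rfl⟩
    have h := Subgroup.mem_centralizer_singleton_iff.mp (hXx hw)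
    rw [Subgroup.mem_centralizer_singleton_iff]
    show g * w * g⁻¹ * y = y * (g * w * g⁻¹)
    rw [hy, conj_mul, conj_mul, h]
  have hYp : IsPGroup 2 Y := (P.isPGroup'.to_le hXP).map _
  obtain ⟨T, hT⟩ := (hYp.of_equiv (Subgroup.subgroupOfEquivOfLe hYC).symm).exists_le_sylow
  obtain ⟨c, hc⟩ := MulAction.exists_smul_eq (Subgroup.centralizer ({y} : Set Q)) T (P.subtype hPC)
  set h := (c : Q) * g with hh
  have hhX : ∀ w ∈ X, h * w * h⁻¹ ∈ (P : Subgroup Q) := by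
    intro w hw
    have hwY : g * w * g⁻¹ ∈ Y := ⟨w, hw, rfl⟩
    have hm : c * ⟨g * w * g⁻¹, hYC hwY⟩ * c⁻¹ ∈ P.subtype hPC := by
      rw [← hc]
      exact Subgroup.smul_mem_pointwise_smul (⟨g * w * g⁻¹, hYC hwY⟩) (MulAut.conj c) _ (hT hwY)
    have hm' : (c : Q) * (g * w * g⁻¹) * (c : Q)⁻¹ ∈ (P : Subgroup Q) := hm
    rwa [show h * w * h⁻¹ = (c : Q) * (g * w * g⁻¹) * (c : Q)⁻¹ by rw [hh]; group]
  have hhx : h * x * h⁻¹ ∈ R := by
    rw [show h * x * h⁻¹ = (c : Q) * y * (c : Q)⁻¹ by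
      show (c : Q) * g * x * ((c : Q) * g)⁻¹ = (c : Q) * (g * x * g⁻¹) * (c : Q)⁻¹
      group,
      Subgroup.mem_centralizer_singleton_iff.mp c.2, mul_inv_cancel_right]
    exact hgR
  have hout : ∀ r ∈ R, r ≠ 1 → r ∈ X → h * r * h⁻¹ ∈ (P : Subgroup Q) ∧ h * r * h⁻¹ ∉ R :=
    fun r hr hr1 hrX => ⟨hhX r hrX, hsep x hxP hxR r hr hr1 h hhx⟩
  have m₁ : r₁ ∈ X := Subgroup.subset_closure (by simp)
  have m₂ : r₂ ∈ X := Subgroup.subset_closure (by simp)
  obtain ⟨hP₁, hR₁⟩ := hout r₁ hr₁ hr₁1 m₁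
  obtain ⟨hP₂, hR₂⟩ := hout r₂ hr₂ hr₂1 m₂
  obtain ⟨-, hR12⟩ := hout _ (mul_mem hr₁ hr₂) hr12 (mul_mem m₁ m₂)
  rw [← conj_mul] at hR12
  refine hR12 ?_
  have := (Subgroup.mul_mem_iff_of_index_two (H := R.subgroupOf (P : Subgroup Q)) hRi
    (a := ⟨_, hP₁⟩) (b := ⟨_, hP₂⟩)).mpr (iff_of_false hR₁ hR₂)
  exact this

variable {G : Type*} [Group G] [Finite G]

/-- The image of the abelian subgroup of index two is cyclic, and the Sylow 2-subgroup of the central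
quotient is dihedral. -/
theorem rotation_cyclic (hsimp : IsSimpleGroup (G ⧸ Subgroup.center G)) (S : Sylow 2 G)
    (A : Subgroup G) (hAS : A ≤ (S : Subgroup G)) (hA : ∀ a ∈ A, ∀ b ∈ A, a * b = b * a)
    (hidx : A.relIndex (S : Subgroup G) = 2)
    (hout : ∀ s ∈ (S : Subgroup G), s ∉ A → s ^ 2 ∈ Subgroup.center G ∧
      ∀ b ∈ A, s * b * s⁻¹ * b ∈ Subgroup.center G)
    (hcA : ∀ s ∈ (S : Subgroup G), s ∉ A → ∀ b ∈ A, s * b = b * s → b ∈ Subgroup.center G)
    (hnc : ∃ a ∈ A, a ∉ Subgroup.center G) :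
    IsCyclic (A.map (QuotientGroup.mk' (Subgroup.center G))) ∧
      2 ≤ Nat.card (A.map (QuotientGroup.mk' (Subgroup.center G))) ∧
      Nonempty (↥((S : Subgroup G).map (QuotientGroup.mk' (Subgroup.center G))) ≃*
        DihedralGroup (Nat.card (A.map (QuotientGroup.mk' (Subgroup.center G))))) := by
  haveI : Fact (Nat.Prime 2) := ⟨Nat.prime_two⟩
  set f := QuotientGroup.mk' (Subgroup.center G) with hf
  have hfz : ∀ z : G, f z = 1 ↔ z ∈ Subgroup.center G := fun z => QuotientGroup.eq_one_iff z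
  have hfs : Function.Surjective f := QuotientGroup.mk'_surjective _
  obtain ⟨a₀, ha₀, ha₀z⟩ := hnc
  have hker : ∀ z ∈ (S : Subgroup G), z ∈ Subgroup.center G → z ∈ A := fun z hzS hz => by
    by_contra hzA
    exact ha₀z (hcA z hzS hzA a₀ ha₀ ((Subgroup.mem_center_iff.mp hz a₀).symm))
  have hlift : ∀ s ∈ (S : Subgroup G), f s ∈ A.map f → s ∈ A := by
    rintro s hs ⟨a, ha, e⟩
    have hz : a⁻¹ * s ∈ Subgroup.center G := QuotientGroup.eq.mp e
    have := mul_mem ha (hker _ (mul_mem (inv_mem (hAS ha)) hs) hz)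
    rwa [mul_inv_cancel_left] at this
  set P := S.mapSurjective hfs with hP
  have hPe : (P : Subgroup (G ⧸ Subgroup.center G)) = (S : Subgroup G).map f :=
    Sylow.coe_mapSurjective _ _
  have hRP : A.map f ≤ (P : Subgroup (G ⧸ Subgroup.center G)) := hPe ▸ Subgroup.map_mono hAS
  obtain ⟨x, hxS, hxA⟩ : ∃ x ∈ (S : Subgroup G), x ∉ A := by
    by_contra h
    push Not at h
    rw [Subgroup.relIndex_eq_one.mpr h] at hidx
    omega
  have hRi : (A.map f).relIndex (P : Subgroup (G ⧸ Subgroup.center G)) = 2 := by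
    obtain ⟨u, hu, hux⟩ := Subgroup.relIndex_eq_two_iff.mp hidx
    refine Subgroup.relIndex_eq_two_iff.mpr ⟨f u, hPe ▸ ⟨u, hu, rfl⟩, fun w hw => ?_⟩
    rw [hPe] at hw
    obtain ⟨v, hv, rfl⟩ := hw
    rw [← map_mul]
    have h1 : ∀ s ∈ (S : Subgroup G), (f s ∈ A.map f ↔ s ∈ A) := fun s hs =>
      ⟨hlift s hs, fun h => ⟨s, h, rfl⟩⟩
    rw [h1 _ (mul_mem hv hu), h1 _ hv]
    exact hux v hv
  have hinv : ∀ w ∈ (P : Subgroup (G ⧸ Subgroup.center G)), w ∉ A.map f →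
      w * w = 1 ∧ ∀ r ∈ A.map f, w * r * w⁻¹ = r⁻¹ := by
    rw [hPe]
    rintro _ ⟨s, hs, rfl⟩ hsR
    obtain ⟨h2, hb⟩ := hout s hs fun h => hsR ⟨s, h, rfl⟩
    refine ⟨?_, ?_⟩
    · rw [← map_mul, hfz, ← pow_two]; exact h2
    · rintro _ ⟨b, hbA, rfl⟩
      refine eq_inv_of_mul_eq_one_left ?_
      rw [← map_inv, ← map_mul, ← map_mul, ← map_mul, hfz]
      exact hb b hbA
  have hno : ∀ M : Subgroup (G ⧸ Subgroup.center G), M.Normal → M.index ≠ 2 := by
    intro M hM h2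
    rcases hM.eq_bot_or_eq_top with h | h
    · rw [h, Subgroup.index_bot] at h2
      haveI : IsCyclic (G ⧸ Subgroup.center G) := isCyclic_of_prime_card h2
      refine ha₀z (Subgroup.mem_center_iff.mpr fun g => ?_)
      exact commutative_of_cyclic_center_quotient f (by rw [hf, QuotientGroup.ker_mk']) g a₀
    · rw [h, Subgroup.index_top] at h2
      omega
  have hsep : ∀ w ∈ (P : Subgroup (G ⧸ Subgroup.center G)), w ∉ A.map f → ∀ r ∈ A.map f, r ≠ 1 →
      ∀ g, g * w * g⁻¹ ∈ A.map f → g * r * g⁻¹ ∉ A.map f := by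
    rw [hPe]
    rintro _ ⟨s, hs, rfl⟩ hsR _ ⟨b, hb, rfl⟩ hb1 g ⟨a₁, ha₁, e₁⟩ ⟨a₂, ha₂, e₂⟩
    obtain ⟨k, rfl⟩ := hfs g
    rw [← map_inv, ← map_mul, ← map_mul] at e₁ e₂
    have z₁ : a₁⁻¹ * (k * s * k⁻¹) ∈ Subgroup.center G := QuotientGroup.eq.mp e₁
    have z₂ : a₂⁻¹ * (k * b * k⁻¹) ∈ Subgroup.center G := QuotientGroup.eq.mp e₂
    have c₁ := Subgroup.mem_center_iff.mp z₁
    have c₂ := Subgroup.mem_center_iff.mp z₂
    have hck : Commute (k * s * k⁻¹) (k * b * k⁻¹) := by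
      have e : ∀ a t : G, k * t * k⁻¹ = a * (a⁻¹ * (k * t * k⁻¹)) := fun a t => by group
      rw [e a₁ s, e a₂ b]
      exact ((show Commute a₁ a₂ from hA a₁ ha₁ a₂ ha₂).mul_right (c₂ a₁)).mul_left
        (Commute.mul_right (c₁ a₂).symm (c₂ _))
    have := hck.map (MulAut.conj k⁻¹).toMonoidHom
    simp only [MulEquiv.coe_toMonoidHom, MulAut.conj_apply, inv_inv] at this
    rw [show k⁻¹ * (k * s * k⁻¹) * k = s by group, show k⁻¹ * (k * b * k⁻¹) * k = b by group] at this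
    exact hb1 ((hfz b).mpr (hcA s hs (fun h => hsR ⟨s, h, rfl⟩) b hb this.eq))
  haveI hcyc : IsCyclic (A.map f) := cyclic_core hno P (A.map f) hRP hRi hinv hsep
  have h2le : 2 ≤ Nat.card (A.map f) := by
    rw [Nat.succ_le_iff, Finite.one_lt_card_iff_nontrivial]
    exact ⟨⟨⟨f a₀, a₀, ha₀, rfl⟩, 1, fun h => ha₀z ((hfz a₀).mp (congrArg Subtype.val h))⟩⟩
  refine ⟨hcyc, h2le, ?_⟩
  obtain ⟨⟨r, hr⟩, hgen⟩ := IsCyclic.exists_ofOrder_eq_natCard (α := A.map f)
  rw [Subgroup.orderOf_mk] at hgen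
  have hzr : Subgroup.zpowers r = A.map f := Subgroup.eq_of_le_of_card_ge
    (Subgroup.zpowers_le.mpr hr) (by rw [Nat.card_zpowers, hgen])
  haveI : NeZero (Nat.card (A.map f)) := ⟨by omega⟩
  have hxR : f x ∉ A.map f := fun h => hxA (hlift x hxS h)
  obtain ⟨hxx, hxr⟩ := hinv (f x) (hPe ▸ ⟨x, hxS, rfl⟩) hxR
  refine dihedral_of_rotation (s := ⟨r, Subgroup.map_mono hAS hr⟩) (x := ⟨f x, x, hxS, rfl⟩) ?_
    (by rw [Subgroup.orderOf_mk, hgen]) (Subtype.ext hxx) ?_ (Subtype.ext (hxr r hr))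
  · rw [← hPe, ← Subgroup.relIndex_bot_left, ← Subgroup.relIndex_bot_left,
      ← Subgroup.relIndex_mul_relIndex ⊥ (A.map f) _ bot_le hRP, hRi, mul_comm]
  · intro hm
    obtain ⟨j, hj⟩ := Subgroup.mem_zpowers_iff.mp hm
    refine hxR (hzr ▸ Subgroup.mem_zpowers_iff.mpr ⟨j, ?_⟩)
    simpa using congrArg Subtype.val hj

end CfsgLib.MinNonCA
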