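import Cfsg.Agent.Lib.MinNonCA.ElemCase
import Cfsg.Agent.Lib.MinNonCA.Rotation
import Cfsg.Agent.Lib.MinNonCA.Isolated
import Cfsg.Agent.Lib.MinNonCA.CentralD
import Cfsg.Agent.Lib.CAMinimal.HC
import Cfsg.Agent.Lib.Invol.KleinSylow
import Cfsg.Agent.Lib.SL2.PSL
import Cfsg.Agent.Lib.CyclicNorm.Dihedral
import Cfsg.Agent.S0107
import Cfsg.Agent.S0144

/-!
With a nonabelian Sylow 2-subgroup the central quotient is a linear group of dimension two (S4369).
-/

set_option autoImplicit false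
set_option linter.style.haveILetI false
set_option linter.unusedSectionVars false

namespace CfsgLib.MinNonCA

variable {G : Type*} [Group G] [Finite G]
variable (hsimp : IsSimpleGroup (G ⧸ Subgroup.center G)) (hperf : commutator G = ⊤)
variable (hsub : ∀ H : Subgroup G, H ≠ ⊤ →
  ∀ x : H, x ∉ Subgroup.center H → IsMulCommutative (Subgroup.centralizer ({x} : Set H)))
variable (S : Sylow 2 G)

/-- The elements of odd order commuting with `a`, when these commute with each other. -/
def oddCent (a : G) (hab : ∀ x y : G, Commute x a → Commute y a → Commute x y) : Subgroup G where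
  carrier := {g | Commute g a ∧ Odd (orderOf g)}
  one_mem' := ⟨Commute.one_left a, by simp⟩
  mul_mem' := fun {g h} hg hh => ⟨hg.1.mul_left hh.1,
    (hg.2.mul hh.2).of_dvd_nat ((hab g h hg.1 hh.1).orderOf_mul_dvd_mul_orderOf)⟩
  inv_mem' := fun {g} hg => ⟨hg.1.inv_left, by rw [orderOf_inv]; exact hg.2⟩

/-- A group all whose odd elements lie in a normal subgroup is that subgroup times a Sylow
2-subgroup. -/
theorem exists_mul_of_odd_mem {K : Type*} [Group K] [Finite K] (N : Subgroup K) [N.Normal]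
    (hodd : ∀ g : K, Odd (orderOf g) → g ∈ N) (P : Sylow 2 K) (g : K) :
    ∃ o ∈ N, ∃ s ∈ (P : Subgroup K), g = o * s := by
  haveI : Fact (Nat.Prime 2) := ⟨Nat.prime_two⟩
  have hq : IsPGroup 2 (K ⧸ N) := by
    intro q
    obtain ⟨g, rfl⟩ := QuotientGroup.mk_surjective q
    obtain ⟨j, m, hm, e⟩ := Nat.exists_eq_two_pow_mul_odd (n := orderOf g) (orderOf_pos g).ne'
    refine ⟨j, ?_⟩
    rw [← QuotientGroup.mk_pow, QuotientGroup.eq_one_iff]
    refine hodd _ ?_
    rw [orderOf_pow' g (pow_ne_zero j (by norm_num)), e, Nat.gcd_mul_right_left, Nat.mul_div_cancel_left _ (by positivity)]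
    exact hm
  have hs := QuotientGroup.mk'_surjective N
  have htop : (P : Subgroup K).map (QuotientGroup.mk' N) = ⊤ := by
    obtain ⟨k, hk⟩ := hq.exists_card_eq
    have hd : ((P : Subgroup K).map (QuotientGroup.mk' N)).index ∣ Nat.card (K ⧸ N) := Subgroup.index_dvd_card _
    rw [hk] at hd
    have hd2 : ((P : Subgroup K).map (QuotientGroup.mk' N)).index ∣ (P : Subgroup K).index :=
      Subgroup.index_map_dvd _ hs
    obtain ⟨i, -, hi⟩ := (Nat.dvd_prime_pow Nat.prime_two).mp hd
    rw [← Subgroup.index_eq_one, hi]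
    rcases Nat.eq_zero_or_pos i with h0 | h0
    · rw [h0, pow_zero]
    · exact absurd ((dvd_pow_self 2 h0.ne').trans (hi ▸ hd2)) P.not_dvd_index
  obtain ⟨s, hs', e⟩ := htop.ge (Subgroup.mem_top (QuotientGroup.mk' N g))
  refine ⟨g * s⁻¹, ?_, s, hs', by group⟩
  have h1 : s⁻¹ * g ∈ N := QuotientGroup.eq.mp e
  simpa [mul_assoc] using (inferInstance : N.Normal).conj_mem _ h1 s

omit [Finite G] in
/-- The data describing a Sylow 2-subgroup which is dihedral modulo the centre. -/
structure DihedralShape (a x : G) (n : ℕ) : Prop where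
  ha : a ∈ (S : Subgroup G)
  hx : x ∈ (S : Subgroup G)
  hn : 2 ≤ n
  haZ : a ∉ Subgroup.center G
  hxZ : x ∉ Subgroup.center G
  haxZ : a * x ∉ Subgroup.center G
  ha2 : a * a ∈ Subgroup.center G
  hax : ¬ Commute a x
  hidx : ((S : Subgroup G) ⊓ Subgroup.centralizer ({a} : Set G)).relIndex (S : Subgroup G) = 2
  hcyc : IsCyclic (((S : Subgroup G) ⊓ Subgroup.centralizer ({a} : Set G)).map
    (QuotientGroup.mk' (Subgroup.center G)))
  hout : ∀ s ∈ (S : Subgroup G), ¬ Commute s a → s * s ∈ Subgroup.center G ∧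
    ∀ b ∈ (S : Subgroup G), Commute b a → s * b * s⁻¹ * b ∈ Subgroup.center G
  hdih : Nonempty ((S : Subgroup G).map (QuotientGroup.mk' (Subgroup.center G)) ≃* DihedralGroup n)
  hconj : ∀ p q : G ⧸ Subgroup.center G, orderOf p = 2 → orderOf q = 2 → IsConj p q

include hsimp hperf hsub

omit hsub in
theorem quotient_not_comm (hnab : ∃ x ∈ (S : Subgroup G), ∃ y ∈ (S : Subgroup G), ¬ Commute x y) :
    ¬ ∀ p q : G ⧸ Subgroup.center G, p * q = q * p := by
  intro h
  obtain ⟨x, -, y, -, hxy⟩ := hnab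
  have hle : commutator G ≤ Subgroup.center G := by
    rw [commutator_eq_closure, Subgroup.closure_le]
    rintro _ ⟨p, q, rfl⟩
    rw [SetLike.mem_coe, ← QuotientGroup.eq_one_iff, ← QuotientGroup.mk'_apply, map_commutatorElement,
      commutatorElement_eq_one_iff_commute]
    exact h _ _
  rw [hperf] at hle
  exact hxy (mem_center_iff'.mp (hle (Subgroup.mem_top y)) x)

theorem psl_of_shape (hZ : ∀ z ∈ (S : Subgroup G), (∀ s ∈ (S : Subgroup G), Commute z s) → z ∈ Subgroup.center G)
    {a x : G} {n : ℕ} (h : DihedralShape S a x n) :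
    ∃ (F : Type) (_ : Field F) (_ : Fintype F), Odd (Fintype.card F) ∧
      Nonempty ((G ⧸ Subgroup.center G) ≃* Matrix.ProjectiveSpecialLinearGroup (Fin 2) F) := by
  classical
  haveI : Fact (Nat.Prime 2) := ⟨Nat.prime_two⟩
  haveI := hsimp
  set Z := Subgroup.center G with hZdef
  set π := QuotientGroup.mk' Z with hπ
  set A := (S : Subgroup G) ⊓ Subgroup.centralizer ({a} : Set G) with hA
  have hker : ∀ {u : G}, π u = 1 ↔ u ∈ Z := fun {u} => QuotientGroup.eq_one_iff u
  have hmemA : ∀ {s : G}, s ∈ A ↔ s ∈ (S : Subgroup G) ∧ Commute s a := fun {s} =>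
    ⟨fun hs => ⟨hs.1, Subgroup.mem_centralizer_singleton_iff.mp hs.2⟩,
      fun hs => ⟨hs.1, Subgroup.mem_centralizer_singleton_iff.mpr hs.2⟩⟩
  have hpair : ∀ s ∈ (S : Subgroup G), ∀ t ∈ (S : Subgroup G), ¬ Commute s a → ¬ Commute t a →
      Commute (s * t) a := by
    intro s hs t ht hsa hta
    have e := Subgroup.mul_mem_iff_of_index_two (H := A.subgroupOf (S : Subgroup G)) h.hidx
      (a := ⟨s, hs⟩) (b := ⟨t, ht⟩)
    simp only [Subgroup.mem_subgroupOf, Subgroup.coe_mul] at e
    exact (hmemA.mp (e.mpr ⟨fun hh => absurd (hmemA.mp hh).2 hsa, fun hh => absurd (hmemA.mp hh).2 hta⟩)).2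
  have hxa : ¬ Commute x a := fun hh => h.hax hh.symm
  have hx2 : x * x ∈ Z := (h.hout x h.hx hxa).1
  have hax' : a * x * a⁻¹ * x⁻¹ ∈ Z := by
    have h1 := (h.hout x h.hx hxa).2 a h.ha (Commute.refl a)
    have e : a * x * a⁻¹ * x⁻¹ = (a * a) * (x * a * x⁻¹ * a)⁻¹ := by group
    rw [e]
    exact mul_mem h.ha2 (inv_mem h1)
  have hSa : ∀ s ∈ (S : Subgroup G), s * a * s⁻¹ * a⁻¹ ∈ Z := by
    intro s hs
    by_cases hsa : Commute s a
    · rw [show s * a = a * s from hsa, mul_inv_cancel_right, mul_inv_cancel]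
      exact one_mem _
    · have h1 := (h.hout s hs hsa).2 a h.ha (Commute.refl a)
      rw [show s * a * s⁻¹ * a⁻¹ = (s * a * s⁻¹ * a) * (a * a)⁻¹ by group]
      exact mul_mem h1 (inv_mem h.ha2)
  have hSK : (S : Subgroup G) ≤ modCent a := fun s hs => mem_modCent_iff.mpr (hSa s hs)
  obtain ⟨hab, hoddK⟩ := central_lift hsimp hperf hsub S hZ h.ha h.haZ hSK
  set O := oddCent a hab with hO
  -- `modCent a = O S`
  have hnormO : ∀ g ∈ modCent a, ∀ o ∈ O, g * o * g⁻¹ ∈ O := by
    intro g hg o ho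
    have hzc : g * a * g⁻¹ * a⁻¹ ∈ Z := mem_modCent_iff.mp hg
    refine ⟨?_, by rw [← MulAut.conj_apply, MulEquiv.orderOf_eq]; exact ho.2⟩
    set z := g * a * g⁻¹ * a⁻¹ with hz
    have e : z * a = g * a * g⁻¹ := by rw [hz]; group
    have h1 : Commute (g * o * g⁻¹) (z * a) := by
      rw [e, ← MulAut.conj_apply, ← MulAut.conj_apply]
      exact ho.1.map (MulAut.conj g).toMonoidHom
    have h2 : Commute (g * o * g⁻¹) z⁻¹ := mem_center_iff'.mp (inv_mem hzc) _
    simpa using h2.mul_right h1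
  have hNa : ∀ g ∈ modCent a, ∃ o ∈ O, ∃ s ∈ (S : Subgroup G), g = o * s := by
    intro g hg
    have hle : O ≤ modCent a := fun o ho =>
      centralizer_le_modCent a (Subgroup.mem_centralizer_singleton_iff.mpr ho.1.eq)
    haveI : (O.subgroupOf (modCent a)).Normal := ⟨fun o ho k => hnormO k k.2 o ho⟩
    obtain ⟨o, ho, s, hs, e⟩ := exists_mul_of_odd_mem (O.subgroupOf (modCent a))
      (fun k hk => ⟨hoddK k k.2 (by rwa [Subgroup.orderOf_coe]), by
        rw [Subgroup.coe_subtype, Subgroup.orderOf_coe]; exact hk⟩)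
      (S.subtype hSK) ⟨g, hg⟩
    exact ⟨o, ho, s, hs, congrArg Subtype.val e⟩
  have hCa : ∀ g : G, Commute g a → ∃ o ∈ O, ∃ s ∈ (S : Subgroup G), g = o * s ∧ Commute s a := by
    intro g hg
    obtain ⟨o, ho, s, hs, e⟩ := hNa g (centralizer_le_modCent a (Subgroup.mem_centralizer_singleton_iff.mpr hg.eq))
    refine ⟨o, ho, s, hs, e, ?_⟩
    have := ho.1.inv_left.mul_left hg
    rwa [e, inv_mul_cancel_left] at this
  have hodd1 : ∀ o ∈ O, Odd (orderOf (π o)) := fun o ho => ho.2.of_dvd_nat (orderOf_map_dvd π o)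
  have htwo : ∀ s ∈ (S : Subgroup G), Odd (orderOf (π s)) → π s = 1 := by
    intro s hs ho
    obtain ⟨j, hj⟩ := IsPGroup.iff_orderOf.mp S.isPGroup' ⟨s, hs⟩
    rw [Subgroup.orderOf_mk] at hj
    rw [← orderOf_eq_one_iff]
    exact Nat.eq_one_of_dvd_coprimes ((Nat.coprime_two_right.mpr ho).pow_right j) dvd_rfl
      (hj ▸ orderOf_map_dvd π s)
  -- the involution of the rotations
  have hoa : orderOf (π a) = 2 := orderOf_eq_prime (by rw [← map_pow, hker, pow_two]; exact h.ha2)
    (fun e => h.haZ (hker.mp e))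
  have hinvol : ∀ s ∈ (S : Subgroup G), Commute s a → s * s ∈ Z → s ∈ Z ∨ s * a⁻¹ ∈ Z := by
    intro s hs hsa hs2
    by_contra hcon
    push Not at hcon
    haveI := h.hcyc
    haveI : Fintype (A.map π) := Fintype.ofFinite _
    let u : A.map π := ⟨π s, Subgroup.mem_map_of_mem π (hmemA.mpr ⟨hs, hsa⟩)⟩
    let t : A.map π := ⟨π a, Subgroup.mem_map_of_mem π (hmemA.mpr ⟨h.ha, Commute.refl a⟩)⟩
    have hT : ({1, t, u} : Finset (A.map π)) ⊆ Finset.univ.filter (fun r => r ^ 2 = 1) := by
      intro r hr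
      simp only [Finset.mem_insert, Finset.mem_singleton] at hr
      refine Finset.mem_filter.2 ⟨Finset.mem_univ _, ?_⟩
      rcases hr with rfl | rfl | rfl
      · exact one_pow 2
      · exact Subtype.ext (by show π a ^ 2 = 1; rw [← map_pow, hker, pow_two]; exact h.ha2)
      · exact Subtype.ext (by show π s ^ 2 = 1; rw [← map_pow, hker, pow_two]; exact hs2)
    have hc3 : ({1, t, u} : Finset (A.map π)).card = 3 := Finset.card_eq_three.2 ⟨_, _, _,
      fun e => h.haZ (hker.mp (congrArg Subtype.val e).symm),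
      fun e => hcon.1 (hker.mp (congrArg Subtype.val e).symm),
      fun e => hcon.2 (hker.mp (by
        have he : π a = π s := congrArg Subtype.val e
        rw [map_mul, map_inv, ← he, mul_inv_cancel])), rfl⟩
    have := (Finset.card_le_card hT).trans (IsCyclic.card_pow_eq_one_le (by norm_num))
    omega
  have hUniq : ∀ g : G, Commute g a → g * g ∈ Z → g ∉ Z → g * a⁻¹ ∈ Z := by
    intro g hg hg2 hgZ
    obtain ⟨o, ho, s, hs, e, hsa⟩ := hCa g hg
    have hc : Commute o s := hab o s ho.1 hsa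
    have h1 : π o * π o = (π s * π s)⁻¹ := by
      refine eq_inv_of_mul_eq_one_left ?_
      rw [← map_mul, ← map_mul, ← map_mul, hker]
      have : o * o * (s * s) = g * g := by
        calc o * o * (s * s) = o * (o * s) * s := by group
          _ = o * (s * o) * s := by rw [hc.eq]
          _ = g * g := by rw [e]; group
      rwa [this]
    have h2 : π s * π s = 1 := by
      rw [← map_mul]
      refine htwo _ (mul_mem hs hs) ?_
      rw [map_mul, ← orderOf_inv, ← h1, ← pow_two]
      exact (hodd1 o ho).of_dvd_nat (orderOf_pow_dvd 2)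
    have h3 : π o = 1 := by
      refine CfsgLib.CAMinimal.odd_sq (hodd1 o ho) ?_
      rw [pow_two, h1, h2, inv_one]
    have hoZ := hker.mp h3
    rcases hinvol s hs hsa (hker.mp (by rw [map_mul]; exact h2)) with hsZ | hsZ
    · exact absurd (e ▸ mul_mem hoZ hsZ) hgZ
    · rw [e, mul_assoc]; exact mul_mem hoZ hsZ
  have hS : ∀ s ∈ (S : Subgroup G), (∀ o ∈ O, Commute s o) ∨ (∀ o ∈ O, Commute (x * s) o) := by
    intro s hs
    by_cases hsa : Commute s a
    · exact Or.inl fun o ho => hab s o hsa ho.1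
    · exact Or.inr fun o ho => hab _ o (hpair x h.hx s hs hxa hsa) ho.1
  have hclass : ∀ v ∈ (S : Subgroup G), v * v ∈ Z → v ∉ Z → ∃ g : G, g * v * g⁻¹ * a⁻¹ ∈ Z := by
    intro v _ hv2 hvZ
    obtain ⟨p, hp⟩ := isConj_iff.mp (h.hconj (π v) (π a)
      (orderOf_eq_prime (by rw [← map_pow, hker, pow_two]; exact hv2) (fun e => hvZ (hker.mp e))) hoa)
    obtain ⟨g, rfl⟩ := QuotientGroup.mk'_surjective Z p
    exact ⟨g, hker.mp (by rw [map_mul, map_mul, map_mul, map_inv, map_inv, hp, mul_inv_cancel])⟩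
  have hW : ∀ {z : G}, z ∈ Z → z ∈ Subgroup.closure ({a, x} : Set G) ⊔ Z := fun hz =>
    Subgroup.mem_sup_right hz
  have haW : a ∈ Subgroup.closure ({a, x} : Set G) ⊔ Z :=
    Subgroup.mem_sup_left (Subgroup.subset_closure (Or.inl rfl))
  have hxW : x ∈ Subgroup.closure ({a, x} : Set G) ⊔ Z :=
    Subgroup.mem_sup_left (Subgroup.subset_closure (Or.inr rfl))
  have hCS0 : ∀ s ∈ (S : Subgroup G), Commute s a → s * x * s⁻¹ * x⁻¹ ∈ Z →
      s ∈ Subgroup.closure ({a, x} : Set G) ⊔ Z := by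
    intro s hs hsa hsx
    have h1 := (h.hout x h.hx hxa).2 s hs hsa
    have h2 : s * s ∈ Z := by
      rw [show s * s = (s * x * s⁻¹ * x⁻¹) * (x * s * x⁻¹ * s) by group]
      exact mul_mem hsx h1
    rcases hinvol s hs hsa h2 with hz | hz
    · exact hW hz
    · have := mul_mem (hW hz) haW
      rwa [inv_mul_cancel_right] at this
  have hCS : ∀ s ∈ (S : Subgroup G), s * x * s⁻¹ * x⁻¹ ∈ Z →
      s ∈ Subgroup.closure ({a, x} : Set G) ⊔ Z := by
    intro s hs hsx
    by_cases hsa : Commute s a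
    · exact hCS0 s hs hsa hsx
    · have h1 : x * s * x * (x * s)⁻¹ * x⁻¹ ∈ Z := by
        rw [show x * s * x * (x * s)⁻¹ * x⁻¹ = x * (s * x * s⁻¹ * x⁻¹) * x⁻¹ by group]
        exact (inferInstance : Z.Normal).conj_mem _ hsx x
      have := mul_mem (inv_mem hxW) (hCS0 _ (mul_mem h.hx hs) (hpair x h.hx s hs hxa hsa) h1)
      rwa [inv_mul_cancel_left] at this
  have hOodd : Odd (Nat.card O) := by
    rw [← Nat.not_even_iff_odd, even_iff_two_dvd]
    intro h2
    obtain ⟨⟨o, ho⟩, he⟩ := exists_prime_orderOf_dvd_card' 2 h2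
    rw [Subgroup.orderOf_mk] at he
    exact absurd (he ▸ ho.2) (by decide)
  have hcent : ∀ d ∈ O, Commute x d → d ∈ Z := fun d hd hdx =>
    central_of_commute hsimp
      (fun hall => quotient_not_comm hsimp hperf S ⟨a, h.ha, x, h.hx, h.hax⟩ fun p q => by
        obtain ⟨g, rfl⟩ := QuotientGroup.mk'_surjective Z p
        obtain ⟨g', rfl⟩ := QuotientGroup.mk'_surjective Z q
        have e := hker.mpr (hall g g')
        rw [map_mul, map_mul, map_mul, map_inv, map_inv, mul_inv_eq_one, mul_inv_eq_iff_eq_mul] at e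
        exact e)
      hsub S hZ a x h.ha h.hx h.ha2 hx2 h.haZ h.hxZ h.haxZ h.hax hax' hSa hclass hCS
      O hOodd (fun o ho o' ho' => hab o o' ho.1 ho'.1) (fun o ho => ho.1.symm)
      (fun o ho => hnormO x (hSK h.hx) o ho) (fun g hg => hNa g (mem_modCent_iff.mpr hg)) hS
      hUniq hd hdx
  -- inputs for the linear group theorem
  set T := S.mapSurjective (QuotientGroup.mk'_surjective Z) with hT
  have hTc : (T : Subgroup (G ⧸ Z)) = (S : Subgroup G).map π := Sylow.coe_mapSurjective _ S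
  have hinf : (T : Subgroup (G ⧸ Z)) ⊓ (Subgroup.centralizer ({a} : Set G)).map π = A.map π := by
    refine le_antisymm ?_ (le_inf (hTc ▸ Subgroup.map_mono inf_le_left) (Subgroup.map_mono inf_le_right))
    rintro p ⟨hp1, c, hc, rfl⟩
    obtain ⟨s, hs, e⟩ := hTc ▸ hp1
    refine ⟨s, hmemA.mpr ⟨hs, ?_⟩, e⟩
    have h1 : s⁻¹ * c ∈ Z := QuotientGroup.eq.mp e
    have h2 : Commute (s⁻¹ * c)⁻¹ a := (mem_center_iff'.mp (inv_mem h1) a).symm
    have := (Subgroup.mem_centralizer_singleton_iff.mp hc : c * a = a * c)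
    have h3 : Commute c a := this
    have h4 := h3.mul_left h2
    rwa [mul_inv_rev, inv_inv, mul_inv_cancel_left] at h4
  refine CfsgLib.CAMinimal.psl_of_invol hsub (CfsgLib.CAMinimal.le_center_of_normal hsimp hperf)
    T n h.hn ?_ a ?_ hoa ?_ ?_ ?_ ?_ ?_
  · obtain ⟨e⟩ := h.hdih
    exact ⟨(MulEquiv.subgroupCongr hTc).trans e⟩
  · intro u hu v hv
    exact hab u v (Subgroup.mem_centralizer_singleton_iff.mp hu) (Subgroup.mem_centralizer_singleton_iff.mp hv)
  · rw [hTc]; exact Subgroup.mem_map_of_mem π h.ha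
  · intro p hp
    obtain ⟨s, hs, rfl⟩ := hTc ▸ hp
    have h1 := hker.mpr (hSa s hs)
    rw [map_mul, map_mul, map_mul, map_inv, map_inv, mul_inv_eq_one, mul_inv_eq_iff_eq_mul] at h1
    exact h1
  · rw [hinf]; exact h.hcyc
  · rw [hinf, hTc, Subgroup.relIndex, Subgroup.index_eq_two_iff]
    have key : ∀ s ∈ (S : Subgroup G), (π s ∈ A.map π ↔ Commute s a) := by
      intro s hs
      refine ⟨fun ⟨b, hb, e⟩ => ?_, fun hsa => Subgroup.mem_map_of_mem π (hmemA.mpr ⟨hs, hsa⟩)⟩
      have h1 : b⁻¹ * s ∈ Z := QuotientGroup.eq.mp e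
      have := (hmemA.mp hb).2.mul_left (mem_center_iff'.mp h1 a).symm
      rwa [mul_inv_cancel_left] at this
    refine ⟨⟨π x, Subgroup.mem_map_of_mem π h.hx⟩, fun ⟨v, hv⟩ => ?_⟩
    obtain ⟨s, hs, rfl⟩ := hv
    simp only [Subgroup.mem_subgroupOf, Subgroup.coe_mul, ← map_mul, key _ (mul_mem hs h.hx), key s hs]
    by_cases hsa : Commute s a
    · refine Or.inr ⟨hsa, fun hh => hxa ?_⟩
      have := hsa.inv_left.mul_left hh
      rwa [inv_mul_cancel_left] at this
    · exact Or.inl ⟨hpair s hs x h.hx hsa hxa, hsa⟩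
  · intro y hy hyo hfix
    obtain ⟨o, ho, s, hs, e, hsa⟩ := hCa y (Subgroup.mem_centralizer_singleton_iff.mp hy)
    have hc : Commute (π o) (π s) := (hab o s ho.1 hsa).map π
    have hs1 : π s = 1 := by
      refine htwo s hs ?_
      have e1 : π s = (π o)⁻¹ * π y := by rw [e, map_mul, inv_mul_cancel_left]
      have hc' : Commute (π o)⁻¹ (π y) := by
        rw [e, map_mul]
        exact ((Commute.refl (π o)).mul_right hc).inv_left
      rw [e1]
      exact ((hodd1 o ho).mul hyo).of_dvd_nat ((hc'.orderOf_mul_dvd_mul_orderOf).trans (by rw [orderOf_inv]))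
    have hoy : π o = π y := by rw [e, map_mul, hs1, mul_one]
    have hfo := hfix (π x) (hTc ▸ Subgroup.mem_map_of_mem π h.hx)
    rw [← hoy, mul_inv_eq_iff_eq_mul] at hfo
    set z := x * o * x⁻¹ * o⁻¹ with hz
    have hzZ : z ∈ Z := hker.mp (by rw [hz, map_mul, map_mul, map_mul, map_inv, map_inv, hfo]; group)
    have hzO : z ∈ O := mul_mem (hnormO x (hSK h.hx) o ho) (inv_mem ho)
    have hxo : x * o * x⁻¹ = z * o := by rw [hz]; group
    have hz2 : z * z = 1 := by
      have h1 : x * x * o * (x * x)⁻¹ = o := by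
        rw [← (mem_center_iff'.mp hx2 o).eq, mul_inv_cancel_right]
      have h2 : x * x * o * (x * x)⁻¹ = z * (z * o) := by
        calc x * x * o * (x * x)⁻¹ = x * (x * o * x⁻¹) * x⁻¹ := by group
          _ = x * z * o * x⁻¹ := by rw [hxo]; group
          _ = z * (x * o * x⁻¹) := by rw [(mem_center_iff'.mp hzZ x).eq]; group
          _ = z * (z * o) := by rw [hxo]
      rw [h1, ← mul_assoc] at h2
      exact right_eq_mul.mp h2
    have hz1 : z = 1 := CfsgLib.CAMinimal.odd_sq hzO.2 (by rw [pow_two]; exact hz2)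
    rw [hz1, one_mul, mul_inv_eq_iff_eq_mul] at hxo
    have hoZ : o ∈ Z := hcent o ho hxo
    exact e ▸ mul_mem hoZ (hker.mp hs1)


omit hsub in
theorem no_index_two_quotient (hnab : ∃ x ∈ (S : Subgroup G), ∃ y ∈ (S : Subgroup G), ¬ Commute x y) :
    ∀ M : Subgroup (G ⧸ Subgroup.center G), M.index ≠ 2 := by
  intro M hM
  haveI := hsimp
  rcases (Subgroup.normal_of_index_eq_two hM).eq_bot_or_eq_top with e | e
  · rw [e, Subgroup.index_bot] at hM
    haveI : Fact (Nat.Prime 2) := ⟨Nat.prime_two⟩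
    haveI := isCyclic_of_prime_card hM
    exact quotient_not_comm hsimp hperf S hnab fun p q => IsMulCommutative.is_comm.comm p q
  · rw [e, Subgroup.index_top] at hM
    omega

theorem exists_shape (hZ : ∀ z ∈ (S : Subgroup G), (∀ s ∈ (S : Subgroup G), Commute z s) → z ∈ Subgroup.center G)
    (hnab : ∃ x ∈ (S : Subgroup G), ∃ y ∈ (S : Subgroup G), ¬ Commute x y) :
    ∃ a x n, DihedralShape S a x n := by
  classical
  haveI : Fact (Nat.Prime 2) := ⟨Nat.prime_two⟩
  haveI := hsimp
  set Z := Subgroup.center G with hZdef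
  set π := QuotientGroup.mk' Z with hπ
  have hker : ∀ {u : G}, π u = 1 ↔ u ∈ Z := fun {u} => QuotientGroup.eq_one_iff u
  set T := S.mapSurjective (QuotientGroup.mk'_surjective Z) with hT
  have hTc : (T : Subgroup (G ⧸ Z)) = (S : Subgroup G).map π := Sylow.coe_mapSurjective _ S
  rcases sylow_shape hsimp hperf hsub S hZ hnab with helem | ⟨A, hAS, hAab, hidx, hSZ, ⟨a₀, ha₀, ha₀2⟩, hAmax, hout⟩
  · -- elementary: a four group
    obtain ⟨a, ha, x, hx, hax⟩ := hnab
    have hsq : ∀ s ∈ (S : Subgroup G), π s * π s = 1 := fun s hs => by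
      rw [← map_mul, hker, ← pow_two]; exact helem s hs
    have hcard : Nat.card ((S : Subgroup G).map π) = 4 := by
      have := elementary_card_four hsimp hperf hsub S hZ ⟨a, ha, x, hx, hax⟩ helem
      rwa [← Subgroup.relIndex_ker, hπ, QuotientGroup.ker_mk']
    have haZ : a ∉ Z := fun h => hax (mem_center_iff'.mp h x).symm
    have hxZ : x ∉ Z := fun h => hax (mem_center_iff'.mp h a)
    have haxZ : a * x ∉ Z := fun h => hax (by
      have := (mem_center_iff'.mp h a)
      exact mul_left_cancel (a := a) (show a * (a * x) = a * (x * a) by rw [← mul_assoc a x a]; exact this.eq))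
    have hcomm : ∀ s ∈ (S : Subgroup G), ∀ t ∈ (S : Subgroup G), π s * π t = π t * π s := by
      intro s hs t ht
      have h1 := hsq _ (mul_mem hs ht)
      rw [map_mul] at h1
      calc π s * π t = (π s * π t)⁻¹ := eq_inv_of_mul_eq_one_left h1
        _ = (π t)⁻¹ * (π s)⁻¹ := mul_inv_rev _ _
        _ = π t * π s := by rw [inv_eq_of_mul_eq_one_left (hsq t ht), inv_eq_of_mul_eq_one_left (hsq s hs)]
    have hfour : ∀ s ∈ (S : Subgroup G), π s = 1 ∨ π s = π a ∨ π s = π x ∨ π s = π (a * x) := by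
      intro s hs
      by_contra hcon
      push Not at hcon
      haveI : Fintype ((S : Subgroup G).map π) := Fintype.ofFinite _
      let mk : ∀ t, t ∈ (S : Subgroup G) → (S : Subgroup G).map π := fun t ht => ⟨π t, Subgroup.mem_map_of_mem π ht⟩
      let L : List ((S : Subgroup G).map π) := [1, mk a ha, mk x hx, mk (a * x) (mul_mem ha hx), mk s hs]
      have d1 : π a ≠ π x := fun e => haxZ (hker.mp (by rw [map_mul, ← e]; exact hsq a ha))
      have d2 : π a ≠ π (a * x) := fun e => hxZ (hker.mp (by rw [map_mul] at e; exact mul_eq_left.mp e.symm))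
      have d3 : π x ≠ π (a * x) := fun e => haZ (hker.mp (by rw [map_mul] at e; exact mul_eq_right.mp e.symm))
      have hL : L.Nodup := by
        simp only [L, mk, List.nodup_cons, List.mem_cons, List.not_mem_nil, or_false, List.nodup_nil, and_true,
          not_or, Subtype.ext_iff, Subgroup.coe_one, not_false_iff]
        exact ⟨⟨fun e => haZ (hker.mp e.symm), fun e => hxZ (hker.mp e.symm), fun e => haxZ (hker.mp e.symm),
          hcon.1.symm⟩, ⟨d1, d2, hcon.2.1.symm⟩, ⟨d3, hcon.2.2.1.symm⟩, hcon.2.2.2.symm⟩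
      have := hL.length_le_card
      rw [← Nat.card_eq_fintype_card, hcard] at this
      simp [L] at this
    have hCa : ∀ s ∈ (S : Subgroup G), (Commute s a ↔ π s = 1 ∨ π s = π a) := by
      intro s hs
      have hadj : ∀ t, π s = π t → (Commute s a ↔ Commute t a) := by
        intro t e
        have h1 : s⁻¹ * t ∈ Z := QuotientGroup.eq.mp e
        refine ⟨fun h => ?_, fun h => ?_⟩
        · have := h.mul_left (mem_center_iff'.mp h1 a).symm
          rwa [mul_inv_cancel_left] at this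
        · have := h.mul_left (mem_center_iff'.mp (inv_mem h1) a).symm
          rwa [mul_inv_rev, inv_inv, mul_inv_cancel_left] at this
      refine ⟨fun h => ?_, fun h => ?_⟩
      · rcases hfour s hs with e | e | e | e
        · exact Or.inl e
        · exact Or.inr e
        · exact absurd ((hadj x e).mp h).symm hax
        · have := (Commute.refl a).inv_left.mul_left ((hadj (a * x) e).mp h)
          rw [inv_mul_cancel_left] at this
          exact absurd this.symm hax
      · rcases h with e | e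
        · exact (mem_center_iff'.mp (hker.mp e) a).symm
        · exact (hadj a e).mpr (Commute.refl a)
    have hmem : ∀ {s : G}, s ∈ (S : Subgroup G) ⊓ Subgroup.centralizer ({a} : Set G) ↔
        s ∈ (S : Subgroup G) ∧ Commute s a := fun {s} =>
      ⟨fun hs => ⟨hs.1, Subgroup.mem_centralizer_singleton_iff.mp hs.2⟩,
        fun hs => ⟨hs.1, Subgroup.mem_centralizer_singleton_iff.mpr hs.2⟩⟩
    have hoa : orderOf (π a) = 2 := orderOf_eq_prime (by rw [pow_two]; exact hsq a ha) (fun e => haZ (hker.mp e))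
    refine ⟨a, x, 2, ha, hx, le_rfl, haZ, hxZ, haxZ, by rw [← pow_two]; exact helem a ha, hax, ?_, ?_, ?_, ?_, ?_⟩
    · rw [Subgroup.relIndex, Subgroup.index_eq_two_iff]
      refine ⟨⟨x, hx⟩, fun ⟨v, hv⟩ => ?_⟩
      simp only [Subgroup.mem_subgroupOf, Subgroup.coe_mul, hmem, hv, mul_mem hv hx, true_and]
      by_cases hva : Commute v a
      · refine Or.inr ⟨hva, fun hh => hax ?_⟩
        have := hva.inv_left.mul_left hh
        rw [inv_mul_cancel_left] at this
        exact this.symm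
      · refine Or.inl ⟨(hCa _ (mul_mem hv hx)).mpr ?_, hva⟩
        rw [map_mul]
        rcases hfour v hv with e | e | e | e
        · exact absurd ((hCa v hv).mpr (Or.inl e)) hva
        · exact absurd ((hCa v hv).mpr (Or.inr e)) hva
        · exact Or.inl (by rw [e]; exact hsq x hx)
        · exact Or.inr (by rw [e, map_mul, mul_assoc, hsq x hx, mul_one])
    · have e : ((S : Subgroup G) ⊓ Subgroup.centralizer ({a} : Set G)).map π = Subgroup.zpowers (π a) := by
        refine le_antisymm ?_ (Subgroup.zpowers_le.mpr (Subgroup.mem_map_of_mem π (hmem.mpr ⟨ha, Commute.refl a⟩)))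
        rintro _ ⟨s, hs, rfl⟩
        rcases (hCa s hs.1).mp (hmem.mp hs).2 with e | e <;> rw [e]
        · exact one_mem _
        · exact Subgroup.mem_zpowers _
      rw [e]; infer_instance
    · intro s hs _
      refine ⟨hker.mp (by rw [map_mul]; exact hsq s hs), fun b hb _ => hker.mp ?_⟩
      rw [map_mul, map_mul, map_mul, map_inv, hcomm s hs b hb, mul_inv_cancel_right, hsq b hb]
    · refine dihedral_of_rotation (by rw [hcard]) (s := ⟨π a, Subgroup.mem_map_of_mem π ha⟩)
        (x := ⟨π x, Subgroup.mem_map_of_mem π hx⟩) (by rw [Subgroup.orderOf_mk]; exact hoa)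
        (Subtype.ext (hsq x hx)) ?_ (Subtype.ext ?_)
      · intro hmemz
        obtain ⟨k, hk⟩ := Subgroup.mem_zpowers_iff.mp hmemz
        have hk' : π a ^ k = π x := congrArg Subtype.val hk
        rcases Int.emod_two_eq_zero_or_one k with h | h <;>
          rw [← zpow_mod_orderOf, hoa] at hk' <;> simp only [Nat.cast_ofNat, h, zpow_zero, zpow_one] at hk'
        · exact hxZ (hker.mp hk'.symm)
        · exact haxZ (hker.mp (by rw [map_mul, ← hk']; exact hsq a ha))
      · show π x * π a * (π x)⁻¹ = (π a)⁻¹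
        rw [hcomm x hx a ha, mul_inv_cancel_right, inv_eq_of_mul_eq_one_left (hsq a ha)]
    · have hK : IsKleinFour (T : Subgroup (G ⧸ Z)) := by
        have hc : Nat.card (T : Subgroup (G ⧸ Z)) = 4 := by rw [hTc]; exact hcard
        refine ⟨hc, Nat.dvd_antisymm (Monoid.exponent_dvd_of_forall_pow_eq_one fun ⟨p, hp⟩ => ?_) ?_⟩
        · obtain ⟨s, hs, rfl⟩ := hTc ▸ hp
          exact Subtype.ext (by show π s ^ 2 = 1; rw [pow_two]; exact hsq s hs)
        · refine dvd_trans ?_ (Monoid.order_dvd_exponent (⟨π a, hTc ▸ Subgroup.mem_map_of_mem π ha⟩ : (T : Subgroup (G ⧸ Z))))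
          rw [Subgroup.orderOf_mk, hoa]
      rcases CfsgLib.Invol.klein_complement_or_one_class T hK with ⟨N, hN, hNc⟩ | h
      · exfalso
        have h4 : Nat.card (T : Subgroup (G ⧸ Z)) = 4 := hK.card_four
        rcases hN.eq_bot_or_eq_top with e | e
        · have hc := hNc.card_mul_card
          rw [e, Subgroup.card_bot, one_mul] at hc
          have hT' : (T : Subgroup (G ⧸ Z)) = ⊤ := Subgroup.eq_top_of_card_eq _ hc
          refine quotient_not_comm hsimp hperf S ⟨a, ha, x, hx, hax⟩ fun p q => ?_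
          obtain ⟨s, hs, rfl⟩ := hTc ▸ (hT' ▸ Subgroup.mem_top p)
          obtain ⟨t, ht, rfl⟩ := hTc ▸ (hT' ▸ Subgroup.mem_top q)
          exact hcomm s hs t ht
        · have hc := hNc.card_mul_card
          rw [e, Subgroup.card_top, h4] at hc
          have : 0 < Nat.card (G ⧸ Z) := Nat.card_pos
          omega
      · exact h
  · -- dihedral of order at least eight
    have hcA : ∀ s ∈ (S : Subgroup G), s ∉ A → ∀ b ∈ A, s * b = b * s → b ∈ Z := by
      intro s hs hsA b hb e
      by_contra hbZ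
      exact hsA (hAmax b hb hbZ s hs e)
    obtain ⟨hcyc, -, hdih⟩ := rotation_cyclic hsimp S A hAS (fun u hu v hv => hAab u hu v hv) hidx hout hcA
      ⟨a₀, ha₀, fun h => ha₀2 (pow_mem h 2)⟩
    obtain ⟨k, hk⟩ := ((S.isPGroup'.to_le hAS).map π).exists_card_eq
    have hdvd : orderOf (π a₀) ∣ 2 ^ k := hk ▸ Subgroup.orderOf_dvd_natCard _ (Subgroup.mem_map_of_mem π ha₀)
    have hk2 : 2 ≤ k := by
      by_contra hlt
      refine ha₀2 (hker.mp ?_)
      rw [map_pow]
      exact orderOf_dvd_iff_pow_eq_one.mp (hdvd.trans (by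
        have : k ≤ 1 := by omega
        simpa using pow_dvd_pow 2 this))
    obtain ⟨⟨q, hqA⟩, hq⟩ := exists_prime_orderOf_dvd_card' (G := A.map π) 2
      (hk ▸ dvd_pow_self 2 (by omega))
    obtain ⟨a, haA, rfl⟩ := hqA
    replace hq : orderOf (π a) = 2 := by
      rw [← hq, ← Subgroup.orderOf_coe]
    have haZ : a ∉ Z := fun h => by rw [hker.mpr h, orderOf_one] at hq; omega
    have ha2 : a * a ∈ Z := hker.mp (by rw [map_mul, ← pow_two, ← hq, pow_orderOf_eq_one])
    have hinf : (S : Subgroup G) ⊓ Subgroup.centralizer ({a} : Set G) = A :=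
      le_antisymm (fun s hs => hAmax a haA haZ s hs.1 (Subgroup.mem_centralizer_singleton_iff.mp hs.2))
        (fun s hs => ⟨hAS hs, Subgroup.mem_centralizer_singleton_iff.mpr (hAab s hs a haA).eq⟩)
    obtain ⟨x, hx, hxA⟩ : ∃ x ∈ (S : Subgroup G), x ∉ A := by
      by_contra hcon
      push Not at hcon
      rw [le_antisymm hAS hcon, Subgroup.relIndex_self] at hidx
      omega
    refine ⟨a, x, Nat.card (A.map π), hAS haA, hx, ?_, haZ, fun h => hxA (hSZ ⟨hx, h⟩),
      fun h => hxA ?_, ha2, fun h => hxA (hAmax a haA haZ x hx h.symm), by rw [hinf]; exact hidx,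
      by rw [hinf]; exact hcyc, ?_, hdih, ?_⟩
    · rw [hk]; exact (by norm_num : 2 ≤ 2 ^ 1).trans (Nat.pow_le_pow_right (by norm_num) (by omega))
    · have := mul_mem (inv_mem haA) (hSZ ⟨mul_mem (hAS haA) hx, h⟩)
      rwa [inv_mul_cancel_left] at this
    · intro s hs hsa
      have hsA : s ∉ A := fun h => hsa (hAab s h a haA)
      exact ⟨by rw [← pow_two]; exact (hout s hs hsA).1,
        fun b hb hba => (hout s hs hsA).2 b (hAmax a haA haZ b hb hba)⟩
    · intro p q hp hq'
      obtain ⟨e⟩ := hdih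
      obtain ⟨g, hg⟩ := Cfsg.Agent.S0107.result T k hk2
        ⟨(MulEquiv.subgroupCongr hTc).trans (hk ▸ e)⟩
        (CfsgLib.CyclicNorm.pResidual_eq_top (no_index_two_quotient hsimp hperf S hnab)) p q hp hq'
      exact isConj_iff.mpr ⟨g, hg⟩

theorem exists_psl_of_nonabelian
    (hnab : ∃ x ∈ (S : Subgroup G), ∃ y ∈ (S : Subgroup G), ¬ Commute x y) :
    ∃ (F : Type) (_ : Field F) (_ : Fintype F), Odd (Fintype.card F) ∧ 3 < Fintype.card F ∧
      Nonempty ((G ⧸ Subgroup.center G) ≃* Matrix.ProjectiveSpecialLinearGroup (Fin 2) F) := by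
  have hZ := sylow_center_le hsimp hperf hsub S hnab
  obtain ⟨a, x, n, h⟩ := exists_shape hsimp hperf hsub S hZ hnab
  obtain ⟨F, iF, iF', hodd, ⟨e⟩⟩ := psl_of_shape hsimp hperf hsub S hZ h
  refine ⟨F, iF, iF', hodd, ?_, ⟨e⟩⟩
  by_contra hlt
  have h2 : 2 ≤ Fintype.card F := Fintype.one_lt_card
  have h3 : Fintype.card F = 3 := by
    obtain ⟨j, hj⟩ := hodd
    omega
  have hc := CfsgLib.SL2.card_PSL (F := F)
  rw [← Nat.card_congr e.toEquiv, Nat.card_eq_fintype_card (α := F), h3] at hc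
  norm_num at hc
  have hsol := Cfsg.Agent.S0144.result (G := G ⧸ Subgroup.center G) 2 3 2 1 Nat.prime_two Nat.prime_three (by omega)
  haveI := hsimp
  exact quotient_not_comm hsimp hperf S hnab fun p q => IsSimpleGroup.comm_iff_isSolvable.mpr hsol p q

end CfsgLib.MinNonCA
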