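import Cfsg.Agent.Lib.MinNonCA.TI

/-!
A quasisimple normal subgroup extended by an element of prime order with nonabelian centraliser:
the intersections of conjugates of that centraliser (S4369, reduction).
-/

set_option autoImplicit false
set_option linter.style.haveILetI false
set_option linter.unusedSectionVars false

namespace CfsgLib.MinNonCA

variable {G : Type*} [Group G] [Finite G]

/-- A quasisimple proper normal subgroup with central centraliser of a minimal non-CA group. -/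
structure NCtx (N : Subgroup G) (p : ℕ) : Prop where
  normal : N.Normal
  ne_top : N ≠ ⊤
  sub : ∀ H : Subgroup G, H ≠ ⊤ → ∀ x : H, x ∉ Subgroup.center H →
    IsMulCommutative (Subgroup.centralizer ({x} : Set H))
  ns : ¬ Group.IsSolvable N
  nsG : ¬ Group.IsSolvable G
  perf : commutator N = ⊤
  simp : IsSimpleGroup (N ⧸ Subgroup.center N)
  cen : Subgroup.centralizer (N : Set G) ≤ Subgroup.center G
  prime : p.Prime

/-- An element of prime order modulo the centre, generating `G` over `N`, with nonabelian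
centraliser in `N`. -/
structure Outer (N : Subgroup G) (p : ℕ) (x : G) : Prop where
  top : N ⊔ Subgroup.zpowers x = ⊤
  xp : x ^ p ∈ Subgroup.center G
  nc : x ∉ Subgroup.center G
  nab : ∃ a ∈ N, ∃ b ∈ N, Commute a x ∧ Commute b x ∧ ¬ Commute a b

variable {N : Subgroup G} {p : ℕ} {x : G}

namespace NCtx

theorem mem_center_iff (c : NCtx N p) {z : N} :
    z ∈ Subgroup.center N ↔ (z : G) ∈ Subgroup.center G :=
  ⟨fun hz => c.cen fun m hm => congrArg Subtype.val (Subgroup.mem_center_iff.1 hz ⟨m, hm⟩),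
    fun hz => Subgroup.mem_center_iff.2 fun m => Subtype.ext (Subgroup.mem_center_iff.1 hz m)⟩

/-- `N` is a CA-group. -/
theorem comm_of_cent (c : NCtx N p) {y u v : G} (hy : y ∈ N) (hyZ : y ∉ Subgroup.center G)
    (hu : u ∈ N) (hv : v ∈ N) (huy : Commute u y) (hvy : Commute v y) : Commute u v := by
  by_contra huv
  exact hyZ (c.mem_center_iff.1 (isCA_of_ne_top c.sub c.ne_top (y := ⟨y, hy⟩) (a := ⟨u, hu⟩)
    (b := ⟨v, hv⟩) (Subtype.ext huy.eq) (Subtype.ext hvy.eq) fun e => huv (congrArg Subtype.val e.eq)))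

/-- Commuting noncentral elements of `N` have the same centraliser in `N`. -/
theorem cent_congr (c : NCtx N p) {a b u : G} (ha : a ∈ N) (haZ : a ∉ Subgroup.center G)
    (hb : b ∈ N) (hbZ : b ∉ Subgroup.center G) (hab : Commute a b) (hu : u ∈ N) :
    Commute u a ↔ Commute u b :=
  ⟨fun h => c.comm_of_cent ha haZ hu hb h hab.symm, fun h => c.comm_of_cent hb hbZ hu ha h hab⟩

theorem mem_normalizer_cent (c : NCtx N p) {y a : G} (ha : a ∈ N) (haZ : a ∉ Subgroup.center G)
    (h : Commute (y * a * y⁻¹) a) :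
    y ∈ Subgroup.normalizer ((N ⊓ Subgroup.centralizer ({a} : Set G) : Subgroup G) : Set G) := by
  haveI := c.normal
  refine Subgroup.mem_normalizer_iff.2 fun u => ?_
  have hya : y * a * y⁻¹ ∈ N := c.normal.conj_mem a ha y
  have hyaZ : y * a * y⁻¹ ∉ Subgroup.center G := fun e => haZ (by
    have := Subgroup.Normal.conj_mem (inferInstance : (Subgroup.center G).Normal) _ e y⁻¹
    simpa [mul_assoc] using this)
  simp only [Subgroup.mem_inf, Subgroup.mem_centralizer_singleton_iff]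
  constructor
  · rintro ⟨hu, hua⟩
    exact ⟨c.normal.conj_mem u hu y, ((c.cent_congr hya hyaZ ha haZ h (c.normal.conj_mem u hu y)).1
      (Commute.conj (show Commute u a from hua) y)).eq⟩
  · rintro ⟨hu, hua⟩
    have hu' : u ∈ N := by
      have := c.normal.conj_mem _ hu y⁻¹
      simpa [mul_assoc] using this
    refine ⟨hu', ?_⟩
    have h1 := ((c.cent_congr hya hyaZ ha haZ h hu).2 hua).conj y⁻¹
    simpa [mul_assoc, Commute, SemiconjBy] using h1.eq

theorem normalizer_ne_top (c : NCtx N p) {X : Subgroup G} (hX : Group.IsSolvable X)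
    {x g h : G} (hw : Wit x g h) (hXZ : ∃ a ∈ X, a ∉ Subgroup.center G) :
    Subgroup.normalizer (X : Set G) ≠ ⊤ := fun e => by
  obtain ⟨a, ha, haZ⟩ := hXZ
  exact haZ (radical_le_center c.sub c.nsG hw
    (CfsgLib.Layer.le_solvableRadical (Subgroup.normalizer_eq_top_iff.1 e) hX ha))

end NCtx

variable (c : NCtx N p) (o : Outer N p x)
include c o

theorem Outer.wit : ∃ g h : G, Wit x g h := by
  obtain ⟨a, -, b, -, hax, hbx, hab⟩ := o.nab
  exact ⟨a, b, o.nc, hax, hbx, hab⟩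

/-- The normaliser of a noncentral subgroup of the centraliser of `x`. -/
theorem Outer.normalizer_le {X : Subgroup G} (hX : X ≤ Subgroup.centralizer ({x} : Set G))
    (hXZ : ∃ a ∈ X, a ∉ Subgroup.center G) {u v : G} (hu : u ∈ Subgroup.normalizer (X : Set G))
    (hv : v ∈ Subgroup.normalizer (X : Set G)) (hux : Commute u x) (hvx : Commute v x)
    (huv : ¬ Commute u v) : ∀ k ∈ Subgroup.normalizer (X : Set G), Commute k x := by
  obtain ⟨g, h, hw⟩ := o.wit c
  refine central_of_pair c.sub ?_ (Subgroup.centralizer_le_normalizer _ fun t ht => ?_) hu hv hux hvx huv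
  · intro e
    haveI : X.Normal := Subgroup.normalizer_eq_top_iff.1 e
    exact c.normalizer_ne_top (isSolvable_of_le_cent c.sub c.nsG hw hX) hw hXZ e
  · exact (Subgroup.mem_centralizer_singleton_iff.1 (hX ht))

theorem Outer.exists_eq_mul (k : G) : ∃ m ∈ N, ∃ i : ℤ, k = m * x ^ i := by
  haveI := c.normal
  have hk : k ∈ ((N ⊔ Subgroup.zpowers x : Subgroup G) : Set G) := by
    rw [o.top]; exact Subgroup.mem_top k
  rw [Subgroup.normal_mul] at hk
  obtain ⟨m, hm, y, hy, rfl⟩ := hk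
  obtain ⟨i, rfl⟩ := Subgroup.mem_zpowers_iff.1 hy
  exact ⟨m, hm, i, rfl⟩

/-- Centralisers in `N` of noncentral elements of `C_N(x)` lie in it. -/
theorem Outer.cent_le {a b : G} (ha : a ∈ N) (hax : Commute a x) (haZ : a ∉ Subgroup.center G)
    (hb : b ∈ N) (hba : Commute b a) : Commute b x := by
  by_contra hbx
  obtain ⟨g, h, hw⟩ := o.wit c
  haveI := c.normal
  set B := N ⊓ Subgroup.centralizer ({a} : Set G) with hB
  have haB : a ∈ B := ⟨ha, Subgroup.mem_centralizer_singleton_iff.2 rfl⟩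
  have hBab : ∀ u ∈ B, ∀ v ∈ B, Commute u v := fun u hu v hv => c.comm_of_cent ha haZ hu.1 hv.1
    (Subgroup.mem_centralizer_singleton_iff.1 hu.2) (Subgroup.mem_centralizer_singleton_iff.1 hv.2)
  have hBs : Group.IsSolvable B := Group.isSolvable_of_comm fun u v =>
    Subtype.ext (hBab u u.2 v v.2).eq
  set X := Subgroup.normalizer (B : Set G) with hX
  have hxX : x ∈ X := c.mem_normalizer_cent ha haZ (by
    rw [mul_inv_eq_iff_eq_mul.2 hax.symm.eq])
  have hcent := central_of_pair c.sub (c.normalizer_ne_top hBs hw ⟨a, haB, haZ⟩)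
    (Subgroup.le_normalizer haB) hxX (Subgroup.le_normalizer
      (⟨hb, Subgroup.mem_centralizer_singleton_iff.2 hba.eq⟩ : b ∈ B)) hax.symm hba
    (fun e => hbx e.symm)
  refine no_ti c.ns c.simp c.cen (A := B) inf_le_left ?_ ⟨a, haB, haZ⟩
    (fun z hz hzZ => ⟨hz, Subgroup.mem_centralizer_singleton_iff.2 (Subgroup.mem_center_iff.1 hzZ a).symm⟩) ?_
  · intro e
    exact haZ (c.cen fun m hm => ((hBab m (e.symm ▸ hm) a haB)).eq)
  · intro n hn hnB d hd hnd
    by_contra hdZ
    refine hnB ⟨hn, Subgroup.mem_centralizer_singleton_iff.2 (hcent n ?_).eq⟩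
    have hda : Commute d a := Subgroup.mem_centralizer_singleton_iff.1 hd.2
    have h1 : n ∈ Subgroup.normalizer ((N ⊓ Subgroup.centralizer ({d} : Set G) : Subgroup G) : Set G) :=
      c.mem_normalizer_cent hd.1 hdZ (hBab _ hnd _ hd)
    have h2 : N ⊓ Subgroup.centralizer ({d} : Set G) = B := by
      refine le_antisymm ?_ ?_ <;> rintro u ⟨hu, hud⟩ <;>
        refine ⟨hu, Subgroup.mem_centralizer_singleton_iff.2 ?_⟩
      · exact ((c.cent_congr hd.1 hdZ ha haZ hda hu).1
          (Subgroup.mem_centralizer_singleton_iff.1 hud)).eq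
      · exact ((c.cent_congr hd.1 hdZ ha haZ hda hu).2
          (Subgroup.mem_centralizer_singleton_iff.1 hud)).eq
    rwa [h2] at h1

/-- The centraliser in `G` of a noncentral element of `C_N(x)` is abelian. -/
theorem Outer.cent_comm {a u v : G} (ha : a ∈ N) (hax : Commute a x) (haZ : a ∉ Subgroup.center G)
    (hu : Commute u a) (hv : Commute v a) : Commute u v ∧ Commute u x := by
  have key : ∀ {w : G}, Commute w a → ∃ m ∈ N, ∃ i : ℤ, w = m * x ^ i ∧ Commute m a ∧ Commute m x := by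
    intro w hw
    obtain ⟨m, hm, i, rfl⟩ := o.exists_eq_mul c w
    have hma : Commute m a := by
      have h1 := hw.mul_left ((hax.symm.zpow_left i).inv_left)
      rwa [mul_inv_cancel_right] at h1
    exact ⟨m, hm, i, rfl, hma, o.cent_le c ha hax haZ hm hma⟩
  obtain ⟨m, hm, i, rfl, hma, hmx⟩ := key hu
  obtain ⟨m', hm', j, rfl, hma', hmx'⟩ := key hv
  refine ⟨?_, hmx.mul_left ((Commute.refl x).zpow_left i)⟩
  refine Commute.mul_left ?_ ?_
  · exact (c.comm_of_cent ha haZ hm hm' hma hma').mul_right (hmx.zpow_right j)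
  · exact ((hmx'.zpow_right i).symm).mul_right ((Commute.refl x).zpow_zpow i j)

/-- `C_N(x)` is self-normalising in `N`. -/
theorem Outer.self_normalizing {n : G} (hn : n ∈ N)
    (h : n ∈ Subgroup.normalizer ((N ⊓ Subgroup.centralizer ({x} : Set G) : Subgroup G) : Set G)) :
    Commute n x := by
  obtain ⟨a, ha, b, hb, hax, hbx, hab⟩ := o.nab
  have hmem : ∀ {u : G}, u ∈ N → Commute u x →
      u ∈ N ⊓ Subgroup.centralizer ({x} : Set G) := fun hu hux =>
    ⟨hu, Subgroup.mem_centralizer_singleton_iff.2 hux.eq⟩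
  refine o.normalizer_le c (X := N ⊓ Subgroup.centralizer ({x} : Set G)) inf_le_right
    ⟨a, hmem ha hax, fun e => hab (Subgroup.mem_center_iff.1 e b).symm⟩
    (Subgroup.le_normalizer (hmem ha hax)) (Subgroup.le_normalizer (hmem hb hbx)) hax hbx hab n h

/-- A conjugate of `x` in `x Z` comes from the centraliser. -/
theorem Outer.comm_of_conj_central {n : G} (hn : n ∈ N)
    (h : n * x * n⁻¹ * x⁻¹ ∈ Subgroup.center G) : Commute n x := by
  refine o.self_normalizing c hn ?_
  obtain ⟨z, hz, hze⟩ : ∃ z ∈ Subgroup.center G, n * x * n⁻¹ = z * x := ⟨_, h, by group⟩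
  refine Subgroup.mem_normalizer_iff.2 fun u => ?_
  simp only [Subgroup.mem_inf, Subgroup.mem_centralizer_singleton_iff]
  have key : ∀ w : G, Commute w (z * x) ↔ Commute w x := fun w =>
    ⟨fun h1 => by
      have h2 := ((show Commute w z from Subgroup.mem_center_iff.1 hz w).inv_right).mul_right h1
      rwa [inv_mul_cancel_left] at h2,
      fun h1 => Commute.mul_right (Subgroup.mem_center_iff.1 hz w) h1⟩
  have hconj : Commute u x ↔ Commute (n * u * n⁻¹) (n * x * n⁻¹) :=
    ⟨fun h1 => h1.conj n, fun h1 => by simpa [mul_assoc, Commute, SemiconjBy] using (h1.conj n⁻¹).eq⟩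
  constructor
  · rintro ⟨hu, hux⟩
    exact ⟨c.normal.conj_mem u hu n, ((key _).1 (hze ▸ hconj.1 hux)).eq⟩
  · rintro ⟨hu, hux⟩
    refine ⟨?_, (hconj.2 (by rw [hze]; exact (key _).2 hux)).eq⟩
    have := c.normal.conj_mem _ hu n⁻¹
    simpa [mul_assoc] using this

/-- Conjugates of `x` by elements of `N`. -/
theorem Outer.conj {n : G} (hn : n ∈ N) : Outer N p (n * x * n⁻¹) := by
  haveI := c.normal
  refine ⟨?_, ?_, ?_, ?_⟩
  · rw [eq_top_iff, ← o.top]
    refine sup_le le_sup_left (Subgroup.zpowers_le.2 ?_)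
    have := mul_mem (mul_mem (le_sup_left (α := Subgroup G) (b := Subgroup.zpowers (n * x * n⁻¹))
      (inv_mem hn)) (le_sup_right (α := Subgroup G) (a := N) (Subgroup.mem_zpowers (n * x * n⁻¹))))
      (le_sup_left (α := Subgroup G) (b := Subgroup.zpowers (n * x * n⁻¹)) hn)
    simpa [mul_assoc] using this
  · rw [conj_pow]
    exact Subgroup.Normal.conj_mem inferInstance _ o.xp n
  · intro e
    have := Subgroup.Normal.conj_mem (inferInstance : (Subgroup.center G).Normal) _ e n⁻¹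
    exact o.nc (by simpa [mul_assoc] using this)
  · obtain ⟨a, ha, b, hb, hax, hbx, hab⟩ := o.nab
    refine ⟨n * a * n⁻¹, c.normal.conj_mem a ha n, n * b * n⁻¹, c.normal.conj_mem b hb n,
      hax.conj n, hbx.conj n, fun e => hab ?_⟩
    simpa [mul_assoc, Commute, SemiconjBy] using (e.conj n⁻¹).eq

omit c o in
/-- Two conjugates of the centraliser of `x` meet above the centre in `a`. -/
structure Meet (N : Subgroup G) (x n a : G) : Prop where
  hn : n ∈ N
  out : ¬ Commute n x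
  ha : a ∈ N
  haZ : a ∉ Subgroup.center G
  hax : Commute a x
  hax' : Commute a (n * x * n⁻¹)

/-- The intersection is the centraliser of `a`. -/
theorem Outer.meet_iff {n a : G} (m : Meet N x n a) {u : G} (hu : u ∈ N) :
    (Commute u x ∧ Commute u (n * x * n⁻¹)) ↔ Commute u a := by
  refine ⟨fun ⟨hux, hux'⟩ => ?_, fun hua => ⟨o.cent_le c m.ha m.hax m.haZ hu hua,
    (o.conj c m.hn).cent_le c m.ha m.hax' m.haZ hu hua⟩⟩
  by_contra hua
  set X := N ⊓ Subgroup.centralizer ({x} : Set G) ⊓ Subgroup.centralizer ({n * x * n⁻¹} : Set G) with hX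
  have hmem : ∀ {w : G}, w ∈ N → Commute w x → Commute w (n * x * n⁻¹) → w ∈ X := fun h1 h2 h3 =>
    ⟨⟨h1, Subgroup.mem_centralizer_singleton_iff.2 h2.eq⟩,
      Subgroup.mem_centralizer_singleton_iff.2 h3.eq⟩
  have haX := hmem m.ha m.hax m.hax'
  have hxx := o.normalizer_le c (X := X) (inf_le_left.trans inf_le_right) ⟨a, haX, m.haZ⟩
    (Subgroup.le_normalizer (hmem hu hux hux')) (Subgroup.le_normalizer haX) hux m.hax hua
    (n * x * n⁻¹) (Subgroup.centralizer_le_normalizer _ fun t ht =>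
      Subgroup.mem_centralizer_singleton_iff.1 ht.2)
  refine m.out (o.comm_of_conj_central c m.hn ?_)
  by_contra hbZ
  have hbN : n * x * n⁻¹ * x⁻¹ ∈ N := by
    have := mul_mem m.hn (c.normal.conj_mem _ (inv_mem m.hn) x)
    simpa [mul_assoc] using this
  exact hua (c.comm_of_cent hbN hbZ hu m.ha (hux'.mul_right hux.inv_right)
    (m.hax'.mul_right m.hax.inv_right))

/-- The quotient `x^n x⁻¹`. -/
theorem Outer.meet_elem {n a : G} (m : Meet N x n a) :
    n * x * n⁻¹ * x⁻¹ ∈ N ∧ Commute (n * x * n⁻¹ * x⁻¹) a ∧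
      (n * x * n⁻¹ * x⁻¹) ∉ Subgroup.center G ∧ (n * x * n⁻¹ * x⁻¹) ^ p = 1 := by
  have hbN : n * x * n⁻¹ * x⁻¹ ∈ N := by
    have := mul_mem m.hn (c.normal.conj_mem _ (inv_mem m.hn) x)
    simpa [mul_assoc] using this
  refine ⟨hbN, (m.hax'.symm.mul_left m.hax.symm.inv_left), fun e => m.out (o.comm_of_conj_central c m.hn e), ?_⟩
  have hc : Commute (n * x * n⁻¹) x := (o.cent_comm c m.ha m.hax m.haZ m.hax'.symm m.hax.symm).1
  rw [hc.inv_right.mul_pow, conj_pow, inv_pow,
    (Subgroup.mem_center_iff.1 o.xp n), mul_inv_cancel_right, mul_inv_cancel]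

omit o in
/-- The `p`-elements of `C_N(a)`. -/
theorem NCtx.exists_pPart (a : G) (ha : a ∈ N) (haZ : a ∉ Subgroup.center G) :
    ∃ T : Subgroup G, IsPGroup p T ∧ ∀ t : G,
      t ∈ T ↔ t ∈ N ∧ Commute t a ∧ ∃ k : ℕ, t ^ p ^ k = 1 := by
  let T : Subgroup G :=
    { carrier := {t | t ∈ N ∧ Commute t a ∧ ∃ k : ℕ, t ^ p ^ k = 1}
      one_mem' := ⟨one_mem N, Commute.one_left a, 0, one_pow _⟩
      mul_mem' := by
        rintro s t ⟨hs, hsa, k, hk⟩ ⟨ht, hta, l, hl⟩
        refine ⟨mul_mem hs ht, hsa.mul_left hta, k + l, ?_⟩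
        rw [(c.comm_of_cent ha haZ hs ht hsa hta).mul_pow, pow_add, pow_mul, hk, one_pow, one_mul,
          mul_comm, pow_mul, hl, one_pow]
      inv_mem' := by
        rintro s ⟨hs, hsa, k, hk⟩
        exact ⟨inv_mem hs, hsa.inv_left, k, by rw [inv_pow, hk, inv_one]⟩ }
  refine ⟨T, fun t => ?_, fun t => Iff.rfl⟩
  obtain ⟨k, hk⟩ := t.2.2.2
  exact ⟨k, Subtype.ext hk⟩

/-- The `p`-part of the intersection is a Sylow subgroup of any `X` in which the intersection is
self-normalising. -/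
theorem Outer.conj_into_pPart {n a : G} (m : Meet N x n a) (X : Subgroup G) (hXN : X ≤ N)
    (hBX : ∀ u ∈ N, Commute u a → u ∈ X)
    (hy : ∀ y ∈ X, Commute (y * (n * x * n⁻¹ * x⁻¹) * y⁻¹) a → Commute y a)
    {R : Subgroup G} (hR : IsPGroup p R) (hRX : R ≤ X) :
    ∃ k ∈ X, ∀ r ∈ R, k * r * k⁻¹ ∈ N ∧ Commute (k * r * k⁻¹) a ∧
      ∃ i : ℕ, (k * r * k⁻¹) ^ p ^ i = 1 := by
  haveI : Fact p.Prime := ⟨c.prime⟩
  obtain ⟨T, hTp, hT⟩ := c.exists_pPart a m.ha m.haZ
  obtain ⟨hbN, hba, hbZ, hbp⟩ := o.meet_elem c m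
  set b := n * x * n⁻¹ * x⁻¹
  have hTX : T ≤ X := fun t ht => hBX t ((hT t).1 ht).1 ((hT t).1 ht).2.1
  obtain ⟨Q, hQ⟩ := (hTp.comap_subtype (K := X)).exists_le_sylow
  have hQT : (Q : Subgroup X) = T.subgroupOf X := by
    refine le_antisymm ?_ hQ
    haveI : Group.IsNilpotent (Q : Subgroup X) := Q.2.isNilpotent
    by_contra hle
    have hlt : (T.subgroupOf X).subgroupOf (Q : Subgroup X) < ⊤ :=
      lt_top_iff_ne_top.2 fun e => hle (Subgroup.subgroupOf_eq_top.1 e)
    obtain ⟨q, hqn, hqT⟩ := SetLike.exists_of_lt (normalizerCondition_of_isNilpotent _ hlt)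
    apply hqT
    rw [Subgroup.mem_subgroupOf, Subgroup.mem_subgroupOf, hT]
    refine ⟨hXN (q : X).2, hy _ (q : X).2 ?_, ?_⟩
    · have hbT : b ∈ T := (hT b).2 ⟨hbN, hba, 1, by rw [pow_one, hbp]⟩
      have hbQ : (⟨b, hTX hbT⟩ : X) ∈ (Q : Subgroup X) := hQ (Subgroup.mem_subgroupOf.2 hbT)
      have h1 : (⟨⟨b, hTX hbT⟩, hbQ⟩ : (Q : Subgroup X)) ∈ (T.subgroupOf X).subgroupOf Q :=
        Subgroup.mem_subgroupOf.2 (Subgroup.mem_subgroupOf.2 hbT)
      exact ((hT _).1 (Subgroup.mem_subgroupOf.1 (Subgroup.mem_subgroupOf.1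
        ((Subgroup.mem_normalizer_iff.1 hqn _).1 h1)))).2.1
    · obtain ⟨i, hi⟩ := Q.2 q
      exact ⟨i, congrArg (fun w : (Q : Subgroup X) => ((w : X) : G)) hi⟩
  obtain ⟨Q', hQ'⟩ := (hR.comap_subtype (K := X)).exists_le_sylow
  obtain ⟨k, hk⟩ := MulAction.exists_smul_eq X Q' Q
  refine ⟨k, k.2, fun r hr => (hT _).1 ?_⟩
  have h1 : (MulAut.conj k) ⟨r, hRX hr⟩ ∈ ((k • Q' : Sylow p X) : Subgroup X) := by
    rw [Sylow.coe_subgroup_smul]
    exact Subgroup.smul_mem_pointwise_smul _ _ _ (hQ' (Subgroup.mem_subgroupOf.2 hr))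
  rw [hk, hQT, Subgroup.mem_subgroupOf] at h1
  exact h1

/-- The intersection is self-normalising in `C_N(x)`. -/
theorem Outer.meet_self_normalizing {n a : G} (m : Meet N x n a) {y : G} (hy : y ∈ N)
    (hyx : Commute y x) (hya : Commute (y * a * y⁻¹) a) : Commute y a := by
  by_contra hne
  haveI := c.normal
  obtain ⟨hbN, hba, hbZ, hbp⟩ := o.meet_elem c m
  set b := n * x * n⁻¹ * x⁻¹ with hb
  set B := N ⊓ Subgroup.centralizer ({a} : Set G)
  have haB : a ∈ B := ⟨m.ha, Subgroup.mem_centralizer_singleton_iff.2 rfl⟩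
  have hnorm := o.normalizer_le c (X := B) (fun u hu => Subgroup.mem_centralizer_singleton_iff.2
    (o.cent_le c m.ha m.hax m.haZ hu.1 (Subgroup.mem_centralizer_singleton_iff.1 hu.2)).eq)
    ⟨a, haB, m.haZ⟩ (c.mem_normalizer_cent m.ha m.haZ hya) (Subgroup.le_normalizer haB) hyx m.hax hne
  -- the intersection is self-normalising in the conjugate
  have hself : ∀ u ∈ N ⊓ Subgroup.centralizer ({n * x * n⁻¹} : Set G),
      Commute (u * b * u⁻¹) a → Commute u a := by
    rintro u ⟨hu, hux'⟩ hub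
    refine (o.meet_iff c m hu).1 ⟨hnorm u ?_, Subgroup.mem_centralizer_singleton_iff.1 hux'⟩
    have hubN : u * b * u⁻¹ ∈ N := c.normal.conj_mem b hbN u
    have hubZ : u * b * u⁻¹ ∉ Subgroup.center G := fun e => hbZ (by
      have := Subgroup.Normal.conj_mem (inferInstance : (Subgroup.center G).Normal) _ e u⁻¹
      simpa [mul_assoc] using this)
    have h1 := c.mem_normalizer_cent (y := u) hbN hbZ ((c.comm_of_cent m.ha m.haZ hubN hbN hub hba))
    have h2 : N ⊓ Subgroup.centralizer ({b} : Set G) = B := by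
      refine le_antisymm ?_ ?_ <;> rintro w ⟨hw, hwb⟩ <;>
        refine ⟨hw, Subgroup.mem_centralizer_singleton_iff.2 ?_⟩
      · exact ((c.cent_congr hbN hbZ m.ha m.haZ hba hw).1
          (Subgroup.mem_centralizer_singleton_iff.1 hwb)).eq
      · exact ((c.cent_congr hbN hbZ m.ha m.haZ hba hw).2
          (Subgroup.mem_centralizer_singleton_iff.1 hwb)).eq
    rwa [h2] at h1
  obtain ⟨T, hTp, hT⟩ := c.exists_pPart a m.ha m.haZ
  -- the conjugate of the `p`-part
  set R := T.map (MulAut.conj n).toMonoidHom with hR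
  have hRX : R ≤ N ⊓ Subgroup.centralizer ({n * x * n⁻¹} : Set G) := by
    rintro _ ⟨t, ht, rfl⟩
    refine ⟨c.normal.conj_mem t ((hT t).1 ht).1 n, Subgroup.mem_centralizer_singleton_iff.2 ?_⟩
    exact ((o.cent_le c m.ha m.hax m.haZ ((hT t).1 ht).1 ((hT t).1 ht).2.1).conj n).eq
  obtain ⟨k, hk, hkT⟩ := o.conj_into_pPart c m (N ⊓ Subgroup.centralizer ({n * x * n⁻¹} : Set G))
    inf_le_left (fun u hu hua => ⟨hu, Subgroup.mem_centralizer_singleton_iff.2
      ((o.meet_iff c m hu).2 hua).2.eq⟩) hself (hTp.map _) hRX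
  obtain ⟨hk1, hk2⟩ := hk
  set w := k * n with hw
  have hbT : b ∈ T := (hT b).2 ⟨hbN, hba, 1, by rw [pow_one, hbp]⟩
  have hconj : ∀ t ∈ T, Commute (w * t * w⁻¹) a := fun t ht => by
    have := (hkT _ ⟨t, ht, rfl⟩).2.1
    simpa [hw, mul_assoc] using this
  have hget : ∀ u : G, u ∈ N → Commute u x → u * b * u⁻¹ ∈ T →
      w * u * w⁻¹ ∈ N ∧ Commute (w * u * w⁻¹) a := by
    intro u hu hux hubT
    have hwN : w * u * w⁻¹ ∈ N := c.normal.conj_mem u hu w
    have hwx : Commute (w * u * w⁻¹) (n * x * n⁻¹) := by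
      have h1 := (hux.conj n).conj k
      have h2 : k * (n * x * n⁻¹) * k⁻¹ = n * x * n⁻¹ := by
        rw [Subgroup.mem_centralizer_singleton_iff.1 hk2, mul_inv_cancel_right]
      rw [h2] at h1
      simpa [hw, mul_assoc] using h1
    refine ⟨hwN, hself _ ⟨hwN, Subgroup.mem_centralizer_singleton_iff.2 hwx.eq⟩ ?_⟩
    have hwbN : w * b * w⁻¹ ∈ N := c.normal.conj_mem b hbN w
    have hwbZ : w * b * w⁻¹ ∉ Subgroup.center G := fun e => hbZ (by
      have := Subgroup.Normal.conj_mem (inferInstance : (Subgroup.center G).Normal) _ e w⁻¹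
      simpa [mul_assoc] using this)
    have h3 : Commute ((w * u * w⁻¹) * (w * b * w⁻¹) * (w * u * w⁻¹)⁻¹) a := by
      have := hconj _ hubT
      simpa [mul_assoc] using this
    -- transfer from the conjugate of `b` to `b`
    have h4 := (c.cent_congr m.ha m.haZ hbN hbZ hba.symm
      (c.normal.conj_mem _ hwbN (w * u * w⁻¹))).1 h3
    have h5 := c.mem_normalizer_cent (y := w * u * w⁻¹) hwbN hwbZ
      (c.comm_of_cent m.ha m.haZ (c.normal.conj_mem _ hwbN _) hwbN h3 (hconj b hbT))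
    have h6 : b ∈ N ⊓ Subgroup.centralizer ({w * b * w⁻¹} : Set G) :=
      ⟨hbN, Subgroup.mem_centralizer_singleton_iff.2
        (c.comm_of_cent m.ha m.haZ hbN hwbN hba (hconj b hbT)).eq⟩
    have h7 := ((Subgroup.mem_normalizer_iff.1 h5 b).1 h6)
    exact (c.cent_congr hwbN hwbZ m.ha m.haZ (hconj b hbT) h7.1).1
      (Subgroup.mem_centralizer_singleton_iff.1 h7.2)
  have hyb : y * b * y⁻¹ ∈ T := by
    refine (hT _).2 ⟨c.normal.conj_mem b hbN y, ?_, 1, by rw [conj_pow, pow_one, hbp, mul_one, mul_inv_cancel]⟩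
    exact Subgroup.mem_centralizer_singleton_iff.1 ((Subgroup.mem_normalizer_iff.1
      (c.mem_normalizer_cent m.ha m.haZ hya) b).1 ⟨hbN, Subgroup.mem_centralizer_singleton_iff.2 hba.eq⟩).2
  have hab : a * b * a⁻¹ ∈ T := by rwa [mul_inv_eq_iff_eq_mul.2 hba.symm.eq]
  obtain ⟨hy1, hy2⟩ := hget y hy hyx hyb
  obtain ⟨ha1, ha2⟩ := hget a m.ha m.hax hab
  apply hne
  simpa [mul_assoc, Commute, SemiconjBy] using
    ((c.comm_of_cent m.ha m.haZ hy1 ha1 hy2 ha2).conj w⁻¹).eq

end CfsgLib.MinNonCA
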