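import Cfsg.Agent.Lib.MinNonCA.Outer
import Cfsg.Agent.Lib.MinNonCA.NonAbelian
import Cfsg.Agent.Lib.MinNonCA.Multiplier
import Cfsg.Agent.Lib.MinNonCA.FrobThreeA6
import Cfsg.Agent.Lib.MinNonCA.CoverLemmas
import Cfsg.Agent.Lib.Critical.Basic

/-!
A quasisimple proper normal subgroup has no extension by an element of prime order with nonabelian
centraliser in a minimal non-CA group (S4369, reduction).
-/

set_option autoImplicit false
set_option linter.style.haveILetI false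
set_option linter.unusedSectionVars false

namespace CfsgLib.MinNonCA

variable {G : Type*} [Group G] [Finite G] {N : Subgroup G} {p : ℕ} {x : G}

theorem not_mem_center_conj {a : G} (ha : a ∉ Subgroup.center G) (y : G) :
    y * a * y⁻¹ ∉ Subgroup.center G := fun e => ha (by
  have := Subgroup.Normal.conj_mem (inferInstance : (Subgroup.center G).Normal) _ e y⁻¹
  simpa [mul_assoc] using this)

theorem NCtx.conj_congr (c : NCtx N p) {a b y : G} (ha : a ∈ N) (haZ : a ∉ Subgroup.center G)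
    (hb : b ∈ N) (hbZ : b ∉ Subgroup.center G) (hab : Commute a b)
    (h : Commute (y * b * y⁻¹) a) : Commute (y * a * y⁻¹) a := by
  haveI := c.normal
  exact c.comm_of_cent (c.normal.conj_mem b hb y) (not_mem_center_conj hbZ y)
    (c.normal.conj_mem a ha y) ha (hab.conj y) h.symm

variable (c : NCtx N p) (o : Outer N p x)
include c o

/-- Some conjugates of the centraliser of `x` meet above the centre. -/
theorem Outer.exists_meet : ∃ n a : G, Meet N x n a := by
  by_contra hall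
  haveI := c.normal
  obtain ⟨a, ha, b, hb, hax, hbx, hab⟩ := o.nab
  refine no_ti c.ns c.simp c.cen (A := N ⊓ Subgroup.centralizer ({x} : Set G)) inf_le_left ?_
    ⟨a, ⟨ha, Subgroup.mem_centralizer_singleton_iff.2 hax.eq⟩,
      fun e => hab (Subgroup.mem_center_iff.1 e b).symm⟩
    (fun z hz hzZ => ⟨hz, Subgroup.mem_centralizer_singleton_iff.2
      (Subgroup.mem_center_iff.1 hzZ x).symm⟩) ?_
  · intro e
    exact o.nc (c.cen fun k hk => Subgroup.mem_centralizer_singleton_iff.1 (e.symm ▸ hk :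
      k ∈ N ⊓ Subgroup.centralizer ({x} : Set G)).2)
  · intro n hn hnA u hu hnu
    by_contra huZ
    exact hall ⟨n, n * u * n⁻¹, hn,
      fun e => hnA ⟨hn, Subgroup.mem_centralizer_singleton_iff.2 e.eq⟩,
      c.normal.conj_mem u hu.1 n, not_mem_center_conj huZ n,
      Subgroup.mem_centralizer_singleton_iff.1 hnu.2,
      (show Commute u x from Subgroup.mem_centralizer_singleton_iff.1 hu.2).conj n⟩

/-- The intersection is moved in `N`. -/
theorem Outer.exists_moved {n a : G} (m : Meet N x n a) :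
    ∃ y ∈ N, Commute (y * a * y⁻¹) a ∧ ¬ Commute y a := by
  by_contra hall
  push Not at hall
  haveI := c.normal
  obtain ⟨u, hu, v, hv, hux, hvx, huv⟩ := o.nab
  refine no_ti c.ns c.simp c.cen (A := N ⊓ Subgroup.centralizer ({a} : Set G)) inf_le_left ?_
    ⟨a, ⟨m.ha, Subgroup.mem_centralizer_singleton_iff.2 rfl⟩, m.haZ⟩
    (fun z hz hzZ => ⟨hz, Subgroup.mem_centralizer_singleton_iff.2
      (Subgroup.mem_center_iff.1 hzZ a).symm⟩) ?_
  · intro e
    exact huv (c.comm_of_cent m.ha m.haZ hu hv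
      (Subgroup.mem_centralizer_singleton_iff.1 (e.symm ▸ hu : u ∈ N ⊓ Subgroup.centralizer ({a} : Set G)).2)
      (Subgroup.mem_centralizer_singleton_iff.1 (e.symm ▸ hv : v ∈ N ⊓ Subgroup.centralizer ({a} : Set G)).2))
  · intro k hk hkB u hu hku
    by_contra huZ
    exact hkB ⟨hk, Subgroup.mem_centralizer_singleton_iff.2 (hall k hk
      (c.conj_congr m.ha m.haZ hu.1 huZ (Subgroup.mem_centralizer_singleton_iff.1 hu.2 :
        Commute u a).symm (Subgroup.mem_centralizer_singleton_iff.1 hku.2))).eq⟩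

/-- No element moving the intersection fixes a nontrivial `p`-element of it modulo the centre:
then `x` has a conjugate fixed by the normaliser, whose centraliser is TI. -/
theorem Outer.exists_fixed {n a : G} (m : Meet N x n a) :
    ∃ y e : G, y ∈ N ∧ Commute (y * a * y⁻¹) a ∧ ¬ Commute y a ∧ e ∈ N ∧ e ∉ Subgroup.center G ∧
      Commute e a ∧ (∃ k : ℕ, e ^ p ^ k = 1) ∧ y * e * y⁻¹ * e⁻¹ ∈ Subgroup.center G := by
  classical
  haveI : Fact p.Prime := ⟨c.prime⟩
  haveI := c.normal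
  by_contra hno
  obtain ⟨y0, hy0, hy0a, hy0c⟩ := o.exists_moved c m
  obtain ⟨hbN, hba, hbZ, hbp⟩ := o.meet_elem c m
  set b := n * x * n⁻¹ * x⁻¹ with hb
  set B := N ⊓ Subgroup.centralizer ({a} : Set G) with hB
  have memB : ∀ {w : G}, w ∈ B ↔ w ∈ N ∧ Commute w a := fun {w} => by
    simp [hB, Subgroup.mem_inf, Subgroup.mem_centralizer_singleton_iff, Commute, SemiconjBy]
  have hBx : ∀ {w : G}, w ∈ B → Commute w x := fun hw =>
    o.cent_le c m.ha m.hax m.haZ (memB.1 hw).1 (memB.1 hw).2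
  have hBcomm : ∀ u v : B, u * v = v * u := fun u v => Subtype.ext (c.comm_of_cent m.ha m.haZ
    (memB.1 u.2).1 (memB.1 v.2).1 (memB.1 u.2).2 (memB.1 v.2).2).eq
  letI : CommGroup B := { (inferInstance : Group B) with mul_comm := hBcomm }
  set Y := N ⊓ Subgroup.normalizer (B : Set G) with hY
  have hBY : B ≤ Y := fun w hw => ⟨(memB.1 hw).1, Subgroup.le_normalizer hw⟩
  have hYa : ∀ y : Y, Commute ((y : G) * a * (y : G)⁻¹) a := fun y =>
    (memB.1 ((Subgroup.mem_normalizer_iff.1 y.2.2 a).1 (memB.2 ⟨m.ha, Commute.refl a⟩))).2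
  have hYmem : ∀ {w : G}, w ∈ N → Commute (w * a * w⁻¹) a → w ∈ Y := fun hw hwa =>
    ⟨hw, c.mem_normalizer_cent m.ha m.haZ hwa⟩
  set B' := B.subgroupOf Y with hB'
  haveI hB'n : B'.Normal := (Subgroup.normal_subgroupOf_iff_le_normalizer hBY).2 inf_le_right
  -- the index is prime to `p`
  have hidx : ¬ p ∣ Nat.card (Y ⧸ B') := by
    intro hd
    obtain ⟨q, hq⟩ := exists_prime_orderOf_dvd_card' p hd
    obtain ⟨r, rfl⟩ := QuotientGroup.mk_surjective q
    obtain ⟨i, s, hs, -, -, hsi⟩ := CfsgLib.Transfer.exists_pow_coprime_part (p := p) r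
    set y : Y := r ^ s with hy
    have hyB : y ∉ B' := by
      intro e
      have h1 : ((r : Y ⧸ B')) ^ s = 1 := by
        rw [← QuotientGroup.mk_pow]; exact (QuotientGroup.eq_one_iff _).2 e
      exact hs (hq ▸ orderOf_dvd_of_pow_eq_one h1)
    have hyp : (y : G) ^ p ^ i = 1 := by
      rw [← SubgroupClass.coe_pow, ← hsi, pow_orderOf_eq_one]; rfl
    obtain ⟨T, hTp, hT⟩ := c.exists_pPart a m.ha m.haZ
    have hyT : Subgroup.zpowers (y : G) ≤ Subgroup.normalizer (T : Set G) := by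
      rw [Subgroup.zpowers_le]
      refine Subgroup.mem_normalizer_iff.2 fun t => ?_
      rw [hT, hT]
      have h1 := Subgroup.mem_normalizer_iff.1 y.2.2 t
      rw [memB, memB] at h1
      constructor
      · rintro ⟨h2, h3, k, hk⟩
        exact ⟨(h1.1 ⟨h2, h3⟩).1, (h1.1 ⟨h2, h3⟩).2, k, by rw [conj_pow, hk, mul_one, mul_inv_cancel]⟩
      · rintro ⟨h2, h3, k, hk⟩
        refine ⟨(h1.2 ⟨h2, h3⟩).1, (h1.2 ⟨h2, h3⟩).2, k, ?_⟩
        rw [conj_pow] at hk
        exact conj_eq_one_iff.1 hk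
    set π := QuotientGroup.mk' (Subgroup.center G)
    have hPp : IsPGroup p (T ⊔ Subgroup.zpowers (y : G) : Subgroup G) :=
      hTp.to_sup_of_normal_left' (IsPGroup.iff_card.mpr ((Nat.dvd_prime_pow c.prime).1
        (by rw [Nat.card_zpowers]; exact orderOf_dvd_of_pow_eq_one hyp) |>.imp fun _ h => h.2)) hyT
    set Q := (T ⊔ Subgroup.zpowers (y : G) : Subgroup G).map π with hQ
    have hQp : IsPGroup p Q := hPp.map π
    haveI : Group.IsNilpotent Q := hQp.isNilpotent
    set T' := (T.map π).subgroupOf Q with hT'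
    haveI : T'.Normal := by
      refine (Subgroup.normal_subgroupOf_iff_le_normalizer (Subgroup.map_mono le_sup_left)).2 ?_
      refine le_trans (Subgroup.map_mono ?_) (Subgroup.le_normalizer_map π)
      exact sup_le Subgroup.le_normalizer hyT
    have hT'ne : T' ≠ ⊥ := by
      intro e
      have hbT : b ∈ T := (hT b).2 ⟨hbN, hba, 1, by rw [pow_one, hbp]⟩
      have h1 : (⟨π b, Subgroup.mem_map_of_mem π (le_sup_left (α := Subgroup G) hbT)⟩ : Q) ∈ T' :=
        Subgroup.mem_subgroupOf.2 (Subgroup.mem_map_of_mem π hbT)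
      rw [e, Subgroup.mem_bot] at h1
      exact hbZ ((QuotientGroup.eq_one_iff b).1 (congrArg Subtype.val h1))
    obtain ⟨w, hw, hw1⟩ := (Subgroup.bot_or_exists_ne_one _).resolve_left
      (CfsgLib.Critical.inf_center_ne_bot T' hT'ne)
    obtain ⟨e, he, hew⟩ := Subgroup.mem_subgroupOf.1 hw.1
    obtain ⟨he1, he2, he3⟩ := (hT e).1 he
    have hya : ¬ Commute (y : G) a := fun h => hyB (Subgroup.mem_subgroupOf.2 (memB.2 ⟨y.2.1, h⟩))
    refine hno ⟨y, e, y.2.1, hYa y, hya, he1, fun hz => hw1 (Subtype.ext ?_), he2, he3, ?_⟩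
    · rw [← hew]; exact (QuotientGroup.eq_one_iff e).2 hz
    · have h2 := congrArg Subtype.val (Subgroup.mem_center_iff.1 hw.2
        ⟨π y, Subgroup.mem_map_of_mem π (le_sup_right (α := Subgroup G) (Subgroup.mem_zpowers _))⟩)
      simp only [Subgroup.coe_mul, ← hew] at h2
      rw [← QuotientGroup.eq_one_iff]
      change π ((y : G) * e * (y : G)⁻¹ * e⁻¹) = 1
      rw [map_mul, map_mul, map_mul, map_inv, map_inv, h2]
      group
  -- the cocycle
  have hf : ∀ y : Y, (y : G) * x * (y : G)⁻¹ * x⁻¹ ∈ B := by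
    intro y
    have h1 := hYa y
    have hya' : (y : G) * a * (y : G)⁻¹ ∈ N := c.normal.conj_mem a m.ha y
    have hN : (y : G) * x * (y : G)⁻¹ * x⁻¹ ∈ N := by
      have := mul_mem y.2.1 (c.normal.conj_mem _ (inv_mem y.2.1) x)
      simpa [mul_assoc] using this
    have hx' : Commute ((y : G) * a * (y : G)⁻¹) x := o.cent_le c m.ha m.hax m.haZ hya' h1
    refine memB.2 ⟨hN, (c.cent_congr hya' (not_mem_center_conj m.haZ _) m.ha m.haZ h1 hN).1 ?_⟩
    exact ((m.hax.conj (y : G)).symm.mul_left hx'.symm.inv_left)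
  set f : Y → B := fun y => ⟨_, hf y⟩ with hfdef
  have hfp : ∀ y : Y, f y ^ p = 1 := by
    intro y
    refine Subtype.ext ?_
    show ((y : G) * x * (y : G)⁻¹ * x⁻¹) ^ p = 1
    have hc' : Commute ((y : G) * x * (y : G)⁻¹) x := by
      have h2 := (hBx (hf y)).mul_left (Commute.refl x)
      rwa [inv_mul_cancel_right] at h2
    rw [hc'.inv_right.mul_pow, conj_pow, inv_pow, (Subgroup.mem_center_iff.1 o.xp (y : G)),
      mul_inv_cancel_right, mul_inv_cancel]
  let F : Y ⧸ B' → B := Quotient.lift f fun u v huv => by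
    have h1 : ((u : G)⁻¹ * v) ∈ B := Subgroup.mem_subgroupOf.1 (QuotientGroup.leftRel_apply.1 huv)
    have h2 := hBx h1
    refine Subtype.ext ?_
    show (u : G) * x * (u : G)⁻¹ * x⁻¹ = (v : G) * x * (v : G)⁻¹ * x⁻¹
    calc (u : G) * x * (u : G)⁻¹ * x⁻¹
        = (u : G) * (x * ((u : G)⁻¹ * v)) * (v : G)⁻¹ * x⁻¹ := by group
      _ = (u : G) * (((u : G)⁻¹ * v) * x) * (v : G)⁻¹ * x⁻¹ := by rw [h2.eq]
      _ = (v : G) * x * (v : G)⁻¹ * x⁻¹ := by group
  let φ : Y → (B →* B) := fun u =>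
    { toFun := fun w => ⟨(u : G) * w * (u : G)⁻¹, (Subgroup.mem_normalizer_iff.1 u.2.2 w).1 w.2⟩
      map_one' := Subtype.ext (by simp)
      map_mul' := fun v w => Subtype.ext (by simp [mul_assoc]) }
  have hcoc : ∀ (u : Y) (q : Y ⧸ B'), F ((u : Y ⧸ B') * q) = φ u (F q) * f u := by
    intro u q
    obtain ⟨v, rfl⟩ := QuotientGroup.mk_surjective q
    rw [← QuotientGroup.mk_mul]
    refine Subtype.ext ?_
    show ((u : G) * v) * x * ((u : G) * v)⁻¹ * x⁻¹ =
      (u : G) * ((v : G) * x * (v : G)⁻¹ * x⁻¹) * (u : G)⁻¹ * ((u : G) * x * (u : G)⁻¹ * x⁻¹)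
    group
  haveI : Fintype (Y ⧸ B') := Fintype.ofFinite _
  set P := ∏ q, F q with hP
  have hprod : ∀ u : Y, P = φ u P * f u ^ Nat.card (Y ⧸ B') := by
    intro u
    rw [hP, map_prod, Nat.card_eq_fintype_card, ← Finset.card_univ, ← Finset.prod_const,
      ← Finset.prod_mul_distrib]
    exact (Fintype.prod_equiv (Equiv.mulLeft (u : Y ⧸ B')) _ _ fun q => (hcoc u q).symm).symm
  obtain ⟨k, -, hk⟩ := Nat.exists_mul_mod_eq_one_of_coprime
    ((Nat.coprime_comm.1 (c.prime.coprime_iff_not_dvd.2 hidx))) c.prime.one_lt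
  set d := P ^ k with hd
  have hdp : d ^ p = 1 := by
    rw [hd, ← pow_mul, mul_comm, pow_mul, hP, ← Finset.prod_pow]
    rw [Finset.prod_eq_one fun q _ => ?_, one_pow]
    obtain ⟨v, rfl⟩ := QuotientGroup.mk_surjective q
    exact hfp v
  have hdconj : ∀ u : Y, φ u d = d * (f u)⁻¹ := by
    intro u
    have h1 : d = φ u d * f u := by
      conv_lhs => rw [hd, hprod u, mul_pow, ← map_pow, ← hd, ← pow_mul,
        pow_eq_pow_mod _ (hfp u), hk, pow_one]
    rw [eq_mul_inv_iff_mul_eq, ← h1]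
  set x' := x * (d : G) with hx'
  have hdB := d.2
  have hfix : ∀ u : Y, Commute (u : G) x' := by
    intro u
    have h1 : (u : G) * (d : G) * (u : G)⁻¹ = (d : G) * ((f u : B) : G)⁻¹ :=
      congrArg Subtype.val (hdconj u)
    have h2 : (u : G) * x * (u : G)⁻¹ = x * ((f u : B) : G) := by
      rw [← (hBx (f u).2).eq]
      show _ = (u : G) * x * (u : G)⁻¹ * x⁻¹ * x
      group
    have h3 : (d : G) * ((f u : B) : G)⁻¹ = ((f u : B) : G)⁻¹ * (d : G) :=
      congrArg Subtype.val (hBcomm d (f u)⁻¹)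
    refine mul_inv_eq_iff_eq_mul.1 ?_
    calc (u : G) * x' * (u : G)⁻¹ = ((u : G) * x * (u : G)⁻¹) * ((u : G) * (d : G) * (u : G)⁻¹) := by
          rw [hx']; group
      _ = x' := by rw [h2, h1, h3, hx', mul_assoc, mul_inv_cancel_left]
  have o' : Outer N p x' := by
    refine ⟨?_, ?_, ?_, y0, hy0, a, m.ha, hfix ⟨y0, hYmem hy0 hy0a⟩,
      hfix ⟨a, hBY (memB.2 ⟨m.ha, Commute.refl a⟩)⟩, hy0c⟩
    · rw [eq_top_iff, ← o.top]
      refine sup_le le_sup_left (Subgroup.zpowers_le.2 ?_)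
      have := mul_mem (le_sup_right (α := Subgroup G) (a := N) (Subgroup.mem_zpowers x'))
        (le_sup_left (α := Subgroup G) (b := Subgroup.zpowers x') (inv_mem (memB.1 hdB).1))
      rwa [hx', mul_inv_cancel_right] at this
    · rw [hx', (hBx hdB).symm.mul_pow, ← SubgroupClass.coe_pow, hdp]
      simpa using o.xp
    · intro e
      obtain ⟨u, hu, v, hv, hux, hvx, huv⟩ := o.nab
      by_cases hdZ : (d : G) ∈ Subgroup.center G
      · have := mul_mem e (inv_mem hdZ)
        rw [hx', mul_inv_cancel_right] at this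
        exact o.nc this
      · have hcd : ∀ {w : G}, Commute w x → Commute w (d : G) := fun {w} hwx => by
          have h1 := hwx.inv_right.mul_right (Subgroup.mem_center_iff.1 e w : Commute w x')
          rwa [hx', inv_mul_cancel_left] at h1
        exact huv (c.comm_of_cent (memB.1 hdB).1 hdZ hu hv (hcd hux) (hcd hvx))
  obtain ⟨n', a', m'⟩ := o'.exists_meet c
  obtain ⟨hb'N, hb'a, hb'Z, -⟩ := o'.meet_elem c m'
  set A' := N ⊓ Subgroup.centralizer ({x'} : Set G) with hA'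
  have hbY : b ∈ Y := hBY (memB.2 ⟨hbN, hba⟩)
  have hbA : b ∈ A' := ⟨hbN, Subgroup.mem_centralizer_singleton_iff.2 (hfix ⟨b, hbY⟩).eq⟩
  obtain ⟨j, hj, hjb⟩ := o'.conj_into_pPart c m' A' inf_le_left
    (fun u hu hua => ⟨hu, Subgroup.mem_centralizer_singleton_iff.2 ((o'.meet_iff c m' hu).2 hua).1.eq⟩)
    (fun y hy hyb => o'.meet_self_normalizing c m' hy.1
      (Subgroup.mem_centralizer_singleton_iff.1 hy.2)
      (c.conj_congr m'.ha m'.haZ hb'N hb'Z hb'a.symm hyb))
    (R := Subgroup.zpowers b) (IsPGroup.iff_card.mpr ((Nat.dvd_prime_pow c.prime).1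
      (by rw [Nat.card_zpowers, pow_one]; exact orderOf_dvd_of_pow_eq_one hbp : Nat.card _ ∣ p ^ 1)
        |>.imp fun _ h => h.2))
    (Subgroup.zpowers_le.2 hbA)
  obtain ⟨hw1, hw2, -⟩ := hjb b (Subgroup.mem_zpowers b)
  set w := j * b * j⁻¹ with hw
  have hwZ := not_mem_center_conj hbZ j
  have hu : j * y0 * j⁻¹ ∈ A' := mul_mem (mul_mem hj ⟨hy0,
    Subgroup.mem_centralizer_singleton_iff.2 (hfix ⟨y0, hYmem hy0 hy0a⟩).eq⟩) (inv_mem hj)
  have hy0b : Commute (y0 * b * y0⁻¹) b :=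
    c.comm_of_cent m.ha m.haZ (c.normal.conj_mem b hbN y0) hbN (memB.1
      ((Subgroup.mem_normalizer_iff.1 (hYmem hy0 hy0a).2 b).1 (memB.2 ⟨hbN, hba⟩))).2 hba
  have h1 : Commute ((j * y0 * j⁻¹) * w * (j * y0 * j⁻¹)⁻¹) w := by
    have := hy0b.conj j
    simpa [hw, mul_assoc] using this
  have h2 : Commute (j * y0 * j⁻¹) a' := o'.meet_self_normalizing c m' hu.1
    (Subgroup.mem_centralizer_singleton_iff.1 hu.2) (c.conj_congr m'.ha m'.haZ hw1 hwZ hw2.symm
      ((c.cent_congr hw1 hwZ m'.ha m'.haZ hw2 (c.normal.conj_mem w hw1 _)).1 h1))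
  have h3 : Commute (j * y0 * j⁻¹) w := (c.cent_congr hw1 hwZ m'.ha m'.haZ hw2 hu.1).2 h2
  have h4 : Commute y0 b := by
    simpa [hw, mul_assoc, Commute, SemiconjBy] using (h3.conj j⁻¹).eq
  exact hy0c ((c.cent_congr hbN hbZ m.ha m.haZ hba hy0).1 h4)

/-- There is no outer extension. -/
theorem no_outer : False := by
  haveI : Fact p.Prime := ⟨c.prime⟩
  haveI := c.normal
  obtain ⟨n, a, m⟩ := o.exists_meet c
  obtain ⟨hbN, hba, hbZ, hbp⟩ := o.meet_elem c m
  set b := n * x * n⁻¹ * x⁻¹ with hb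
  obtain ⟨y, e, hy, hya, hyc, he, heZ, hea, ⟨k, hk⟩, hz⟩ := o.exists_fixed c m
  set z := y * e * y⁻¹ * e⁻¹ with hzdef
  have hzN : z ∈ N := mul_mem (c.normal.conj_mem e he y) (inv_mem he)
  have hz1 : z ≠ 1 := fun h => hyc ((c.cent_congr he heZ m.ha m.haZ hea hy).1
    (mul_inv_eq_iff_eq_mul.1 (mul_inv_eq_one.1 h)))
  have hzp : z ^ p ^ k = 1 := by
    have h1 : (z * e) ^ p ^ k = 1 := by
      rw [hzdef, inv_mul_cancel_right, conj_pow, hk, mul_one, mul_inv_cancel]
    rwa [(show Commute z e from ((Subgroup.mem_center_iff.1 hz e)).symm).mul_pow, hk, mul_one] at h1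
  set zN : N := ⟨z, hzN⟩ with hzNdef
  have hzc : zN ∈ Subgroup.center N := c.mem_center_iff.2 hz
  obtain ⟨i, -, hi⟩ := (Nat.dvd_prime_pow c.prime).1 (orderOf_dvd_of_pow_eq_one
    (show zN ^ p ^ k = 1 from Subtype.ext hzp))
  have hi0 : i ≠ 0 := fun e0 => hz1 (congrArg Subtype.val
    (orderOf_eq_one_iff.1 (by rw [hi, e0, pow_zero] : orderOf zN = 1)))
  obtain ⟨i, rfl⟩ := Nat.exists_eq_succ_of_ne_zero hi0
  have hord : orderOf (zN ^ p ^ i) = p := by
    rw [orderOf_pow' _ (pow_ne_zero _ c.prime.ne_zero), hi, Nat.succ_eq_add_one, pow_succ,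
      Nat.gcd_eq_right (Dvd.intro _ rfl), Nat.mul_div_cancel_left _ (pow_pos c.prime.pos i)]
  have hCA : ∀ u : N, u ∉ Subgroup.center N →
      IsMulCommutative (Subgroup.centralizer ({u} : Set N)) := fun u hu =>
    c.sub N c.ne_top u hu
  haveI := c.simp
  obtain ⟨S⟩ : Nonempty (Sylow 2 N) := inferInstance
  by_cases hab : ∃ u ∈ (S : Subgroup N), ∃ v ∈ (S : Subgroup N), ¬ Commute u v
  swap
  · push Not at hab
    have := center_eq_bot_of_abelian_sylow c.perf c.simp c.ns hCA S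
      hab
    rw [this, Subgroup.mem_bot] at hzc
    exact hz1 (congrArg Subtype.val hzc)
  have hsubN : ∀ H : Subgroup N, H ≠ ⊤ → ∀ u : H, u ∉ Subgroup.center H →
      IsMulCommutative (Subgroup.centralizer ({u} : Set H)) := by
    intro H _ u hu
    have hu' : (u : N) ∉ Subgroup.center N := fun h => hu (Subgroup.mem_center_iff.2 fun v =>
      Subtype.ext (Subgroup.mem_center_iff.1 h v))
    refine ⟨⟨fun v w => Subtype.ext (Subtype.ext ?_)⟩⟩
    simpa using congrArg Subtype.val ((hCA _ hu').is_comm.comm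
      ⟨((v : H) : N), Subgroup.mem_centralizer_singleton_iff.2
        (congrArg Subtype.val (Subgroup.mem_centralizer_singleton_iff.1 v.2))⟩
      ⟨((w : H) : N), Subgroup.mem_centralizer_singleton_iff.2
        (congrArg Subtype.val (Subgroup.mem_centralizer_singleton_iff.1 w.2))⟩)
  obtain ⟨F, _, _, hodd, h3, ⟨eq⟩⟩ := exists_psl_of_nonabelian c.simp c.perf hsubN S hab
  by_cases hp2 : p = 2
  · subst hp2
    refine hbZ (c.mem_center_iff.1 (involution_central c.perf hodd h3 eq ?_ (b := ⟨b, hbN⟩)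
      (Subtype.ext (show b * b = 1 by rw [← pow_two]; exact hbp))))
    exact hord ▸ Subgroup.orderOf_dvd_natCard _ (pow_mem hzc _)
  obtain ⟨hq, rfl⟩ := odd_center_part c.perf hodd h3 eq c.prime hp2 (pow_mem hzc _) hord
  set π := QuotientGroup.mk' (Subgroup.center N) with hπ
  have hsurj : Function.Surjective π := QuotientGroup.mk'_surjective _
  have hcard : Nat.card (N ⧸ Subgroup.center N) = 360 := by
    have h := CfsgLib.Classical.card_PSL_two (F := F)
    rw [← Nat.card_congr eq.toEquiv, hq] at h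
    norm_num at h
    omega
  set A := (N ⊓ Subgroup.centralizer ({x} : Set G)).subgroupOf N with hA
  set B := (N ⊓ Subgroup.centralizer ({a} : Set G)).subgroupOf N with hB
  have hBA : B ≤ A := fun u hu => Subgroup.mem_subgroupOf.2 ⟨u.2, Subgroup.mem_centralizer_singleton_iff.2
    (o.cent_le c m.ha m.hax m.haZ u.2 (Subgroup.mem_centralizer_singleton_iff.1
      (Subgroup.mem_subgroupOf.1 hu).2)).eq⟩
  have hcA : ∀ u ∈ Subgroup.center N, u ∈ A := fun u hu => Subgroup.mem_subgroupOf.2 ⟨u.2,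
    Subgroup.mem_centralizer_singleton_iff.2 (Subgroup.mem_center_iff.1 (c.mem_center_iff.1 hu) x).symm⟩
  have hcB : ∀ u ∈ Subgroup.center N, u ∈ B := fun u hu => Subgroup.mem_subgroupOf.2 ⟨u.2,
    Subgroup.mem_centralizer_singleton_iff.2 (Subgroup.mem_center_iff.1 (c.mem_center_iff.1 hu) a).symm⟩
  have hback : ∀ {K : Subgroup N}, (∀ u ∈ Subgroup.center N, u ∈ K) →
      ∀ {u : N}, π u ∈ K.map π → u ∈ K := by
    rintro K hK u ⟨v, hv, hvu⟩
    have := mul_mem hv (hK _ (QuotientGroup.eq.1 hvu))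
    rwa [mul_inv_cancel_left] at this
  obtain ⟨u0, hu0, v0, hv0, hu0x, hv0x, huv⟩ := o.nab
  refine no_frobenius_three hcard (A.map π) (B.map π) (Subgroup.map_mono hBA) ⟨?_, ?_, ?_⟩ ?_ ?_
  · intro e0
    have h1 : π ⟨b, hbN⟩ ∈ B.map π :=
      ⟨_, Subgroup.mem_subgroupOf.2 ⟨hbN, Subgroup.mem_centralizer_singleton_iff.2 hba.eq⟩, rfl⟩
    have h2 : (⟨π ⟨b, hbN⟩, Subgroup.map_mono hBA h1⟩ : A.map π) ∈ (B.map π).subgroupOf (A.map π) :=
      Subgroup.mem_subgroupOf.2 h1
    rw [e0, Subgroup.mem_bot] at h2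
    exact hbZ (c.mem_center_iff.1 ((QuotientGroup.eq_one_iff (⟨b, hbN⟩ : N)).1
      (congrArg Subtype.val h2)))
  · intro e0
    have hle := Subgroup.subgroupOf_eq_top.1 e0
    have hcomm : ∀ {w : G}, ∀ hw : w ∈ N, Commute w x → Commute w a := fun {w} hw hwx =>
      Subgroup.mem_centralizer_singleton_iff.1 (Subgroup.mem_subgroupOf.1 (hback hcB (u := ⟨w, hw⟩)
        (hle ⟨_, Subgroup.mem_subgroupOf.2 ⟨hw, Subgroup.mem_centralizer_singleton_iff.2 hwx.eq⟩, rfl⟩))).2
    exact huv (c.comm_of_cent m.ha m.haZ hu0 hv0 (hcomm hu0 hu0x) (hcomm hv0 hv0x))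
  · rintro ⟨g, hg⟩ hgB
    rw [Subgroup.eq_bot_iff_forall]
    rintro ⟨w, hw⟩ ⟨hwB, hw2⟩
    replace hw2 := Subgroup.mem_pointwise_smul_iff_inv_smul_mem.1 hw2
    rw [MulAut.smul_def, MulAut.inv_apply, MulAut.conj_symm_apply] at hw2
    obtain ⟨u, hu, rfl⟩ := hg
    obtain ⟨v, hv, rfl⟩ := Subgroup.mem_subgroupOf.1 hwB
    have hw3 : u⁻¹ * v * u ∈ B := hback hcB (by simpa using Subgroup.mem_subgroupOf.1 hw2)
    refine Subtype.ext ((QuotientGroup.eq_one_iff v).2 ?_)
    rw [c.mem_center_iff]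
    by_contra hvZ
    apply hgB
    refine Subgroup.mem_subgroupOf.2 ⟨u, ?_, rfl⟩
    have hua : Commute ((u : G)⁻¹) a := by
      refine o.meet_self_normalizing c m (inv_mem u.2) ?_ (c.conj_congr m.ha m.haZ v.2 hvZ ?_ ?_)
      · exact (show Commute (u : G) x from Subgroup.mem_centralizer_singleton_iff.1
          (Subgroup.mem_subgroupOf.1 hu).2).inv_left
      · exact (show Commute (v : G) a from Subgroup.mem_centralizer_singleton_iff.1
          (Subgroup.mem_subgroupOf.1 hv).2).symm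
      · simpa [Commute, SemiconjBy] using Subgroup.mem_centralizer_singleton_iff.1
          (Subgroup.mem_subgroupOf.1 hw3).2
    exact Subgroup.mem_subgroupOf.2 ⟨u.2, Subgroup.mem_centralizer_singleton_iff.2 (by
      simpa using hua.inv_left.eq)⟩
  · have h1 : orderOf (π ⟨b, hbN⟩) = 3 := by
      haveI : Fact (Nat.Prime 3) := ⟨Nat.prime_three⟩
      refine orderOf_eq_prime (by rw [← map_pow, show (⟨b, hbN⟩ : N) ^ 3 = 1 from Subtype.ext hbp,
        map_one]) fun h => hbZ (c.mem_center_iff.1 ((QuotientGroup.eq_one_iff (⟨b, hbN⟩ : N)).1 h))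
    exact h1 ▸ Subgroup.orderOf_dvd_natCard _
      ⟨_, Subgroup.mem_subgroupOf.2 ⟨hbN, Subgroup.mem_centralizer_singleton_iff.2 hba.eq⟩, rfl⟩
  · intro K hKA hK hAK
    set K' := (K.comap π).map N.subtype with hK'
    have hKx : K' ≤ Subgroup.centralizer ({x} : Set G) := by
      rintro _ ⟨u, hu, rfl⟩
      exact (Subgroup.mem_subgroupOf.1 (hback hcA (hKA hu))).2
    have hnorm : ∀ {u : N}, π u ∈ Subgroup.normalizer (K : Set (N ⧸ Subgroup.center N)) →
        (u : G) ∈ Subgroup.normalizer (K' : Set G) := fun {u} hu =>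
      Subgroup.le_normalizer_map N.subtype ⟨u, by
        rw [← Subgroup.comap_normalizer_eq_of_surjective K hsurj]; exact hu, rfl⟩
    obtain ⟨w, hw, hw1⟩ := (Subgroup.bot_or_exists_ne_one _).resolve_left hK
    obtain ⟨w, rfl⟩ := hsurj w
    have hKZ : ∃ u ∈ K', u ∉ Subgroup.center G := ⟨w, ⟨w, hw, rfl⟩,
      fun h => hw1 ((QuotientGroup.eq_one_iff w).2 (c.mem_center_iff.2 h))⟩
    have hin : ∀ {u : G} (hu : u ∈ N), Commute u x → u ∈ Subgroup.normalizer (K' : Set G) :=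
      fun {u} hu hux => hnorm (u := ⟨u, hu⟩) (hAK ⟨_, Subgroup.mem_subgroupOf.2
        ⟨hu, Subgroup.mem_centralizer_singleton_iff.2 hux.eq⟩, rfl⟩)
    intro g hg
    obtain ⟨g, rfl⟩ := hsurj g
    exact ⟨g, Subgroup.mem_subgroupOf.2 ⟨g.2, Subgroup.mem_centralizer_singleton_iff.2
      (o.normalizer_le c hKx hKZ (hin hu0 hu0x) (hin hv0 hv0x) hu0x hv0x huv g (hnorm hg)).eq⟩, rfl⟩

end CfsgLib.MinNonCA
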