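import Cfsg.Agent.Lib.MinNonCA.TI
import Cfsg.Agent.Lib.OddLocal.PartnerBasics

/-!
A quasisimple proper normal subgroup and a witness of prime order modulo the centre generate the
whole group (S4369, reduction).
-/

set_option autoImplicit false
set_option linter.style.haveILetI false
set_option linter.unusedSectionVars false

namespace CfsgLib.MinNonCA

variable {G : Type*} [Group G] [Finite G]
variable (hsub : ∀ H : Subgroup G, H ≠ ⊤ → ∀ x : H, x ∉ Subgroup.center H →
  IsMulCommutative (Subgroup.centralizer ({x} : Set H)))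
variable (hns : ¬ Group.IsSolvable G) {x g h : G} (hw : Wit x g h)
include hsub hns hw

/-- A witness centralises the normaliser of any solvable noncentral subgroup normalised by it and by
two noncommuting elements of its centraliser. -/
theorem normalizer_le_cent {A : Subgroup G} (hA : Group.IsSolvable A) (hAZ : ¬ A ≤ Subgroup.center G)
    (hx : x ∈ Subgroup.normalizer (A : Set G)) (hg : g ∈ Subgroup.normalizer (A : Set G))
    (hh : h ∈ Subgroup.normalizer (A : Set G)) : ∀ k ∈ Subgroup.normalizer (A : Set G), Commute k x := by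
  refine central_of_pair hsub (fun e => hAZ ?_) hx hg hh hw.gx hw.hx hw.gh
  haveI : A.Normal := Subgroup.normalizer_eq_top_iff.1 e
  exact (CfsgLib.Layer.le_solvableRadical inferInstance hA).trans (radical_le_center hsub hns hw)

/-- A quasisimple normal subgroup together with a witness of prime order modulo the centre is not
proper. -/
theorem no_proper_extension {p : ℕ} (hp : p.Prime) (hxp : x ^ p ∈ Subgroup.center G)
    {N : Subgroup G} [hN : N.Normal] (hNs : ¬ Group.IsSolvable N)
    (hNsimp : IsSimpleGroup (N ⧸ Subgroup.center N))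
    (hCN : Subgroup.centralizer (N : Set G) ≤ Subgroup.center G)
    (hNx : N ⊔ Subgroup.zpowers x ≠ ⊤) : False := by
  set A := N ⊓ Subgroup.centralizer ({x} : Set G) with hA
  have hmemA : ∀ {a : G}, a ∈ A ↔ a ∈ N ∧ Commute a x := fun {a} => by
    rw [hA, Subgroup.mem_inf, Subgroup.mem_centralizer_singleton_iff]; exact Iff.rfl
  have hNt : N ≠ ⊤ := fun e => hNx (by rw [e, top_sup_eq])
  have hNnotle : ¬ ∀ n ∈ N, Commute n x := fun hall =>
    hw.nc (hCN fun n hn => (hall n hn).eq)
  -- `A` is abelian
  have hAcomm : ∀ a ∈ A, ∀ b ∈ A, Commute a b := by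
    intro a ha b hb
    by_contra hab
    exact hNnotle fun n hn => central_of_pair hsub hNx
      (le_sup_right (α := Subgroup G) (Subgroup.mem_zpowers x))
      (le_sup_left (α := Subgroup G) (hmemA.1 ha).1) (le_sup_left (α := Subgroup G) (hmemA.1 hb).1)
      (hmemA.1 ha).2 (hmemA.1 hb).2 hab n (le_sup_left (α := Subgroup G) hn)
  have hnormA : ∀ k : G, Commute k x → k ∈ Subgroup.normalizer (A : Set G) := by
    intro k hk
    rw [Subgroup.mem_normalizer_iff]
    intro n
    rw [hmemA, hmemA]
    constructor
    · rintro ⟨hn, hnx⟩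
      exact ⟨hN.conj_mem n hn k, (hk.mul_left hnx).mul_left hk.inv_left⟩
    · rintro ⟨hn, hnx⟩
      have e : n = k⁻¹ * (k * n * k⁻¹) * k := by group
      rw [e]
      refine ⟨?_, (hk.inv_left.mul_left hnx).mul_left hk⟩
      simpa using hN.conj_mem _ hn k⁻¹
  by_cases hcase : ∃ a ∈ A, a ∉ Subgroup.center G
  · have hle : ∀ k ∈ Subgroup.normalizer (A : Set G), Commute k x := by
      refine normalizer_le_cent hsub hns hw ?_ (fun hZ => ?_) (hnormA x (Commute.refl x))
        (hnormA g hw.gx) (hnormA h hw.hx)
      · exact Group.isSolvable_of_comm fun a b => Subtype.ext (hAcomm a a.2 b b.2).eq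
      · obtain ⟨a, ha, haz⟩ := hcase
        exact haz (hZ ha)
    -- centralisers in `N` of noncentral elements of `A`
    have hCA : ∀ a ∈ A, a ∉ Subgroup.center G → ∀ y ∈ N, Commute y a → y ∈ A := by
      intro a ha haz y hy hya
      have hnc : ¬ ∀ k ∈ N, Commute k a := fun hall => haz (hCN fun k hk => (hall k hk).eq)
      push Not at hnc
      obtain ⟨k, hk, hka⟩ := hnc
      refine hmemA.2 ⟨hy, hle y (Subgroup.centralizer_le_normalizer _ fun b hb => ?_)⟩
      exact (commute_of_mem hsub hNt (hmemA.1 ha).1 hk hka hy (hmemA.1 hb).1 hya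
        (hAcomm b hb a ha)).symm.eq
    refine no_ti (N := N) hNs hNsimp hCN (A := A) inf_le_left
      (fun e => hNnotle fun n hn => (hmemA.1 (e.symm ▸ hn : n ∈ A)).2) hcase
      (fun z hz hzc => hmemA.2 ⟨hz, (Subgroup.mem_center_iff.1 hzc x).symm⟩) ?_
    intro n hn hnA a ha hc
    by_contra haz
    have hb : n * a * n⁻¹ ∉ Subgroup.center G := fun h' => haz (by
      have e : a = n⁻¹ * (n * a * n⁻¹) * n := by group
      rw [e]
      simpa using (inferInstance : (Subgroup.center G).Normal).conj_mem _ h' n⁻¹)
    refine hnA (hmemA.2 ⟨hn, hle n (Subgroup.mem_normalizer_iff.2 fun b => ⟨fun hb' => ?_, fun hb' => ?_⟩)⟩)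
    · refine hCA _ hc hb _ (mul_mem (mul_mem hn (hmemA.1 hb').1) (inv_mem hn)) ?_
      exact Commute.conj (hAcomm b hb' a ha) n
    · have hbN : b ∈ N := by
        have e : b = n⁻¹ * (n * b * n⁻¹) * n := by group
        rw [e]
        exact mul_mem (mul_mem (inv_mem hn) (hmemA.1 hb').1) hn
      refine hCA a ha haz b hbN ?_
      have h1 := Commute.conj (hAcomm _ hb' _ hc) n⁻¹
      simpa [mul_assoc] using h1
  -- otherwise the witness acts without fixed points modulo the centre
  push Not at hcase
  set B := N ⊓ modCent x with hB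
  have hBs : Group.IsSolvable B := by
    let f : B →* Subgroup.center G :=
      { toFun := fun b => ⟨(b : G) * x * (b : G)⁻¹ * x⁻¹, mem_modCent_iff.1 b.2.2⟩
        map_one' := Subtype.ext (by simp)
        map_mul' := fun b c => Subtype.ext (by
          have hc := Subgroup.mem_center_iff.1 (mem_modCent_iff.1 c.2.2) (b : G)
          show ((b * c : B) : G) * x * ((b * c : B) : G)⁻¹ * x⁻¹ =
            ((b : G) * x * (b : G)⁻¹ * x⁻¹) * ((c : G) * x * (c : G)⁻¹ * x⁻¹)
          have hz := Subgroup.mem_center_iff.1 (mem_modCent_iff.1 c.2.2)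
            ((b : G) * x * (b : G)⁻¹ * x⁻¹)
          rw [hz]
          calc ((b * c : B) : G) * x * ((b * c : B) : G)⁻¹ * x⁻¹
              = ((b : G) * ((c : G) * x * (c : G)⁻¹ * x⁻¹)) * (x * (b : G)⁻¹ * x⁻¹) := by
                push_cast; group
            _ = _ := by rw [hc]; group) }
    haveI : Group.IsSolvable (Subgroup.center G) := Group.isSolvable_of_comm fun a b => Subtype.ext (Subgroup.mem_center_iff.1 b.2 (a : G))
    haveI : Group.IsSolvable f.ker := Group.isSolvable_of_comm fun a b => Subtype.ext <| Subtype.ext <| by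
      have h1 : ((b : B) : G) * x * ((b : B) : G)⁻¹ * x⁻¹ = 1 := congrArg Subtype.val b.2
      have h2 : Commute ((b : B) : G) x := by
        rw [mul_inv_eq_one, mul_inv_eq_iff_eq_mul] at h1
        exact h1
      exact Subgroup.mem_center_iff.1 (hcase _ (hmemA.2 ⟨(b : B).2.1, h2⟩)) _
    exact Group.isSolvable_of_ker_le_range f.ker.subtype f (by rw [Subgroup.range_subtype])
  have hnormB : ∀ k : G, Commute k x → k ∈ Subgroup.normalizer (B : Set G) := by
    intro k hk
    rw [Subgroup.mem_normalizer_iff]
    intro n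
    have key : ∀ {m y : G}, Commute m x → y ∈ B → m * y * m⁻¹ ∈ B := fun {m y} hm hy =>
      ⟨hN.conj_mem y hy.1 m, (modCent x).mul_mem ((modCent x).mul_mem (centralizer_le_modCent x
        (Subgroup.mem_centralizer_singleton_iff.2 hm.eq)) hy.2) ((modCent x).inv_mem (centralizer_le_modCent x
        (Subgroup.mem_centralizer_singleton_iff.2 hm.eq)))⟩
    refine ⟨fun hn => key hk hn, fun hn => ?_⟩
    have := key hk.inv_left hn
    simpa [mul_assoc] using this
  have hBZ : B ≤ Subgroup.center G := by
    by_contra hBZ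
    have hle := normalizer_le_cent hsub hns hw hBs hBZ (hnormB x (Commute.refl x)) (hnormB g hw.gx)
      (hnormB h hw.hx)
    exact hBZ fun b hb => hcase b (hmemA.2 ⟨hb.1, hle b (Subgroup.le_normalizer hb)⟩)
  set π := QuotientGroup.mk' (Subgroup.center G) with hπ
  haveI : (N.map π).Normal := hN.map π (QuotientGroup.mk'_surjective _)
  haveI := CfsgLib.OddLocal.isNilpotent_of_fpf_elem hp (U := N.map π) (b := π x)
    (by rw [← map_pow]; exact (QuotientGroup.eq_one_iff _).2 hxp)
    (by rw [Subgroup.normalizer_eq_top_iff.2 inferInstance]; trivial)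
    (by
      rw [Subgroup.eq_bot_iff_forall]
      rintro q ⟨⟨n, hn, rfl⟩, hq⟩
      refine (QuotientGroup.eq_one_iff n).2 (hBZ ⟨hn, ?_⟩)
      exact Subgroup.mem_comap.2 hq)
  haveI : Group.IsSolvable (N.map π) := inferInstance
  apply hNs
  haveI : Group.IsSolvable (π.subgroupMap N).ker := Group.isSolvable_of_comm fun a b =>
    Subtype.ext <| Subtype.ext <| by
      have h1 : π ((b : N) : G) = 1 := congrArg Subtype.val b.2
      exact Subgroup.mem_center_iff.1 ((QuotientGroup.eq_one_iff _).1 h1) _
  exact Group.isSolvable_of_ker_le_range (π.subgroupMap N).ker.subtype (π.subgroupMap N)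
    (by rw [Subgroup.range_subtype])

end CfsgLib.MinNonCA
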