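import Cfsg.Agent.Lib.MinNonCA.Radical

/-!
A nonsolvable minimal non-CA group is quasisimple, or has a quasisimple proper normal subgroup with
central centraliser (S4369, reduction).
-/

set_option autoImplicit false
set_option linter.style.haveILetI false
set_option linter.unusedSectionVars false

namespace CfsgLib.MinNonCA

variable {G : Type*} [Group G] [Finite G]

/-- The quotient by the centre is simple when nonsolvable normal subgroups are improper and solvable
normal subgroups are central. -/
theorem simple_mod_center (hns : ¬ Group.IsSolvable G)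
    (h1 : ∀ K : Subgroup G, K.Normal → ¬ Group.IsSolvable K → K = ⊤)
    (h2 : ∀ K : Subgroup G, K.Normal → Group.IsSolvable K → K ≤ Subgroup.center G) :
    IsSimpleGroup (G ⧸ Subgroup.center G) := by
  haveI : Nontrivial (G ⧸ Subgroup.center G) := QuotientGroup.nontrivial_iff.mpr fun e => hns
    (Group.isSolvable_of_comm fun a b => Subgroup.mem_center_iff.1 (e ▸ Subgroup.mem_top b : b ∈ _) a)
  refine ⟨fun L hL => ?_⟩
  set π := QuotientGroup.mk' (Subgroup.center G) with hπ
  have hsurj : Function.Surjective π := QuotientGroup.mk'_surjective _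
  by_cases hs : Group.IsSolvable (L.comap π)
  · left
    rw [Subgroup.eq_bot_iff_forall]
    intro l hl
    obtain ⟨k, rfl⟩ := hsurj l
    exact (QuotientGroup.eq_one_iff k).2 (h2 _ (hL.comap π) hs hl)
  · right
    rw [← Subgroup.map_comap_eq_self_of_surjective hsurj L, h1 _ (hL.comap π) hs,
      Subgroup.map_top_of_surjective π hsurj]

/-- Perfect nonsolvable: every nonsolvable normal subgroup is everything. -/
theorem commutator_eq_top_of (hns : ¬ Group.IsSolvable G)
    (h1 : ∀ K : Subgroup G, K.Normal → ¬ Group.IsSolvable K → K = ⊤) : commutator G = ⊤ := by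
  refine h1 _ inferInstance fun hs => hns ?_
  haveI := hs
  haveI : Group.IsSolvable (Abelianization G) := Group.isSolvable_of_comm mul_comm
  exact Group.isSolvable_of_ker_le_range (commutator G).subtype Abelianization.of
    (by rw [Abelianization.ker_of, Subgroup.range_subtype])

variable (hsub : ∀ H : Subgroup G, H ≠ ⊤ → ∀ x : H, x ∉ Subgroup.center H →
  IsMulCommutative (Subgroup.centralizer ({x} : Set H)))
include hsub

/-- An element of a proper subgroup with nonabelian centraliser in it is central in it. -/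
theorem isCA_of_ne_top {N : Subgroup G} (hN : N ≠ ⊤) {y : N} {a b : N} (ha : Commute a y)
    (hb : Commute b y) (hab : ¬ Commute a b) : y ∈ Subgroup.center N := by
  by_contra hy
  exact hab ((hsub N hN y hy).is_comm.comm
    ⟨a, Subgroup.mem_centralizer_singleton_iff.2 ha.eq⟩
    ⟨b, Subgroup.mem_centralizer_singleton_iff.2 hb.eq⟩ |> congrArg Subtype.val)

variable (hns : ¬ Group.IsSolvable G) {x g h : G} (hw : Wit x g h)
include hns hw

/-- The two cases. -/
theorem quasisimple_or_normal :
    (commutator G = ⊤ ∧ IsSimpleGroup (G ⧸ Subgroup.center G)) ∨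
      ∃ N : Subgroup G, N.Normal ∧ N ≠ ⊤ ∧ ¬ Group.IsSolvable N ∧ commutator N = ⊤ ∧
        IsSimpleGroup (N ⧸ Subgroup.center N) ∧
        Subgroup.centralizer (N : Set G) ≤ Subgroup.center G := by
  have hR := radical_le_center hsub hns hw
  have h2 : ∀ K : Subgroup G, K.Normal → Group.IsSolvable K → K ≤ Subgroup.center G :=
    fun K hK hKs => (CfsgLib.Layer.le_solvableRadical hK hKs).trans hR
  haveI : Finite (Subgroup G) := Finite.of_injective (fun H => (H : Set G)) SetLike.coe_injective
  obtain ⟨N, ⟨hNn, hNs⟩, hmin⟩ := Set.Finite.exists_minimal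
    (Set.toFinite {P : Subgroup G | P.Normal ∧ ¬ Group.IsSolvable P})
    ⟨⊤, inferInstance, fun hs => ne_top_of_isSolvable hns hs rfl⟩
  have hmin' : ∀ K : Subgroup G, K.Normal → ¬ Group.IsSolvable K → K ≤ N → K = N :=
    fun K hK hKs hKN => le_antisymm hKN (hmin ⟨hK, hKs⟩ hKN)
  haveI := hNn
  by_cases hN : N = ⊤
  · subst hN
    have h1 : ∀ K : Subgroup G, K.Normal → ¬ Group.IsSolvable K → K = ⊤ :=
      fun K hK hKs => hmin' K hK hKs le_top
    exact Or.inl ⟨commutator_eq_top_of hns h1, simple_mod_center hns h1 h2⟩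
  right
  have hNperf : ⁅N, N⁆ = N := by
    obtain ⟨P, hPN, hPn, hPp, hPs⟩ := exists_perfect_normal hNs
    rwa [← hmin' P hPn hPs hPN]
  have hCN : Subgroup.centralizer (N : Set G) ≤ Subgroup.center G :=
    centralizer_perfect_le hsub hNperf hNs hN
  have hmapn : ∀ K : Subgroup N, K.Characteristic → (K.map N.subtype).Normal := fun K hK =>
    ConjAct.normal_of_characteristic_of_normal
  have h2N : ∀ K : Subgroup N, K.Normal → Group.IsSolvable K → K ≤ Subgroup.center N := by
    intro K hK hKs k hk
    have h3 : (Cfsg.solvableRadical N).map N.subtype ≤ Subgroup.center G :=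
      h2 _ (hmapn _ inferInstance)
        (CfsgLib.Coprime.isSolvable_map _ CfsgLib.Layer.solvableRadical_isSolvable)
    have h4 := h3 ⟨k, CfsgLib.Layer.le_solvableRadical hK hKs hk, rfl⟩
    exact Subgroup.mem_center_iff.2 fun m => Subtype.ext (Subgroup.mem_center_iff.1 h4 m)
  -- a minimal nonsolvable normal subgroup of `N`
  haveI : Finite (Subgroup N) := Finite.of_injective (fun H => (H : Set N)) SetLike.coe_injective
  have h1N : ∀ K : Subgroup N, K.Normal → ¬ Group.IsSolvable K → K = ⊤ := by
    intro K hK hKs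
    obtain ⟨L, ⟨hLn, hLs, hLK⟩, hLmin⟩ := Set.Finite.exists_minimal
      (Set.toFinite {L : Subgroup N | L.Normal ∧ ¬ Group.IsSolvable L ∧ L ≤ K}) ⟨K, hK, hKs, le_rfl⟩
    haveI := hLn
    have hLperf : ⁅L, L⁆ = L := by
      obtain ⟨P, hPL, hPn, hPp, hPs⟩ := exists_perfect_normal hLs
      rwa [show L = P from le_antisymm (hLmin ⟨hPn, hPs, hPL.trans hLK⟩ hPL) hPL]
    have hconj : ∀ k : G, L.map (MulAut.conjNormal k : MulAut N).toMonoidHom ≤ L := by
      intro k
      set L' := L.map (MulAut.conjNormal k : MulAut N).toMonoidHom with hL'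
      haveI : L'.Normal := hLn.map _ (MulEquiv.surjective _)
      have hcard : Nat.card L' = Nat.card L :=
        Subgroup.card_map_of_injective (MulEquiv.injective _)
      by_cases hI : Group.IsSolvable (L ⊓ L' : Subgroup N)
      · exfalso
        have hIc : L ⊓ L' ≤ Subgroup.center N := h2N _ inferInstance hI
        have hLL' : ⁅L, L'⁆ ≤ Subgroup.center N :=
          (Subgroup.commutator_le_inf L L').trans hIc
        have hz : ∀ {A : Subgroup N}, A ≤ Subgroup.center N → ⁅A, L⁆ = ⊥ := fun {A} hA => by
          rw [Subgroup.commutator_eq_bot_iff_le_centralizer]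
          exact fun a ha l _ => Subgroup.mem_center_iff.1 (hA ha) l
        have h3 : ⁅⁅L, L⁆, L'⁆ = ⊥ := Subgroup.commutator_commutator_eq_bot_of_rotate (hz hLL')
          (hz ((Subgroup.commutator_comm L' L).le.trans hLL'))
        rw [hLperf, Subgroup.commutator_eq_bot_iff_le_centralizer] at h3
        obtain ⟨a, ha, b, hb, hab⟩ : ∃ a ∈ L, ∃ b ∈ L, ¬ Commute a b := by
          by_contra hall
          push Not at hall
          exact hLs (Group.isSolvable_of_comm fun u v => Subtype.ext (hall u u.2 v v.2).eq)
        have hL'c : L' ≤ Subgroup.center N := fun m hm => isCA_of_ne_top hsub hN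
          (y := m) (a := a) (b := b) (h3 ha m hm).symm (h3 hb m hm).symm hab
        have hs' : Group.IsSolvable L' := Group.isSolvable_of_comm fun u v =>
          Subtype.ext (Subgroup.mem_center_iff.1 (hL'c v.2) u)
        haveI := hs'
        let e : L ≃* L' := L.equivMapOfInjective _ (MulEquiv.injective _)
        exact hLs (Group.isSolvable_of_surjective (f := e.symm.toMonoidHom) e.symm.surjective)
      · have hLI : L ≤ L ⊓ L' := hLmin ⟨inferInstance, hI, inf_le_left.trans hLK⟩ inf_le_left
        exact (Subgroup.eq_of_le_of_card_ge (hLI.trans inf_le_right) hcard.le).ge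
    have hLG : (L.map N.subtype).Normal := by
      refine ⟨fun u hu k => ?_⟩
      obtain ⟨l, hl, rfl⟩ := hu
      exact ⟨MulAut.conjNormal k l, hconj k ⟨l, hl, rfl⟩, MulAut.conjNormal_apply k l⟩
    have h4 : ¬ Group.IsSolvable (L.map N.subtype) := fun hs => hLs
      (Group.isSolvable_of_surjective (f := (L.equivMapOfInjective _
        N.subtype_injective).symm.toMonoidHom) (MulEquiv.surjective _))
    have h5 := hmin' _ hLG h4 (Subgroup.map_subtype_le _)
    rw [eq_top_iff]
    intro n _
    obtain ⟨l, hl, hln⟩ : (n : G) ∈ L.map N.subtype := h5.symm ▸ n.2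
    exact hLK ((Subtype.ext hln : l = n) ▸ hl)
  exact ⟨N, hNn, hN, hNs, commutator_eq_top_of hNs h1N, simple_mod_center hNs h1N h2N, hCN⟩

end CfsgLib.MinNonCA
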