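import Cfsg.Agent.Lib.MinNonCA.CenterMod
import Cfsg.Agent.Lib.Layer.Radical
import Cfsg.Agent.Lib.ClassSizesFour.Basic
import Cfsg.Agent.Lib.OddOrder.Solvable
import Cfsg.Agent.Lib.FrobCompl.Conjugate
import Cfsg.Agent.Lib.Coprime.Action
import Cfsg.Agent.Lib.FrobSys.Basic
import Cfsg.Agent.Lib.Transfer.Basic

/-!
A nonsolvable group which is not a CA-group but whose proper subgroups are: the solvable radical is
central and perfect proper normal subgroups have central centralisers (S4369, reduction).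
-/

set_option autoImplicit false
set_option linter.style.haveILetI false
set_option linter.unusedSectionVars false

namespace CfsgLib.MinNonCA

variable {G : Type*} [Group G] [Finite G]

/-- A witness of the failure of the CA property. -/
structure Wit (x g h : G) : Prop where
  nc : x ∉ Subgroup.center G
  gx : Commute g x
  hx : Commute h x
  gh : ¬ Commute g h

theorem ne_top_of_isSolvable (hns : ¬ Group.IsSolvable G) {H : Subgroup G} (hH : Group.IsSolvable H) :
    H ≠ ⊤ := by
  rintro rfl
  exact hns (Group.isSolvable_of_surjective (G := (⊤ : Subgroup G)) (G' := G)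
    (f := (⊤ : Subgroup G).subtype) fun y => ⟨⟨y, trivial⟩, rfl⟩)

/-- The normaliser of a Sylow 2-subgroup of a nonsolvable group is nonabelian. -/
theorem exists_noncomm_normalizer {K : Type*} [Group K] [Finite K] (hns : ¬ Group.IsSolvable K)
    (S : Sylow 2 K) :
    ∃ a ∈ Subgroup.normalizer ((S : Subgroup K) : Set K),
      ∃ b ∈ Subgroup.normalizer ((S : Subgroup K) : Set K), ¬ Commute a b := by
  haveI : Fact (Nat.Prime 2) := ⟨Nat.prime_two⟩
  by_contra hall
  push Not at hall
  have hP : Subgroup.normalizer ((S : Subgroup K) : Set K) ≤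
      Subgroup.centralizer ((S : Subgroup K) : Set K) := fun n hn s hs =>
    (hall s (Subgroup.le_normalizer hs) n hn).eq
  have hc := MonoidHom.ker_transferSylow_isComplement' S hP
  set T := MonoidHom.transferSylow S hP
  have hodd : Odd (Nat.card T.ker) := by
    rw [← hc.index_eq_card, ← Nat.not_even_iff_odd, even_iff_two_dvd]
    exact S.not_dvd_index
  haveI : Group.IsSolvable T.ker := CfsgLib.OddOrder.odd_order_solvable hodd
  haveI : Group.IsNilpotent (S : Subgroup K) := S.2.isNilpotent
  haveI : Group.IsSolvable (S : Subgroup K) := inferInstance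
  exact hns (Group.isSolvable_of_ker_le_range T.ker.subtype T (by rw [Subgroup.range_subtype]))

theorem isSolvable_normalizer_sylow {K : Type*} [Group K] [Finite K] (S : Sylow 2 K) :
    Group.IsSolvable (Subgroup.normalizer ((S : Subgroup K) : Set K)) := by
  haveI : Fact (Nat.Prime 2) := ⟨Nat.prime_two⟩
  set N := Subgroup.normalizer ((S : Subgroup K) : Set K) with hN
  haveI hn : ((S : Subgroup K).subgroupOf N).Normal := Subgroup.normal_in_normalizer
  haveI : Group.IsNilpotent (S : Subgroup K) := S.2.isNilpotent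
  haveI : Group.IsSolvable ((S : Subgroup K).subgroupOf N) :=
    Group.isSolvable_of_surjective (f := (Subgroup.subgroupOfEquivOfLe
      (Subgroup.le_normalizer (H := (S : Subgroup K)))).symm.toMonoidHom)
      (MulEquiv.surjective _)
  haveI : Group.IsSolvable (↥N ⧸ (S : Subgroup K).subgroupOf N) := by
    refine CfsgLib.OddOrder.odd_order_solvable ?_
    rw [← Subgroup.index_eq_card, ← Subgroup.relIndex, ← Nat.not_even_iff_odd, even_iff_two_dvd]
    intro h
    exact S.not_dvd_index (h.trans (Subgroup.relIndex_dvd_index_of_le Subgroup.le_normalizer))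
  exact Group.isSolvable_of_ker_le_range ((S : Subgroup K).subgroupOf N).subtype
    (QuotientGroup.mk' ((S : Subgroup K).subgroupOf N))
    (by rw [QuotientGroup.ker_mk', Subgroup.range_subtype])

/-- A nonsolvable normal subgroup contains a perfect nontrivial normal subgroup. -/
theorem exists_perfect_normal {N : Subgroup G} [hN : N.Normal] (hns : ¬ Group.IsSolvable N) :
    ∃ P : Subgroup G, P ≤ N ∧ P.Normal ∧ ⁅P, P⁆ = P ∧ ¬ Group.IsSolvable P := by
  haveI : Finite (Subgroup G) := Finite.of_injective (fun H => (H : Set G)) SetLike.coe_injective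
  obtain ⟨P, ⟨hPN, hPn, hPs⟩, hmin⟩ := Set.Finite.exists_minimal
    (Set.toFinite {P : Subgroup G | P ≤ N ∧ P.Normal ∧ ¬ Group.IsSolvable P}) ⟨N, le_rfl, hN, hns⟩
  refine ⟨P, hPN, hPn, ?_, hPs⟩
  haveI := hPn
  have hle : ⁅P, P⁆ ≤ P := Subgroup.commutator_le_self P
  refine le_antisymm hle (hmin ⟨hle.trans hPN, inferInstance, ?_⟩ hle)
  intro hs
  apply hPs
  let T : Subgroup P := ⁅P, P⁆.subgroupOf P
  haveI : T.Normal := inferInstance
  haveI := hs
  haveI : Group.IsSolvable T := Group.isSolvable_of_surjective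
    (f := (Subgroup.subgroupOfEquivOfLe hle).symm.toMonoidHom) (MulEquiv.surjective _)
  have hcomm : ∀ a b : P ⧸ T, a * b = b * a := by
    intro a b
    obtain ⟨a, rfl⟩ := QuotientGroup.mk_surjective a
    obtain ⟨b, rfl⟩ := QuotientGroup.mk_surjective b
    rw [← QuotientGroup.mk_mul, ← QuotientGroup.mk_mul, QuotientGroup.eq, Subgroup.mem_subgroupOf]
    have := Subgroup.commutator_mem_commutator (inv_mem b.2) (inv_mem a.2)
    simpa [commutatorElement_def, mul_assoc] using this
  letI : CommGroup (P ⧸ T) := { (inferInstance : Group (P ⧸ T)) with mul_comm := hcomm }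
  haveI : Group.IsSolvable (P ⧸ T) := Group.isSolvable_of_comm mul_comm
  exact Group.isSolvable_of_ker_le_range T.subtype (QuotientGroup.mk' T)
    (by rw [QuotientGroup.ker_mk', Subgroup.range_subtype])

variable (hsub : ∀ H : Subgroup G, H ≠ ⊤ → ∀ x : H, x ∉ Subgroup.center H →
  IsMulCommutative (Subgroup.centralizer ({x} : Set H)))
include hsub

/-- In a proper subgroup an element commuting with two noncommuting elements is central. -/
theorem central_of_pair {H : Subgroup G} (hH : H ≠ ⊤) {x a b : G} (hx : x ∈ H) (ha : a ∈ H)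
    (hb : b ∈ H) (hax : Commute a x) (hbx : Commute b x) (hab : ¬ Commute a b) :
    ∀ k ∈ H, Commute k x := fun k hk => by
  by_contra hkx
  exact hab (commute_of_mem hsub hH hx hk hkx ha hb hax hbx)

/-- A perfect proper normal subgroup has central centraliser. -/
theorem centralizer_perfect_le {N : Subgroup G} [N.Normal] (hperf : ⁅N, N⁆ = N)
    (hns : ¬ Group.IsSolvable N) (hN : N ≠ ⊤) :
    Subgroup.centralizer (N : Set G) ≤ Subgroup.center G := by
  haveI : Fact (Nat.Prime 2) := ⟨Nat.prime_two⟩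
  intro y hy
  obtain ⟨S⟩ : Nonempty (Sylow 2 N) := inferInstance
  set T := (S : Subgroup N).map N.subtype with hT
  set H := Subgroup.normalizer (T : Set G) with hH
  have hsup : H ⊔ N = ⊤ := Sylow.normalizer_sup_eq_top S
  have hmem : ∀ a ∈ Subgroup.normalizer ((S : Subgroup N) : Set N), (a : G) ∈ H := fun a ha =>
    Subgroup.le_normalizer_map N.subtype ⟨a, ha, rfl⟩
  have hyT : y ∈ H := Subgroup.centralizer_le_normalizer _ fun t ht => hy t (Subgroup.map_subtype_le _ ht)
  have hHne : H ≠ ⊤ := by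
    intro e
    apply hns
    have hS : (S : Subgroup N).Normal := by
      refine ⟨fun s hs n => ?_⟩
      have h1 : (n : G) * s * (n : G)⁻¹ ∈ T :=
        (Subgroup.mem_normalizer_iff.1 (e ▸ Subgroup.mem_top (n : G) : (n : G) ∈ H) _).1 ⟨s, hs, rfl⟩
      obtain ⟨t, ht, hte⟩ := h1
      have : t = n * s * n⁻¹ := Subtype.ext hte
      exact this ▸ ht
    have h2 := isSolvable_normalizer_sylow S
    rw [Subgroup.normalizer_eq_top_iff.2 hS] at h2
    exact Group.isSolvable_of_surjective (G := (⊤ : Subgroup N)) (G' := N)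
      (f := (⊤ : Subgroup N).subtype) fun z => ⟨⟨z, trivial⟩, rfl⟩
  obtain ⟨a, ha, b, hb, hab⟩ := exists_noncomm_normalizer hns S
  have hall := central_of_pair hsub hHne hyT (hmem a ha) (hmem b hb) (hy a a.2) (hy b b.2)
    (fun h => hab (Subtype.ext h.eq))
  have htop : H ⊔ N ≤ Subgroup.centralizer ({y} : Set G) := sup_le
    (fun k hk => Subgroup.mem_centralizer_singleton_iff.2 (hall k hk).eq)
    (fun k hk => Subgroup.mem_centralizer_singleton_iff.2 (hy k hk))
  rw [hsup] at htop
  exact Subgroup.mem_center_iff.2 fun k =>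
    Subgroup.mem_centralizer_singleton_iff.1 (htop (Subgroup.mem_top k))

variable (hns : ¬ Group.IsSolvable G) {x g h : G} (hw : Wit x g h)
include hns hw

theorem cent_ne_top : Subgroup.centralizer ({x} : Set G) ≠ ⊤ := fun e => hw.nc
  (Subgroup.mem_center_iff.2 fun k =>
    Subgroup.mem_centralizer_singleton_iff.1 (e ▸ Subgroup.mem_top k))

/-- A normal subgroup centralised by a witness is solvable. -/
theorem isSolvable_of_le_cent {X : Subgroup G} [X.Normal]
    (hX : X ≤ Subgroup.centralizer ({x} : Set G)) : Group.IsSolvable X := by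
  by_contra hXs
  obtain ⟨P, hPX, hPn, hPp, hPs⟩ := exists_perfect_normal hXs
  haveI := hPn
  have hP : P ≠ ⊤ := fun e => cent_ne_top hsub hns hw (top_le_iff.1 (e ▸ hPX.trans hX))
  exact hw.nc (centralizer_perfect_le hsub hPp hPs hP fun k hk =>
    Subgroup.mem_centralizer_singleton_iff.1 (hX (hPX hk)))

/-- The solvable radical centralises every witness. -/
theorem radical_le_cent : Cfsg.solvableRadical G ≤ Subgroup.centralizer ({x} : Set G) := by
  set R := Cfsg.solvableRadical G
  set M := Subgroup.centralizer ({x} : Set G) with hM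
  have hxM : x ∈ M := Subgroup.mem_centralizer_singleton_iff.2 rfl
  have hex : ∃ Q : Subgroup G, Q ≤ M ∧ Group.IsSolvable Q ∧ x ∈ Q ∧
      ∃ a ∈ Q, ∃ b ∈ Q, ¬ Commute a b := by
    by_cases hMs : Group.IsSolvable M
    · exact ⟨M, le_rfl, hMs, hxM, g, Subgroup.mem_centralizer_singleton_iff.2 hw.gx.eq, h,
        Subgroup.mem_centralizer_singleton_iff.2 hw.hx.eq, hw.gh⟩
    obtain ⟨S⟩ : Nonempty (Sylow 2 M) := inferInstance
    obtain ⟨a, ha, b, hb, hab⟩ := exists_noncomm_normalizer hMs S
    set Q0 := (Subgroup.normalizer ((S : Subgroup M) : Set M)).map M.subtype with hQ0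
    have hQ0M : Q0 ≤ M := Subgroup.map_subtype_le _
    have hxn : x ∈ Subgroup.normalizer (Q0 : Set G) := Subgroup.centralizer_le_normalizer _ fun q hq =>
      Subgroup.mem_centralizer_singleton_iff.1 (hQ0M hq)
    refine ⟨Q0 ⊔ Subgroup.zpowers x, sup_le hQ0M (Subgroup.zpowers_le.2 hxM),
      Cfsg.Agent.FrobSys.isSolvable_sup_zpowers
        (CfsgLib.Coprime.isSolvable_map M.subtype (isSolvable_normalizer_sylow S)) hxn,
      le_sup_right (α := Subgroup G) (Subgroup.mem_zpowers x), a, le_sup_left (α := Subgroup G)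
        ⟨a, ha, rfl⟩, b, le_sup_left (α := Subgroup G) ⟨b, hb, rfl⟩,
      fun e => hab (Subtype.ext e.eq)⟩
  obtain ⟨Q, hQM, hQs, hxQ, a, ha, b, hb, hab⟩ := hex
  haveI : R.Normal := CfsgLib.Layer.solvableRadical_normal G
  have hH : R ⊔ Q ≠ ⊤ := ne_top_of_isSolvable hns
    (CfsgLib.ClassSizesFour.isSolvable_sup CfsgLib.Layer.solvableRadical_isSolvable hQs)
  have hall := central_of_pair hsub hH (le_sup_right (α := Subgroup G) hxQ)
    (le_sup_right (α := Subgroup G) ha) (le_sup_right (α := Subgroup G) hb)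
    (Subgroup.mem_centralizer_singleton_iff.1 (hQM ha))
    (Subgroup.mem_centralizer_singleton_iff.1 (hQM hb)) hab
  exact fun r hr => Subgroup.mem_centralizer_singleton_iff.2 (hall r (le_sup_left (α := Subgroup G) hr)).eq

/-- The solvable radical is central. -/
theorem radical_le_center : Cfsg.solvableRadical G ≤ Subgroup.center G := by
  set R := Cfsg.solvableRadical G with hR
  haveI hRn : R.Normal := CfsgLib.Layer.solvableRadical_normal G
  haveI hRs : Group.IsSolvable R := CfsgLib.Layer.solvableRadical_isSolvable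
  by_contra hRZ
  set M := Subgroup.centralizer ({x} : Set G) with hM
  have hmemM : ∀ {k : G}, k ∈ M ↔ Commute k x := Subgroup.mem_centralizer_singleton_iff
  have hRM : R ≤ M := radical_le_cent hsub hns hw
  have hCs : Group.IsSolvable (Subgroup.centralizer (R : Set G)) := by
    by_contra hC
    obtain ⟨P, hPC, hPn, hPp, hPs⟩ := exists_perfect_normal hC
    haveI := hPn
    have hP : P ≠ ⊤ := fun e => hRZ fun r hr => Subgroup.mem_center_iff.2 fun k =>
      (hPC (e ▸ Subgroup.mem_top k : k ∈ P) r hr).symm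
    exact hRZ fun r hr => centralizer_perfect_le hsub hPp hPs hP fun k hk => (hPC hk r hr).symm
  have hCR : Subgroup.centralizer (R : Set G) ≤ R :=
    CfsgLib.Layer.le_solvableRadical inferInstance hCs
  have hxR : x ∈ R := hCR fun r hr => (hmemM.1 (hRM hr)).eq
  have hzs : ∀ k : G, R ⊔ Subgroup.zpowers k ≠ ⊤ := fun k => ne_top_of_isSolvable hns
    (Cfsg.Agent.FrobSys.isSolvable_sup_zpowers hRs (Subgroup.le_normalizer_of_normal (Subgroup.mem_top k)))
  by_cases hRab : ∃ a ∈ R, ∃ b ∈ R, ¬ Commute a b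
  · obtain ⟨a, ha, b, hb, hab⟩ := hRab
    refine hw.nc (Subgroup.mem_center_iff.2 fun k => ?_)
    exact central_of_pair hsub (hzs k) (le_sup_left (α := Subgroup G) hxR)
      (le_sup_left (α := Subgroup G) ha) (le_sup_left (α := Subgroup G) hb)
      (hmemM.1 (hRM ha)) (hmemM.1 (hRM hb)) hab k
      (le_sup_right (α := Subgroup G) (Subgroup.mem_zpowers k))
  push Not at hRab
  have hkey : ∀ H : Subgroup G, H ≠ ⊤ → R ≤ H → ∀ m ∈ H, m ∈ M → m ∉ R → H ≤ M := by
    intro H hH hRH m hm hmM hmR
    obtain ⟨r, hr, hrm⟩ : ∃ r ∈ R, ¬ Commute m r := by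
      by_contra hall
      push Not at hall
      exact hmR (hCR fun r hr => ((hall r hr).symm).eq)
    exact fun k hk => hmemM.2 (central_of_pair hsub hH (hRH hxR) hm (hRH hr) (hmemM.1 hmM)
      (hmemM.1 (hRM hr)) hrm k hk)
  obtain ⟨m, hmM, hmR⟩ : ∃ m ∈ M, m ∉ R := by
    by_contra hall
    push Not at hall
    exact hw.gh (hRab g (hall g (hmemM.2 hw.gx)) h (hall h (hmemM.2 hw.hx)))
  have hMn : ¬ M.Normal := fun hn => hmR
    (CfsgLib.Layer.le_solvableRadical hn (isSolvable_of_le_cent hsub hns hw (X := M) le_rfl) hmM)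
  have hTI : ∀ k : G, k ∉ M → ∀ m ∈ M, k * m * k⁻¹ ∈ M → m ∈ R := by
    intro k hk m hm hkm
    by_contra hmR'
    refine hk ?_
    have hnormM : Subgroup.normalizer (M : Set G) ≤ M := hkey _ (fun e => hMn
      (Subgroup.normalizer_eq_top_iff.1 e)) (hRM.trans Subgroup.le_normalizer) m
      (Subgroup.le_normalizer hm) hm hmR'
    set H := M.map (MulAut.conj k).toMonoidHom with hH
    have hcard : Nat.card H = Nat.card M :=
      Subgroup.card_map_of_injective (MulAut.conj k).injective
    have hHt : H ≠ ⊤ := fun e => cent_ne_top hsub hns hw (Subgroup.eq_top_of_card_eq M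
      (by rw [← hcard, e, Subgroup.card_top]))
    have hRH : R ≤ H := fun r hr => ⟨k⁻¹ * r * k, hRM (by
      have := hRn.conj_mem r hr k⁻¹; rwa [inv_inv] at this), by simp [mul_assoc]⟩
    have hHM : H = M := Subgroup.eq_of_le_of_card_ge (hkey H hHt hRH _ ⟨m, hm, rfl⟩ hkm
      (fun h' => hmR' (by
        have := hRn.conj_mem _ h' k⁻¹
        simpa [mul_assoc] using this))) hcard.ge
    exact hnormM (Subgroup.mem_normalizer_iff.2 fun u => ⟨fun hu => hHM ▸ ⟨u, hu, rfl⟩, fun hu => by
      rw [← hHM] at hu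
      obtain ⟨v, hv, hvu⟩ := hu
      exact (MulAut.conj k).injective hvu ▸ hv⟩)
  set π := QuotientGroup.mk' R with hπ
  have hback : ∀ {k : G}, π k ∈ M.map π → k ∈ M := by
    rintro k ⟨j, hj, hjk⟩
    have hjr : j⁻¹ * k ∈ R := QuotientGroup.eq.1 hjk
    have := mul_mem hj (hRM hjr)
    rwa [mul_inv_cancel_left] at this
  have hFC : Cfsg.IsFrobeniusComplement (M.map π) := by
    refine ⟨?_, ?_, ?_⟩
    · intro e
      have h1 : π m ∈ (⊥ : Subgroup (G ⧸ R)) := e ▸ ⟨m, hmM, rfl⟩
      exact hmR ((QuotientGroup.eq_one_iff m).1 h1)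
    · intro e
      exact cent_ne_top hsub hns hw
        (top_le_iff.1 fun k _ => hback (e ▸ Subgroup.mem_top (π k)))
    · intro q hq
      obtain ⟨k, rfl⟩ := QuotientGroup.mk'_surjective R q
      rw [Subgroup.eq_bot_iff_forall]
      rintro _ ⟨⟨j, hj, rfl⟩, hj2⟩
      replace hj2 := Subgroup.mem_pointwise_smul_iff_inv_smul_mem.1 hj2
      rw [MulAut.smul_def,
        MulAut.inv_apply, MulAut.conj_symm_apply] at hj2
      rw [← map_inv, ← map_mul, ← map_mul] at hj2
      have hk : k⁻¹ ∉ M := fun e => hq ⟨k, by simpa using inv_mem e, rfl⟩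
      refine (QuotientGroup.eq_one_iff j).2 (hTI k⁻¹ hk j hj ?_)
      rw [inv_inv]
      exact hback hj2
  obtain ⟨N, hN', hc, hN⟩ : ∃ N : Subgroup (G ⧸ R), N.Normal ∧
      Subgroup.IsComplement' N (M.map π) ∧ Group.IsNilpotent N := by
    obtain ⟨N, -, hN, hc⟩ := CfsgLib.FrobCompl.exists_kernel_complement hFC
    exact ⟨N, hN, hc, CfsgLib.FrobCompl.kernel_isNilpotent hFC hN hc⟩
  haveI := hN'
  haveI := hN
  have hle : N.comap π ≤ R := by
    refine CfsgLib.Layer.le_solvableRadical inferInstance ?_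
    haveI : Group.IsSolvable N := inferInstance
    haveI : Group.IsSolvable π.ker := by rw [hπ, QuotientGroup.ker_mk']; exact hRs
    refine Group.isSolvable_of_ker_le_range (G' := π.ker) (G'' := N)
      (Subgroup.inclusion (Subgroup.ker_le_comap π N))
      ((π.comp (N.comap π).subtype).codRestrict N fun z => z.2) ?_
    intro z hz
    exact ⟨⟨z, congrArg Subtype.val hz⟩, rfl⟩
  have hNbot : N = ⊥ := by
    rw [Subgroup.eq_bot_iff_forall]
    intro n hn
    obtain ⟨k, rfl⟩ := QuotientGroup.mk'_surjective R n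
    exact (QuotientGroup.eq_one_iff k).2 (hle hn)
  have := hc.sup_eq_top
  rw [hNbot, bot_sup_eq] at this
  exact hFC.2.1 this

end CfsgLib.MinNonCA
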