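import Cfsg.Agent.Lib.MinNonCA.ProperExt
import Cfsg.Agent.Lib.MinNonCA.OuterFinal

/-!
A nonsolvable minimal non-CA group is perfect and simple modulo its centre (S4369, reduction).
-/

set_option autoImplicit false
set_option linter.style.haveILetI false
set_option linter.unusedSectionVars false

namespace CfsgLib.MinNonCA

variable {G : Type*} [Group G] [Finite G]

/-- A witness may be replaced by a power of prime order modulo the centre. -/
theorem Wit.exists_prime {x g h : G} (hw : Wit x g h) :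
    ∃ (x' : G) (p : ℕ), p.Prime ∧ x' ^ p ∈ Subgroup.center G ∧ Wit x' g h := by
  set π := QuotientGroup.mk' (Subgroup.center G) with hπ
  have hn1 : orderOf (π x) ≠ 1 := fun e =>
    hw.nc ((QuotientGroup.eq_one_iff x).1 (orderOf_eq_one_iff.1 e))
  obtain ⟨p, hp, j, hj⟩ := Nat.exists_prime_and_dvd hn1
  refine ⟨x ^ j, p, hp, ?_, ?_, hw.gx.pow_right j, hw.hx.pow_right j, hw.gh⟩
  · rw [← pow_mul, mul_comm, ← hj]
    exact (QuotientGroup.eq_one_iff _).1 ((map_pow π x _).trans (pow_orderOf_eq_one (π x)))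
  · intro e
    have h1 : (π x) ^ j = 1 := by rw [← map_pow]; exact (QuotientGroup.eq_one_iff _).2 e
    have hpos : 0 < p * j := hj ▸ orderOf_pos (π x)
    have h2 := Nat.le_of_dvd (Nat.pos_of_mul_pos_left hpos) (orderOf_dvd_of_pow_eq_one h1)
    rw [hj] at h2
    have := Nat.mul_lt_mul_of_pos_right hp.one_lt (Nat.pos_of_mul_pos_left hpos)
    omega

/-- The reduction to quasisimple groups. -/
theorem quasisimple_of_minimal (hns : ¬ Group.IsSolvable G)
    (hsub : ∀ H : Subgroup G, H ≠ ⊤ → ∀ x : H, x ∉ Subgroup.center H →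
      IsMulCommutative (Subgroup.centralizer ({x} : Set H)))
    (hnCA : ∃ x : G, x ∉ Subgroup.center G ∧ ¬ IsMulCommutative (Subgroup.centralizer ({x} : Set G))) :
    commutator G = ⊤ ∧ IsSimpleGroup (G ⧸ Subgroup.center G) := by
  obtain ⟨x, hxZ, hxC⟩ := hnCA
  obtain ⟨g, h, hw⟩ : ∃ g h : G, Wit x g h := by
    by_contra hall
    apply hxC
    refine ⟨⟨fun u v => Subtype.ext ?_⟩⟩
    by_contra huv
    exact hall ⟨u, v, hxZ, Subgroup.mem_centralizer_singleton_iff.1 u.2,
      Subgroup.mem_centralizer_singleton_iff.1 v.2, huv⟩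
  rcases quasisimple_or_normal hsub hns hw with hq | ⟨N, hNn, hN, hNs, hNp, hNsimp, hCN⟩
  · exact hq
  exfalso
  haveI := hNn
  obtain ⟨x', p, hp, hxp, hw'⟩ := hw.exists_prime
  by_cases hNx : N ⊔ Subgroup.zpowers x' = ⊤
  · have c : NCtx N p := ⟨hNn, hN, hsub, hNs, hns, hNp, hNsimp, hCN, hp⟩
    have hdec : ∀ k : G, Commute k x' → ∃ m ∈ N, ∃ i : ℤ, k = m * x' ^ i ∧ Commute m x' := by
      intro k hk
      have hk' : k ∈ ((N ⊔ Subgroup.zpowers x' : Subgroup G) : Set G) := by
        rw [hNx]; exact Subgroup.mem_top k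
      rw [Subgroup.normal_mul] at hk'
      obtain ⟨m, hm, y, hy, rfl⟩ := hk'
      obtain ⟨i, rfl⟩ := Subgroup.mem_zpowers_iff.1 hy
      refine ⟨m, hm, i, rfl, ?_⟩
      have h1 := hk.mul_left ((Commute.refl x').zpow_left i).inv_left
      rwa [mul_inv_cancel_right] at h1
    obtain ⟨m, hm, i, rfl, hmx⟩ := hdec g hw'.gx
    obtain ⟨m', hm', j, rfl, hmx'⟩ := hdec h hw'.hx
    refine no_outer c (x := x') ⟨hNx, hxp, hw'.nc, m, hm, m', hm', hmx, hmx', fun e => hw'.gh ?_⟩
    exact (e.mul_right (hmx.zpow_right j)).mul_left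
      ((hmx'.zpow_right i).symm.mul_right ((Commute.refl x').zpow_zpow i j))
  · exact no_proper_extension hsub hns hw' hp hxp hNs hNsimp hCN hNx

end CfsgLib.MinNonCA
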