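import Cfsg.Agent.Lib.MinNonCA.CenterMod

/-!
The Sylow 2-subgroup modulo the centre, and the centraliser modulo the centre of a 2-central
element (S4369).
-/

set_option autoImplicit false
set_option linter.style.haveILetI false
set_option linter.unusedSectionVars false

namespace CfsgLib.MinNonCA

variable {G : Type*} [Group G] [Finite G]
variable (hsimp : IsSimpleGroup (G ⧸ Subgroup.center G)) (hperf : commutator G = ⊤)
variable (hsub : ∀ H : Subgroup G, H ≠ ⊤ →
  ∀ x : H, x ∉ Subgroup.center H → IsMulCommutative (Subgroup.centralizer ({x} : Set H)))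
variable (S : Sylow 2 G)

include hsimp hperf

/-- An element of `S` outside the centre, central in `S` modulo the centre and of square central. -/
theorem exists_central_mod
    (hnab : ∃ x ∈ (S : Subgroup G), ∃ y ∈ (S : Subgroup G), ¬ Commute x y) :
    ∃ w ∈ (S : Subgroup G), w ∉ Subgroup.center G ∧ w ^ 2 ∈ Subgroup.center G ∧
      (S : Subgroup G) ≤ modCent w := by
  haveI : Fact (Nat.Prime 2) := ⟨Nat.prime_two⟩
  set π := QuotientGroup.mk' (Subgroup.center G) with hπ
  set P := (S : Subgroup G).map π with hP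
  have hPp : IsPGroup 2 P := S.isPGroup'.map π
  obtain ⟨x, hx, y, hy, hxy⟩ := hnab
  have hx1 : π x ≠ 1 := fun h => hxy (mem_center_iff'.mp ((QuotientGroup.eq_one_iff x).mp h) y).symm
  haveI : Nontrivial P := ⟨⟨⟨π x, Subgroup.mem_map_of_mem _ hx⟩, 1, fun h => hx1 (congrArg Subtype.val h)⟩⟩
  haveI := hPp.center_nontrivial
  obtain ⟨k, hk⟩ := (hPp.to_subgroup (Subgroup.center P)).exists_card_eq
  have hdvd : 2 ∣ Nat.card (Subgroup.center P) := by
    rw [hk]
    refine dvd_pow_self 2 fun h => ?_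
    rw [h, pow_zero] at hk
    exact absurd hk (Finite.one_lt_card (α := Subgroup.center P)).ne'
  obtain ⟨⟨⟨q, hqP⟩, hqc⟩, hq⟩ := exists_prime_orderOf_dvd_card' 2 hdvd
  obtain ⟨w, hwS, rfl⟩ := hqP
  have ho : orderOf (π w) = 2 := by
    rw [← hq]
    exact (orderOf_injective ((Subgroup.subtype P).comp (Subgroup.subtype (Subgroup.center P)))
      ((Subgroup.subtype_injective _).comp (Subgroup.subtype_injective _))
      (⟨⟨π w, _⟩, hqc⟩ : Subgroup.center P))
  have hwc : w ∉ Subgroup.center G := fun h => by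
    rw [hπ, QuotientGroup.mk'_apply, (QuotientGroup.eq_one_iff w).mpr h, orderOf_one] at ho
    omega
  refine ⟨w, hwS, hwc, ?_, fun s hs => Subgroup.mem_comap.mpr (Subgroup.mem_centralizer_singleton_iff.mpr ?_)⟩
  · have := pow_orderOf_eq_one (π w)
    rw [ho, ← map_pow] at this
    exact (QuotientGroup.eq_one_iff _).mp this
  · exact congrArg Subtype.val (Subgroup.mem_center_iff.mp hqc ⟨π s, Subgroup.mem_map_of_mem _ hs⟩)

include hsub

/-- Step 1 for a 2-central element: abelian centraliser, containing all odd elements commuting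
with it modulo the centre. -/
theorem central_lift (hZ : ∀ z ∈ (S : Subgroup G), (∀ s ∈ (S : Subgroup G), Commute z s) → z ∈ Subgroup.center G)
    {w : G} (hwS : w ∈ (S : Subgroup G)) (hw : w ∉ Subgroup.center G) (hS : (S : Subgroup G) ≤ modCent w) :
    (∀ x y : G, Commute x w → Commute y w → Commute x y) ∧
      ∀ g ∈ modCent w, Odd (orderOf g) → Commute g w := by
  haveI : Fact (Nat.Prime 2) := ⟨Nat.prime_two⟩
  obtain ⟨u, hu, huw⟩ : ∃ u ∈ (S : Subgroup G), ¬ Commute u w := by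
    by_contra h
    push Not at h
    exact hw (hZ w hwS fun s hs => (h s hs).symm)
  refine ⟨abelian_centralizer_of_moved hsimp hperf hsub (hS hu) huw, fun g hg hodd => ?_⟩
  obtain ⟨j, hj⟩ := IsPGroup.iff_orderOf.mp S.isPGroup' ⟨w, hwS⟩
  rw [Subgroup.orderOf_mk] at hj
  set z := g * w * g⁻¹ * w⁻¹ with hz
  have hzc : z ∈ Subgroup.center G := mem_modCent_iff.mp hg
  have hgw : g * w * g⁻¹ = z * w := by rw [hz]; group
  have hiter : ∀ n : ℕ, g ^ n * w * (g ^ n)⁻¹ = z ^ n * w := by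
    intro n
    induction n with
    | zero => simp
    | succ n ih =>
      have hc := (mem_center_iff'.mp (pow_mem hzc n) g).eq
      calc g ^ (n + 1) * w * (g ^ (n + 1))⁻¹ = g * (g ^ n * w * (g ^ n)⁻¹) * g⁻¹ := by rw [pow_succ']; group
        _ = g * z ^ n * w * g⁻¹ := by rw [ih]; group
        _ = z ^ n * (g * w * g⁻¹) := by rw [hc]; group
        _ = z ^ (n + 1) * w := by rw [hgw, ← mul_assoc, ← pow_succ]
  have h1 : z ^ orderOf g = 1 := by
    have := hiter (orderOf g)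
    rw [pow_orderOf_eq_one, one_mul, inv_one, mul_one] at this
    exact (mul_eq_right.mp this.symm)
  have h2 : z ^ 2 ^ j = 1 := by
    have := congrArg (fun v => v ^ 2 ^ j) hgw
    simp only [conj_pow, ← hj, pow_orderOf_eq_one, mul_one, mul_inv_cancel] at this
    rw [Commute.mul_pow (mem_center_iff'.mp hzc w).symm, pow_orderOf_eq_one, mul_one, hj] at this
    exact this.symm
  have h3 : z = 1 := orderOf_eq_one_iff.mp (Nat.eq_one_of_dvd_coprimes
    ((Nat.coprime_two_right.mpr hodd).pow_right j) (orderOf_dvd_of_pow_eq_one h1) (orderOf_dvd_of_pow_eq_one h2))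
  rw [h3, one_mul, mul_inv_eq_iff_eq_mul] at hgw
  exact hgw

/-- Step 0: modulo the centre a nonabelian Sylow 2-subgroup is elementary or has an abelian
subgroup of index two inverted by everything outside. -/
theorem sylow_shape (hZ : ∀ z ∈ (S : Subgroup G), (∀ s ∈ (S : Subgroup G), Commute z s) → z ∈ Subgroup.center G)
    (hnab : ∃ x ∈ (S : Subgroup G), ∃ y ∈ (S : Subgroup G), ¬ Commute x y) :
    (∀ s ∈ (S : Subgroup G), s ^ 2 ∈ Subgroup.center G) ∨
      ∃ A : Subgroup G, A ≤ (S : Subgroup G) ∧ (∀ a ∈ A, ∀ b ∈ A, Commute a b) ∧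
        A.relIndex (S : Subgroup G) = 2 ∧ (S : Subgroup G) ⊓ Subgroup.center G ≤ A ∧
        (∃ a ∈ A, a ^ 2 ∉ Subgroup.center G) ∧
        (∀ b ∈ A, b ∉ Subgroup.center G → ∀ x ∈ (S : Subgroup G), Commute x b → x ∈ A) ∧
        ∀ s ∈ (S : Subgroup G), s ∉ A → s ^ 2 ∈ Subgroup.center G ∧
          ∀ b ∈ A, s * b * s⁻¹ * b ∈ Subgroup.center G := by
  classical
  haveI : Fact (Nat.Prime 2) := ⟨Nat.prime_two⟩
  by_cases helem : ∀ s ∈ (S : Subgroup G), s ^ 2 ∈ Subgroup.center G
  · exact Or.inl helem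
  right
  push Not at helem
  obtain ⟨a₀, ha₀, ha₀2⟩ := helem
  obtain ⟨w, hwS, hw, hw2, hSw⟩ := exists_central_mod hsimp hperf S hnab
  have hStop : (S : Subgroup G) ≠ ⊤ := fun h => by
    have := modCent_ne_top hsimp hperf hw
    exact this (top_le_iff.mp (h ▸ hSw))
  -- centralisers inside `S` of noncentral elements are abelian
  have hCA : ∀ b ∈ (S : Subgroup G), b ∉ Subgroup.center G → ∀ x ∈ (S : Subgroup G), ∀ y ∈ (S : Subgroup G),
      Commute x b → Commute y b → Commute x y := by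
    intro b hb hbc x hx y hy hxb hyb
    obtain ⟨u, hu, hub⟩ : ∃ u ∈ (S : Subgroup G), ¬ Commute u b := by
      by_contra h
      push Not at h
      exact hbc (hZ b hb fun s hs => (h s hs).symm)
    exact commute_of_mem hsub hStop hb hu hub hx hy hxb hyb
  set A := (S : Subgroup G) ⊓ Subgroup.centralizer ({w} : Set G) with hA
  have hAw : ∀ x ∈ A, Commute x w := fun x hx => Subgroup.mem_centralizer_singleton_iff.mp hx.2
  have hmemA : ∀ x ∈ (S : Subgroup G), Commute x w → x ∈ A := fun x hx h =>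
    ⟨hx, Subgroup.mem_centralizer_singleton_iff.mpr h.eq⟩
  have hAab : ∀ a ∈ A, ∀ b ∈ A, Commute a b := fun a ha b hb =>
    hCA w hwS hw a ha.1 b hb.1 (hAw a ha) (hAw b hb)
  have hAmax : ∀ b ∈ A, b ∉ Subgroup.center G → ∀ x ∈ (S : Subgroup G), Commute x b → x ∈ A :=
    fun b hb hbc x hx hxb => hmemA x hx (hCA b hb.1 hbc x hx w hwS hxb (hAw b hb).symm)
  have hbig : ∀ s ∈ (S : Subgroup G), s ^ 2 ∉ Subgroup.center G → s ∈ A := by
    intro s hs hs2
    set z := s * w * s⁻¹ * w⁻¹ with hz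
    have hzc : z ∈ Subgroup.center G := mem_modCent_iff.mp (hSw hs)
    have hsw : s * w * s⁻¹ = z * w := by rw [hz]; group
    have hz2 : z * z = 1 := by
      have h1 : s * w ^ 2 * s⁻¹ = w ^ 2 := by
        rw [(mem_center_iff'.mp hw2 s).eq, mul_inv_cancel_right]
      rw [show s * w ^ 2 * s⁻¹ = (s * w * s⁻¹) * (s * w * s⁻¹) by rw [pow_two]; group, hsw, pow_two] at h1
      have h2 : z * w * (z * w) = z * z * (w * w) := by
        calc z * w * (z * w) = z * (w * z) * w := by group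
          _ = z * (z * w) * w := by rw [(mem_center_iff'.mp hzc w).eq]
          _ = _ := by group
      rw [h2] at h1
      exact mul_eq_right.mp h1
    have hc2 : Commute (s ^ 2) w := by
      have h : s ^ 2 * w * (s ^ 2)⁻¹ = w := by
        calc s ^ 2 * w * (s ^ 2)⁻¹ = s * (s * w * s⁻¹) * s⁻¹ := by rw [pow_two]; group
          _ = s * z * w * s⁻¹ := by rw [hsw]; group
          _ = z * (s * w * s⁻¹) := by rw [(mem_center_iff'.mp hzc s).eq]; group
          _ = w := by rw [hsw, ← mul_assoc, hz2, one_mul]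
      exact mul_inv_eq_iff_eq_mul.mp h
    exact hmemA s hs (hCA (s ^ 2) (pow_mem hs 2) hs2 s hs w hwS (Commute.self_pow s 2) hc2.symm)
  have hsq : ∀ s ∈ (S : Subgroup G), s ∉ A → s ^ 2 ∈ Subgroup.center G := fun s hs hsA => by
    by_contra h
    exact hsA (hbig s hs h)
  have hinv : ∀ s ∈ (S : Subgroup G), s ∉ A → ∀ b ∈ A, s * b * s⁻¹ * b ∈ Subgroup.center G := by
    intro s hs hsA b hb
    have h1 := hsq s hs hsA
    have h2 := hsq _ (mul_mem hs hb.1) (fun h => hsA (by
      have := mul_mem h (inv_mem hb)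
      rwa [mul_inv_cancel_right] at this))
    have e3 : s * b * s⁻¹ * b = (s * b) ^ 2 * (b⁻¹ * (s ^ 2)⁻¹ * b) := by
      rw [pow_two, pow_two]; group
    rw [e3]
    exact mul_mem h2 (by simpa using (inferInstance : (Subgroup.center G).Normal).conj_mem _ (inv_mem h1) b⁻¹)
  have ha₀A : a₀ ∈ A := hbig a₀ ha₀ ha₀2
  refine ⟨A, inf_le_left, hAab, ?_, fun z hz => hmemA z hz.1 (mem_center_iff'.mp hz.2 w).symm,
    ⟨a₀, ha₀A, ha₀2⟩, hAmax, fun s hs hsA => ⟨hsq s hs hsA, hinv s hs hsA⟩⟩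
  -- index two
  obtain ⟨u, hu, huA⟩ : ∃ u ∈ (S : Subgroup G), u ∉ A := by
    by_contra h
    push Not at h
    exact hw (hZ w hwS fun s hs => (hAw s (h s hs)).symm)
  rw [Subgroup.relIndex, Subgroup.index_eq_two_iff]
  refine ⟨⟨u, hu⟩, fun v => ?_⟩
  simp only [Subgroup.mem_subgroupOf, Subgroup.coe_mul]
  by_cases hv : (v : G) ∈ A
  · refine Or.inr ⟨hv, fun h => huA ?_⟩
    have := mul_mem (inv_mem hv) h
    rwa [inv_mul_cancel_left] at this
  · refine Or.inl ⟨?_, hv⟩
    by_contra hvu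
    apply ha₀2
    have h1 := hinv _ v.2 hv a₀ ha₀A
    have h2 := hinv _ hu huA a₀ ha₀A
    have h3 := hinv _ (mul_mem v.2 hu) hvu a₀ ha₀A
    set z₁ := (v : G) * a₀ * (v : G)⁻¹ * a₀ with hz₁
    set z₂ := u * a₀ * u⁻¹ * a₀ with hz₂
    have e : (v : G) * u * a₀ * ((v : G) * u)⁻¹ * a₀ = z₂ * a₀ * z₁⁻¹ * a₀ := by
      calc (v : G) * u * a₀ * ((v : G) * u)⁻¹ * a₀ = (v : G) * z₂ * (a₀⁻¹ * (v : G)⁻¹) * a₀ := by
            rw [hz₂]; group
        _ = z₂ * (v : G) * (a₀⁻¹ * (v : G)⁻¹) * a₀ := by rw [(mem_center_iff'.mp h2 (v : G)).eq]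
        _ = _ := by rw [hz₁]; group
    rw [e] at h3
    have h4 : a₀ * z₁⁻¹ * a₀ ∈ Subgroup.center G := by
      have := mul_mem (inv_mem h2) h3
      rwa [show z₂⁻¹ * (z₂ * a₀ * z₁⁻¹ * a₀) = a₀ * z₁⁻¹ * a₀ by group] at this
    rw [(mem_center_iff'.mp (inv_mem h1) a₀).eq, mul_assoc, ← pow_two] at h4
    have := mul_mem h1 h4
    rwa [mul_inv_cancel_left] at this

end CfsgLib.MinNonCA
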