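import Cfsg.Agent.Lib.MinNonCA.Quasisimple

/-!
A quasisimple group has no TI self-normalising subgroup modulo its centre (S4369, reduction).
-/

set_option autoImplicit false
set_option linter.style.haveILetI false
set_option linter.unusedSectionVars false

namespace CfsgLib.MinNonCA

variable {G : Type*} [Group G] [Finite G]

/-- No proper noncentral subgroup of a quasisimple subgroup `N` is TI modulo the centre of `G`. -/
theorem no_ti {N : Subgroup G} (hNs : ¬ Group.IsSolvable N)
    (hNsimp : IsSimpleGroup (N ⧸ Subgroup.center N))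
    (hCN : Subgroup.centralizer (N : Set G) ≤ Subgroup.center G)
    {A : Subgroup G} (hAN : A ≤ N) (hne : A ≠ N) (hAZ : ∃ a ∈ A, a ∉ Subgroup.center G)
    (hZA : ∀ z ∈ N, z ∈ Subgroup.center G → z ∈ A)
    (hTI : ∀ n ∈ N, n ∉ A → ∀ a ∈ A, n * a * n⁻¹ ∈ A → a ∈ Subgroup.center G) : False := by
  have hcen : ∀ z : N, z ∈ Subgroup.center N ↔ (z : G) ∈ Subgroup.center G := fun z =>
    ⟨fun hz => hCN fun m hm => congrArg Subtype.val (Subgroup.mem_center_iff.1 hz ⟨m, hm⟩),
      fun hz => Subgroup.mem_center_iff.2 fun m => Subtype.ext (Subgroup.mem_center_iff.1 hz m)⟩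
  set π := QuotientGroup.mk' (Subgroup.center N) with hπ
  set H := A.subgroupOf N with hH
  have hback : ∀ {k : N}, π k ∈ H.map π → k ∈ H := by
    rintro k ⟨j, hj, hjk⟩
    have hc : j⁻¹ * k ∈ Subgroup.center N := QuotientGroup.eq.1 hjk
    have h1 : j⁻¹ * k ∈ H := Subgroup.mem_subgroupOf.2 (hZA _ (j⁻¹ * k).2 ((hcen _).1 hc))
    have := mul_mem hj h1
    rwa [mul_inv_cancel_left] at this
  have hFC : Cfsg.IsFrobeniusComplement (H.map π) := by
    refine ⟨?_, ?_, ?_⟩
    · obtain ⟨a, ha, haz⟩ := hAZ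
      intro e
      have h1 : π ⟨a, hAN ha⟩ ∈ (⊥ : Subgroup (N ⧸ Subgroup.center N)) :=
        e ▸ ⟨⟨a, hAN ha⟩, Subgroup.mem_subgroupOf.2 ha, rfl⟩
      exact haz ((hcen _).1 ((QuotientGroup.eq_one_iff (⟨a, hAN ha⟩ : N)).1 h1))
    · intro e
      exact hne (le_antisymm hAN fun n hn =>
        Subgroup.mem_subgroupOf.1 (hback (k := ⟨n, hn⟩) (e ▸ Subgroup.mem_top _)))
    · intro q hq
      obtain ⟨k, rfl⟩ := QuotientGroup.mk'_surjective _ q
      rw [Subgroup.eq_bot_iff_forall]
      rintro _ ⟨⟨j, hj, rfl⟩, hj2⟩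
      replace hj2 := Subgroup.mem_pointwise_smul_iff_inv_smul_mem.1 hj2
      rw [MulAut.smul_def, MulAut.inv_apply, MulAut.conj_symm_apply] at hj2
      rw [← map_inv, ← map_mul, ← map_mul] at hj2
      refine (QuotientGroup.eq_one_iff j).2 ((hcen j).2 (hTI (k⁻¹ : N) (k⁻¹).2 ?_ j hj ?_))
      · exact fun e => hq ⟨k, Subgroup.mem_subgroupOf.2 (by simpa using inv_mem e), rfl⟩
      · have := Subgroup.mem_subgroupOf.1 (hback hj2)
        simpa using this
  obtain ⟨K, -, hK, hc⟩ := CfsgLib.FrobCompl.exists_kernel_complement hFC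
  haveI := CfsgLib.FrobCompl.kernel_isNilpotent hFC hK hc
  haveI := hNsimp
  rcases IsSimpleGroup.eq_bot_or_eq_top_of_normal K hK with e | e
  · have := hc.sup_eq_top
    rw [e, bot_sup_eq] at this
    exact hFC.2.1 this
  · apply hNs
    haveI : Group.IsSolvable K := inferInstance
    haveI : Group.IsSolvable (N ⧸ Subgroup.center N) := Group.isSolvable_of_surjective
      (f := K.subtype) fun q => ⟨⟨q, e ▸ Subgroup.mem_top q⟩, rfl⟩
    haveI : Group.IsSolvable (Subgroup.center N) := Group.isSolvable_of_comm fun a b =>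
      Subtype.ext (Subgroup.mem_center_iff.1 b.2 a)
    exact Group.isSolvable_of_ker_le_range (Subgroup.center N).subtype π
      (by rw [QuotientGroup.ker_mk', Subgroup.range_subtype])

end CfsgLib.MinNonCA
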